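import Cfsg.Agent.Lib.PMinusTwo.Data
import Cfsg.Agent.Lib.Blocks.PrincipalColumn

/-!
# The rows in the families, and the triviality of the center
-/

set_option autoImplicit false
set_option linter.unusedSectionVars false
set_option linter.style.haveILetI false

namespace CfsgLib.PMinusTwo

open Cfsg CfsgLib
open scoped ComplexConjugate CfsgLib.Char
open scoped _root_.Classical

theorem ineq_upper (k p : ℤ) (hk : 1 ≤ k) (hp : 7 ≤ p) :
    3 * ((2 * k + 1) * (p - 1)) ^ 2 < 2 * (p - 2) * (k * p + 1) * (k * p + p - 1) := by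
  obtain ⟨a, ha, rfl⟩ : ∃ a, 0 ≤ a ∧ k = a + 1 := ⟨k - 1, by omega, by ring⟩
  obtain ⟨b, hb, rfl⟩ : ∃ b, 0 ≤ b ∧ p = b + 7 := ⟨p - 7, by omega, by ring⟩
  rw [← sub_pos]; ring_nf; positivity

theorem ineq_lower_pos (K p : ℤ) (hk : 1 ≤ K) (hp : 7 ≤ p) :
    2 * (K * p + 1) * (K * p + 2) < 3 * (K * (p - 1) + 2) ^ 2 := by
  obtain ⟨a, ha, rfl⟩ : ∃ a, 0 ≤ a ∧ K = a + 1 := ⟨K - 1, by omega, by ring⟩
  obtain ⟨b, hb, rfl⟩ : ∃ b, 0 ≤ b ∧ p = b + 7 := ⟨p - 7, by omega, by ring⟩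
  rw [← sub_pos]; ring_nf; positivity

theorem ineq_lower_neg (K p : ℤ) (hk : 1 ≤ K) (hp : 7 ≤ p) :
    2 * (K * p - 1) * (K * p - 2) < 3 * (K * (p - 1)) ^ 2 := by
  obtain ⟨a, ha, rfl⟩ : ∃ a, 0 ≤ a ∧ K = a + 1 := ⟨K - 1, by omega, by ring⟩
  obtain ⟨b, hb, rfl⟩ : ∃ b, 0 ≤ b ∧ p = b + 7 := ⟨p - 7, by omega, by ring⟩
  rw [← sub_pos]; ring_nf; positivity

namespace Data

variable {H : Type*} [Group H] [Fintype H] {p : ℕ} [Fact p.Prime] (D : Data H p)

/-- The characters moved at the index `j`. -/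
noncomputable def supp (θ : Subgroup.center H →* ℂ) (j : ℕ) : Finset (IrrCharacter H) :=
  (D.fam θ).filter fun χ => D.u χ j ≠ 0

theorem u_sq_le {θ : Subgroup.center H →* ℂ} {χ : IrrCharacter H} (hχ : χ ∈ D.fam θ) {j : ℕ}
    (hj : j ∈ D.J) : D.u χ j = -1 ∨ D.u χ j = 0 ∨ D.u χ j = 1 := by
  have h := D.gram θ hj hj
  rw [if_pos rfl] at h
  have h1 : D.u χ j * D.u χ j ≤ 3 := by
    rw [show (3 : ℤ) = 2 + 1 from rfl, ← h]
    exact Finset.single_le_sum (f := fun χ => D.u χ j * D.u χ j) (fun _ _ => mul_self_nonneg _) hχ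
  have h2 : -1 ≤ D.u χ j ∧ D.u χ j ≤ 1 := by constructor <;> nlinarith
  omega

theorem u_mul_self {θ : Subgroup.center H →* ℂ} {χ : IrrCharacter H} (hχ : χ ∈ D.fam θ) {j : ℕ}
    (hj : j ∈ D.J) : D.u χ j * D.u χ j = if D.u χ j ≠ 0 then 1 else 0 := by
  rcases D.u_sq_le hχ hj with h | h | h <;> simp [h]

theorem card_supp (θ : Subgroup.center H →* ℂ) {j : ℕ} (hj : j ∈ D.J) : (D.supp θ j).card = 3 := by
  have h := D.gram θ hj hj
  rw [if_pos rfl, Finset.sum_congr rfl fun χ hχ => D.u_mul_self hχ hj, Finset.sum_boole] at h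
  exact_mod_cast h

/-- All nonzero entries of a row agree. -/
theorem sign_const {θ : Subgroup.center H →* ℂ} {χ : IrrCharacter H} (hχ : χ ∈ D.fam θ) {j l : ℕ}
    (hj : j ∈ D.J) (hl : l ∈ D.J) (h1 : D.u χ j ≠ 0) (h2 : D.u χ l ≠ 0) :
    D.u χ j = D.u χ l := by
  rcases eq_or_ne j l with rfl | hjl
  · rfl
  by_contra hne
  have hg := D.gram θ hj hl
  rw [if_neg hjl, add_zero, ← Finset.add_sum_erase _ _ hχ] at hg
  have hsq := D.gram θ hj hj
  rw [if_pos rfl, ← Finset.add_sum_erase _ _ hχ] at hsq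
  have hle : ∑ x ∈ (D.fam θ).erase χ, D.u x j * D.u x l ≤
      ∑ x ∈ (D.fam θ).erase χ, D.u x j * D.u x j := Finset.sum_le_sum fun x hx => by
    have hx' := Finset.mem_of_mem_erase hx
    rcases D.u_sq_le hx' hj with a | a | a <;> rcases D.u_sq_le hx' hl with b | b | b <;>
      simp [a, b]
  rcases D.u_sq_le hχ hj with a | a | a <;> rcases D.u_sq_le hχ hl with b | b | b <;>
    rw [a] at h1 hne hg hsq <;> rw [b] at h2 hne hg <;> omega

theorem card_inter (θ : Subgroup.center H →* ℂ) {j l : ℕ} (hj : j ∈ D.J) (hl : l ∈ D.J)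
    (hjl : j ≠ l) : (D.supp θ j ∩ D.supp θ l).card = 2 := by
  have hg := D.gram θ hj hl
  rw [if_neg hjl, add_zero, Finset.sum_congr rfl (g := fun χ =>
    if D.u χ j ≠ 0 ∧ D.u χ l ≠ 0 then (1 : ℤ) else 0) fun χ hχ => ?_, Finset.sum_boole] at hg
  · rw [show D.supp θ j ∩ D.supp θ l = (D.fam θ).filter fun χ => D.u χ j ≠ 0 ∧ D.u χ l ≠ 0 by
      ext χ; simp [supp]; tauto]
    exact_mod_cast hg
  · by_cases h : D.u χ j ≠ 0 ∧ D.u χ l ≠ 0
    · rw [if_pos h, ← D.sign_const hχ hj hl h.1 h.2]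
      rcases D.u_sq_le hχ hj with a | a | a
      · simp [a]
      · exact absurd a h.1
      · simp [a]
    · rw [if_neg h]
      by_cases ha : D.u χ j = 0
      · simp [ha]
      · simp [show D.u χ l = 0 from not_not.mp fun hb => h ⟨ha, hb⟩]

theorem sum_supp (θ : Subgroup.center H →* ℂ) {j : ℕ} {s : Finset (IrrCharacter H)}
    (hs : D.supp θ j = s) (f : IrrCharacter H → ℂ) :
    ∑ χ ∈ D.fam θ, (D.u χ j : ℂ) * f χ = ∑ χ ∈ s, (D.u χ j : ℂ) * f χ := by
  rw [← hs, supp]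
  refine (Finset.sum_filter_of_ne fun χ _ h => ?_).symm
  intro e
  exact h (by rw [e, Int.cast_zero, zero_mul])

theorem one_regular : ¬ p ∣ orderOf (1 : H) := by
  rw [orderOf_one, Nat.dvd_one]; exact (Fact.out : p.Prime).ne_one

theorem t_regular : ¬ p ∣ orderOf D.t := by
  rw [D.orderOf_t]
  intro h
  have := Nat.le_of_dvd two_pos h
  have := D.five_le
  omega

theorem mem_supp {θ : Subgroup.center H →* ℂ} {χ : IrrCharacter H} {j : ℕ} :
    χ ∈ D.supp θ j ↔ χ ∈ D.fam θ ∧ D.u χ j ≠ 0 := Finset.mem_filter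

include D in
/-- Degree `1` means the trivial character. -/
theorem eq_triv_of_degree_one {χ : IrrCharacter H} (h : charDegree (χ : H → ℂ) = 1) :
    χ = Blocks.trivIrr H := by
  have h1 : (χ : H → ℂ) 1 = 1 := by rw [(Blocks.irr_degree_eq χ).1, h, Nat.cast_one]
  refine Subtype.ext (funext fun g => ?_)
  have hle : commutator H ≤ (Char.linearHom (Char.isCharacter_of_isIrr χ.2) h1).ker :=
    Abelianization.commutator_subset_ker _
  rw [D.perf] at hle
  have := MonoidHom.mem_ker.mp (hle (Subgroup.mem_top g))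
  have := congrArg Units.val this
  rw [Char.linearHom_apply] at this
  rw [this]
  rfl

theorem u_triv (j : ℕ) (hj : j ∈ D.J) : D.u (Blocks.trivIrr H) j = -1 := by
  obtain ⟨hj0, hjp⟩ := D.mem_J.mp hj
  apply Int.cast_injective (α := ℂ)
  refine mul_left_cancel₀ (Nat.cast_ne_zero.mpr (Fact.out : p.Prime).ne_zero) ?_
  rw [D.u_spec]
  have e : ∀ g : H, ((Blocks.trivIrr H : IrrCharacter H) : H → ℂ) g = 1 := fun g => rfl
  simp only [e, mul_one, Finset.sum_sub_distrib, Finset.sum_const, Finset.card_range, nsmul_eq_mul]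
  rw [DihBlock.geom_sum_root (D.root_pow j), if_neg (D.pow_root_ne_one (by omega) (by omega))]
  push_cast; ring

theorem n_zero_degree {χ : IrrCharacter H} {s : ℤ} (h : ∀ j ∈ D.J, D.u χ j = s) :
    (charDegree (χ : H → ℂ) : ℤ) = p * D.n χ 0 + ((p : ℤ) - 1) * s := by
  rw [D.degree_eq, Finset.sum_congr rfl h, Finset.sum_const, J, Nat.card_Icc, nsmul_eq_mul]
  obtain ⟨T, hT⟩ := D.odd_p
  rw [show (p - 1) / 2 + 1 - 1 = T by omega, show (p : ℤ) = 2 * T + 1 by exact_mod_cast hT]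
  ring

variable {ζ : IrrCharacter H} (hdeg : charDegree (ζ : H → ℂ) = p - 2)
include hdeg

/-- The row of a character of degree `p - 2`. -/
theorem zeta_row : D.n ζ 0 = 1 ∧ ∃ j₀ ∈ D.J, D.u ζ j₀ = -1 ∧ ∀ j ∈ D.J, j ≠ j₀ → D.u ζ j = 0 := by
  have hmem : ζ ∈ D.fam (D.central ζ) := (D.mem_fam_iff ζ).mpr rfl
  have hd := D.degree_eq ζ
  rw [hdeg] at hd
  have h7 := D.five_le
  obtain ⟨T, hT⟩ := D.odd_p
  have hc : D.J.card = T := by rw [J, Nat.card_Icc]; omega
  have hlo : -(T : ℤ) ≤ ∑ j ∈ D.J, D.u ζ j := by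
    have := Finset.card_nsmul_le_sum D.J (D.u ζ) (-1) fun j hj => by
      rcases D.u_sq_le hmem hj with a | a | a <;> omega
    rwa [hc, nsmul_eq_mul, mul_neg, mul_one] at this
  have hhi : ∑ j ∈ D.J, D.u ζ j ≤ T := by
    have := Finset.sum_le_card_nsmul D.J (D.u ζ) 1 fun j hj => by
      rcases D.u_sq_le hmem hj with a | a | a <;> omega
    rwa [hc, nsmul_eq_mul, mul_one] at this
  have hn : D.n ζ 0 = 1 := by
    rcases Nat.lt_trichotomy (D.n ζ 0) 1 with h | h | h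
    · rw [show D.n ζ 0 = 0 by omega] at hd
      omega
    · exact h
    · have : (p : ℤ) * 2 ≤ p * D.n ζ 0 :=
        mul_le_mul_of_nonneg_left (by exact_mod_cast h) (by positivity)
      omega
  rw [hn] at hd
  have hsum : ∑ j ∈ D.J, D.u ζ j = -1 := by omega
  refine ⟨hn, ?_⟩
  obtain ⟨j₀, hj₀, hne⟩ := Finset.exists_ne_zero_of_sum_ne_zero (by rw [hsum]; norm_num :
    ∑ j ∈ D.J, D.u ζ j ≠ 0)
  have hall : ∀ j ∈ D.J, D.u ζ j = if D.u ζ j ≠ 0 then D.u ζ j₀ else 0 := fun j hj => by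
    split_ifs with h
    · exact D.sign_const hmem hj hj₀ h hne
    · exact not_not.mp h
  rw [Finset.sum_congr rfl hall, ← Finset.sum_filter, Finset.sum_const, nsmul_eq_mul] at hsum
  set A := D.J.filter fun j => D.u ζ j ≠ 0 with hA
  have hA1 : A.card = 1 := by
    have := Int.natAbs_mul (A.card : ℤ) (D.u ζ j₀)
    rw [hsum, Int.natAbs_natCast] at this
    exact (mul_eq_one.mp this.symm).1
  rw [hA1, Nat.cast_one, one_mul] at hsum
  refine ⟨j₀, hj₀, hsum, fun j hj hjne => ?_⟩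
  by_contra h
  obtain ⟨a, ha⟩ := Finset.card_eq_one.mp hA1
  have m1 : j ∈ A := Finset.mem_filter.mpr ⟨hj, h⟩
  have m2 : j₀ ∈ A := Finset.mem_filter.mpr ⟨hj₀, hne⟩
  rw [ha, Finset.mem_singleton] at m1 m2
  exact hjne (m1.trans m2.symm)

/-- The three rows moved with `ζ`. -/
theorem zeta_family : ∃ j₀ ∈ D.J, ∃ χ₁ χ₂ : IrrCharacter H,
    D.u ζ j₀ = -1 ∧ (∀ j ∈ D.J, j ≠ j₀ → D.u ζ j = 0) ∧ ζ ≠ χ₁ ∧ ζ ≠ χ₂ ∧ χ₁ ≠ χ₂ ∧
      D.supp (D.central ζ) j₀ = {ζ, χ₁, χ₂} ∧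
      (∀ j ∈ D.J, D.u χ₁ j = -1) ∧ (∀ j ∈ D.J, D.u χ₂ j = 1) ∧
      χ₁ ∈ D.fam (D.central ζ) ∧ χ₂ ∈ D.fam (D.central ζ) ∧
      D.n χ₁ 0 = D.n χ₂ 0 + 1 ∧
      (charDegree (χ₁ : H → ℂ) : ℤ) = p * D.n χ₂ 0 + 1 ∧
      (charDegree (χ₂ : H → ℂ) : ℤ) = p * D.n χ₂ 0 + p - 1 := by
  obtain ⟨-, j₀, hj₀, hζ, hz⟩ := D.zeta_row hdeg
  set θ := D.central ζ
  have hmem : ζ ∈ D.supp θ j₀ := D.mem_supp.mpr ⟨(D.mem_fam_iff ζ).mpr rfl, by rw [hζ]; norm_num⟩
  obtain ⟨x, y, hxy, hpair⟩ := Finset.card_eq_two.mp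
    (show ((D.supp θ j₀).erase ζ).card = 2 by rw [Finset.card_erase_of_mem hmem, D.card_supp θ hj₀])
  have hsupp : D.supp θ j₀ = {ζ, x, y} := by rw [← Finset.insert_erase hmem, hpair]
  have hx : x ∈ (D.supp θ j₀).erase ζ := by rw [hpair]; simp
  have hy : y ∈ (D.supp θ j₀).erase ζ := by rw [hpair]; simp
  have hconst : ∀ w ∈ (D.supp θ j₀).erase ζ, w ∈ D.fam θ ∧
      ∀ j ∈ D.J, D.u w j = D.u w j₀ := by
    intro w hw
    obtain ⟨hwz, hw⟩ := Finset.mem_erase.mp hw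
    obtain ⟨hwf, hw0⟩ := D.mem_supp.mp hw
    refine ⟨hwf, fun j hj => ?_⟩
    rcases eq_or_ne j j₀ with rfl | hjne
    · rfl
    have hsub : D.supp θ j₀ ∩ D.supp θ j ⊆ (D.supp θ j₀).erase ζ := fun a ha => by
      obtain ⟨a1, a2⟩ := Finset.mem_inter.mp ha
      refine Finset.mem_erase.mpr ⟨?_, a1⟩
      rintro rfl
      exact (D.mem_supp.mp a2).2 (hz j hj hjne)
    have heq := Finset.eq_of_subset_of_card_le hsub (by
      rw [D.card_inter θ hj₀ hj hjne.symm, Finset.card_erase_of_mem hmem, D.card_supp θ hj₀])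
    have : w ∈ D.supp θ j₀ ∩ D.supp θ j := heq ▸ Finset.mem_erase.mpr ⟨hwz, hw⟩
    exact D.sign_const hwf hj hj₀ (D.mem_supp.mp (Finset.mem_inter.mp this).2).2 hw0
  obtain ⟨hxf, hxu⟩ := hconst x hx
  obtain ⟨hyf, hyu⟩ := hconst y hy
  have hxz : x ≠ ζ := (Finset.mem_erase.mp hx).1
  have hyz : y ≠ ζ := (Finset.mem_erase.mp hy).1
  have hdeg0 : D.u x j₀ * (charDegree (x : H → ℂ) : ℤ) + D.u y j₀ * (charDegree (y : H → ℂ) : ℤ) =
      (p : ℤ) - 2 := by
    have h := D.orth θ j₀ (one_regular (H := H) (p := p))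
    rw [D.sum_supp θ hsupp, Finset.sum_insert (by simp [hxz.symm, hyz.symm]), Finset.sum_insert (by simp [hxy]),
      Finset.sum_singleton, hζ, (Blocks.irr_degree_eq ζ).1, (Blocks.irr_degree_eq x).1,
      (Blocks.irr_degree_eq y).1, hdeg] at h
    have h' : (-1 : ℤ) * ((p - 2 : ℕ) : ℤ) + (D.u x j₀ * (charDegree (x : H → ℂ) : ℤ) +
        D.u y j₀ * (charDegree (y : H → ℂ) : ℤ)) = 0 := by exact_mod_cast h
    rw [Nat.cast_sub (by have := D.five_le; omega)] at h'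
    push_cast at h'
    linarith
  have hdx := D.n_zero_degree hxu
  have hdy := D.n_zero_degree hyu
  have hpx := (Blocks.irr_degree_eq x).2
  have hpy := (Blocks.irr_degree_eq y).2
  have hp5 := D.five_le
  -- the positive row has the larger degree
  have key : ∀ a b : IrrCharacter H, (∀ j ∈ D.J, D.u a j = -1) → (∀ j ∈ D.J, D.u b j = 1) →
      -(charDegree (a : H → ℂ) : ℤ) + (charDegree (b : H → ℂ) : ℤ) = (p : ℤ) - 2 →
      D.n a 0 = D.n b 0 + 1 ∧ (charDegree (a : H → ℂ) : ℤ) = p * D.n b 0 + 1 ∧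
        (charDegree (b : H → ℂ) : ℤ) = p * D.n b 0 + p - 1 := by
    intro a b ha hb hab
    have da := D.n_zero_degree ha
    have db := D.n_zero_degree hb
    have : (p : ℤ) * D.n a 0 = p * (D.n b 0 + 1) := by linarith
    have hn := mul_left_cancel₀ (by omega : (p : ℤ) ≠ 0) this
    refine ⟨by exact_mod_cast hn, ?_, by linarith⟩
    rw [da, hn]; ring
  have sx : D.u x j₀ = -1 ∨ D.u x j₀ = 1 := by
    have := (D.mem_supp.mp (Finset.mem_erase.mp hx).2).2
    rcases D.u_sq_le hxf hj₀ with a | a | a <;> omega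
  have sy : D.u y j₀ = -1 ∨ D.u y j₀ = 1 := by
    have := (D.mem_supp.mp (Finset.mem_erase.mp hy).2).2
    rcases D.u_sq_le hyf hj₀ with a | a | a <;> omega
  rcases sx with sx | sx <;> rcases sy with sy | sy <;> rw [sx, sy] at hdeg0 <;>
    rw [sx] at hxu hdx <;> rw [sy] at hyu hdy
  · omega
  · obtain ⟨k1, k2, k3⟩ := key x y hxu hyu (by linarith)
    exact ⟨j₀, hj₀, x, y, hζ, hz, hxz.symm, hyz.symm, hxy, hsupp, hxu, hyu, hxf, hyf, k1, k2, k3⟩
  · obtain ⟨k1, k2, k3⟩ := key y x hyu hxu (by linarith)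
    exact ⟨j₀, hj₀, y, x, hζ, hz, hyz.symm, hxz.symm, hxy.symm,
      by rw [hsupp, Finset.pair_comm x y], hyu, hxu, hyf, hxf, k1, k2, k3⟩
  · exfalso
    have h1 : (0 : ℤ) ≤ p * D.n x 0 := by positivity
    have h2 : (0 : ℤ) ≤ p * D.n y 0 := by positivity
    omega

/-- The bound from the family of `ζ` when its central character is nontrivial. -/
theorem Q_upper (h7 : 7 ≤ p) (hne : D.central ζ ≠ 1) :
    ∃ X Y : ℤ, 0 < Y ∧ D.Q * Y = X ∧ 3 * X < 2 * Y := by
  obtain ⟨hn, -⟩ := D.zeta_row hdeg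
  obtain ⟨j₀, hj₀, x, y, hζ, -, hxz, hyz, hxy, hsupp, hxu, hyu, hxf, hyf, hn1, hd1, hd2⟩ :=
    D.zeta_family hdeg
  obtain ⟨a₀, ha₀, hb₀, hpar⟩ := D.value_t ζ
  obtain ⟨a, ha, hba, -⟩ := D.value_t x
  obtain ⟨b, hb, -, -⟩ := D.value_t y
  rw [hn, Nat.cast_one] at hb₀
  rw [hdeg] at hpar
  have ha₀' : a₀ = 1 ∨ a₀ = -1 := by
    obtain ⟨T, hT⟩ := D.odd_p
    rw [abs_le] at hb₀
    omega
  set k : ℤ := (D.n y 0 : ℤ) with hk
  have hk1 : 1 ≤ k := by
    by_contra hlt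
    have hk0 : k = 0 := by omega
    rw [hk0, mul_zero, zero_add] at hd1
    have hx := D.eq_triv_of_degree_one (χ := x) (by exact_mod_cast hd1)
    refine hne ?_
    rw [← (D.mem_fam_iff x).mp hxf, hx]
    ext z
    show ((Blocks.trivIrr H : IrrCharacter H) : H → ℂ) z / ((Blocks.trivIrr H : IrrCharacter H) : H → ℂ) 1 = 1
    exact div_one 1
  have horth := D.orth (D.central ζ) j₀ D.t_regular
  rw [D.sum_supp _ hsupp, Finset.sum_insert (by simp [hxz, hyz]),
    Finset.sum_insert (by simp [hxy]), Finset.sum_singleton, hζ, hxu j₀ hj₀, hyu j₀ hj₀, ha₀, ha,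
    hb] at horth
  have hab : b = a + a₀ := by
    have : (-1 : ℤ) * a₀ + (-1 * a + 1 * b) = 0 := by exact_mod_cast horth
    omega
  have hw := D.weighted (D.central ζ) hj₀
  simp only [mul_div_assoc] at hw
  rw [D.sum_supp _ hsupp, Finset.sum_insert (by simp [hxz, hyz]),
    Finset.sum_insert (by simp [hxy]), Finset.sum_singleton, hζ, hxu j₀ hj₀, hyu j₀ hj₀, ha₀, ha,
    hb, (Blocks.irr_degree_eq ζ).1, hdeg, (Blocks.irr_degree_eq x).1, (Blocks.irr_degree_eq y).1,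
    hab] at hw
  set n : ℤ := (p : ℤ) - 2 with hnn
  set d : ℤ := (p : ℤ) * k + 1 with hdd
  have e1 : ((charDegree (x : H → ℂ) : ℕ) : ℂ) = (d : ℂ) := by exact_mod_cast hd1
  have e2 : ((charDegree (y : H → ℂ) : ℕ) : ℂ) = ((d + n : ℤ) : ℂ) := by
    have : (charDegree (y : H → ℂ) : ℤ) = d + n := by rw [hd2, hdd, hnn]; ring
    exact_mod_cast this
  have e0 : ((p - 2 : ℕ) : ℂ) = (n : ℂ) := by
    have : ((p - 2 : ℕ) : ℤ) = n := by rw [hnn]; omega
    exact_mod_cast this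
  rw [e0, e1, e2] at hw
  have hnpos : 0 < n := by omega
  have hkp : 0 ≤ (p : ℤ) * k := by positivity
  have hdpos : 0 < d := by omega
  refine ⟨(d - n * a * a₀) ^ 2, n * d * (d + n), by positivity, ?_, ?_⟩
  · have hn0 : (n : ℂ) ≠ 0 := Int.cast_ne_zero.mpr hnpos.ne'
    have hd0 : (d : ℂ) ≠ 0 := Int.cast_ne_zero.mpr hdpos.ne'
    have hdn0 : ((d + n : ℤ) : ℂ) ≠ 0 := Int.cast_ne_zero.mpr (by omega)
    have hsq : (a₀ : ℂ) * a₀ = 1 := by rcases ha₀' with h | h <;> simp [h]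
    push_cast at hw hdn0 ⊢
    rw [show D.Q = -(-D.Q) by ring, ← hw]
    field_simp
    linear_combination ((d : ℂ) * d + (d : ℂ) * n - (d : ℂ) * n - (n : ℂ) ^ 2 * a ^ 2) * hsq
  · have hbd : |d - n * a * a₀| ≤ (2 * k + 1) * ((p : ℤ) - 1) := by
      have ha' : |a| ≤ k + 1 := by rw [hn1] at hba; push_cast at hba; exact hba
      calc |d - n * a * a₀| ≤ |d| + |n * a * a₀| := abs_sub _ _
        _ = d + n * |a| := by
          rw [abs_mul, abs_mul, abs_of_pos hdpos, abs_of_pos hnpos]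
          rcases ha₀' with h | h <;> simp [h]
        _ ≤ d + n * (k + 1) := by gcongr
        _ = _ := by rw [hdd, hnn]; ring
    have h := ineq_upper k p hk1 (by exact_mod_cast h7)
    have hsq : (d - n * a * a₀) ^ 2 ≤ ((2 * k + 1) * ((p : ℤ) - 1)) ^ 2 := by
      rw [← sq_abs (d - n * a * a₀)]
      exact pow_le_pow_left₀ (abs_nonneg _) hbd 2
    have e : 2 * (n * d * (d + n)) = 2 * ((p : ℤ) - 2) * (k * p + 1) * (k * p + p - 1) := by
      rw [hdd, hnn]; ring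
    rw [e]
    linarith

omit hdeg

/-- The rows of the trivial family. -/
theorem triv_rows : ∃ A B : IrrCharacter H, ∃ j₁ ∈ D.J, D.supp 1 j₁ = {Blocks.trivIrr H, A, B} ∧
    Blocks.trivIrr H ≠ A ∧ Blocks.trivIrr H ≠ B ∧ A ≠ B ∧
    (∀ j ∈ D.J, D.u A j = D.u A j₁) ∧ (∀ j ∈ D.J, j ≠ j₁ → D.u B j = 0) := by
  set e := Blocks.trivIrr H with he
  have hef : e ∈ D.fam 1 := Finset.mem_filter.mpr ⟨Finset.mem_univ _, fun z => by
    show (1 : ℂ) = 1 * 1
    rw [one_mul]⟩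
  have hes : ∀ j ∈ D.J, e ∈ D.supp 1 j := fun j hj =>
    D.mem_supp.mpr ⟨hef, by rw [D.u_triv j hj]; norm_num⟩
  have h7 := D.five_le
  have hJ1 : 1 ∈ D.J := D.mem_J.mpr ⟨le_rfl, by omega⟩
  have hJ2 : 2 ∈ D.J := D.mem_J.mpr ⟨by norm_num, by omega⟩
  obtain ⟨A, hA⟩ := Finset.card_eq_one.mp (show ((D.supp 1 1 ∩ D.supp 1 2).erase e).card = 1 by
    rw [Finset.card_erase_of_mem (Finset.mem_inter.mpr ⟨hes 1 hJ1, hes 2 hJ2⟩),
      D.card_inter 1 hJ1 hJ2 (by norm_num)])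
  have hAmem : A ∈ (D.supp 1 1 ∩ D.supp 1 2).erase e := by rw [hA]; simp
  obtain ⟨hAe, hA12⟩ := Finset.mem_erase.mp hAmem
  obtain ⟨hA1, hA2⟩ := Finset.mem_inter.mp hA12
  -- a third row through the same two
  have third : ∀ l ∈ D.J, A ∈ D.supp 1 l := by
    intro l hl
    by_contra hAl
    have h1l : l ≠ 1 := fun h => hAl (h ▸ hA1)
    have h2l : l ≠ 2 := fun h => hAl (h ▸ hA2)
    have getB : ∀ i ∈ D.J, A ∈ D.supp 1 i → i ≠ l → ∃ B, B ≠ e ∧ B ≠ A ∧ D.supp 1 i = {e, A, B} ∧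
        B ∈ D.supp 1 l := by
      intro i hi hAi hil
      obtain ⟨B, hB⟩ := Finset.card_eq_one.mp (show ((D.supp 1 i ∩ D.supp 1 l).erase e).card = 1 by
        rw [Finset.card_erase_of_mem (Finset.mem_inter.mpr ⟨hes i hi, hes l hl⟩), D.card_inter 1 hi hl hil])
      have hBm : B ∈ (D.supp 1 i ∩ D.supp 1 l).erase e := by rw [hB]; simp
      obtain ⟨hBe, hBil⟩ := Finset.mem_erase.mp hBm
      obtain ⟨hBi, hBl⟩ := Finset.mem_inter.mp hBil
      have hBA : B ≠ A := fun h => hAl (h ▸ hBl)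
      refine ⟨B, hBe, hBA, (Finset.eq_of_subset_of_card_le (fun w hw => ?_) ?_).symm, hBl⟩
      · simp only [Finset.mem_insert, Finset.mem_singleton] at hw
        rcases hw with rfl | rfl | rfl
        exacts [hes i hi, hAi, hBi]
      · rw [D.card_supp 1 hi, Finset.card_insert_of_notMem (by simp [hAe.symm, hBe.symm]),
          Finset.card_pair hBA.symm]
    obtain ⟨B1, hB1e, hB1A, hs1, hB1l⟩ := getB 1 hJ1 hA1 h1l.symm
    obtain ⟨B2, hB2e, hB2A, hs2, hB2l⟩ := getB 2 hJ2 hA2 h2l.symm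
    have hB12 : B1 ≠ B2 := fun h => by
      have hm : B1 ∈ (D.supp 1 1 ∩ D.supp 1 2).erase e :=
        Finset.mem_erase.mpr ⟨hB1e, Finset.mem_inter.mpr ⟨by rw [hs1]; simp, by rw [hs2, h]; simp⟩⟩
      rw [hA, Finset.mem_singleton] at hm
      exact hB1A hm
    have hsl : D.supp 1 l = {e, B1, B2} := by
      refine (Finset.eq_of_subset_of_card_le (fun w hw => ?_) ?_).symm
      · simp only [Finset.mem_insert, Finset.mem_singleton] at hw
        rcases hw with rfl | rfl | rfl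
        exacts [hes l hl, hB1l, hB2l]
      · rw [D.card_supp 1 hl, Finset.card_insert_of_notMem (by simp [hB1e.symm, hB2e.symm]),
          Finset.card_pair hB12]
    have eqn : ∀ (i : ℕ) (U W : IrrCharacter H), i ∈ D.J → D.supp 1 i = {e, U, W} → U ≠ e → W ≠ e →
        U ≠ W → D.u U i * (charDegree (U : H → ℂ) : ℤ) + D.u W i * (charDegree (W : H → ℂ) : ℤ) = 1 := by
      intro i U W hi hs hU hW hUW
      have h := D.orth 1 i (one_regular (H := H) (p := p))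
      rw [D.sum_supp 1 hs, Finset.sum_insert (by simp [hU.symm, hW.symm]),
        Finset.sum_insert (by simp [hUW]), Finset.sum_singleton, he, D.u_triv i hi,
        (Blocks.irr_degree_eq U).1, (Blocks.irr_degree_eq W).1] at h
      have e1 : ((Blocks.trivIrr H : IrrCharacter H) : H → ℂ) 1 = 1 := rfl
      rw [e1, mul_one] at h
      have h' : (-1 : ℤ) + (D.u U i * (charDegree (U : H → ℂ) : ℤ) +
          D.u W i * (charDegree (W : H → ℂ) : ℤ)) = 0 := by exact_mod_cast h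
      omega
    have q1 := eqn 1 A B1 hJ1 hs1 hAe hB1e hB1A.symm
    have q2 := eqn 2 A B2 hJ2 hs2 hAe hB2e hB2A.symm
    have q3 := eqn l B1 B2 hl hsl hB1e hB2e hB12
    have sA : D.u A 1 = D.u A 2 :=
      D.sign_const (D.mem_supp.mp hA1).1 hJ1 hJ2 (D.mem_supp.mp hA1).2 (D.mem_supp.mp hA2).2
    have sB1 : D.u B1 1 = D.u B1 l := D.sign_const (D.mem_supp.mp hB1l).1 hJ1 hl
      (D.mem_supp.mp (show B1 ∈ D.supp 1 1 by rw [hs1]; simp)).2 (D.mem_supp.mp hB1l).2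
    have sB2 : D.u B2 2 = D.u B2 l := D.sign_const (D.mem_supp.mp hB2l).1 hJ2 hl
      (D.mem_supp.mp (show B2 ∈ D.supp 1 2 by rw [hs2]; simp)).2 (D.mem_supp.mp hB2l).2
    rw [← sA] at q2
    rw [← sB1, ← sB2] at q3
    omega
  obtain ⟨B, hB⟩ := Finset.card_eq_one.mp (show (((D.supp 1 1).erase e).erase A).card = 1 by
    rw [Finset.card_erase_of_mem (Finset.mem_erase.mpr ⟨hAe, hA1⟩),
      Finset.card_erase_of_mem (hes 1 hJ1), D.card_supp 1 hJ1])
  have hBm : B ∈ ((D.supp 1 1).erase e).erase A := by rw [hB]; simp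
  simp only [Finset.mem_erase] at hBm
  obtain ⟨hBA, hBe, hB1⟩ := hBm
  refine ⟨A, B, 1, hJ1, ?_, hAe.symm, hBe.symm, hBA.symm, fun j hj =>
    D.sign_const (D.mem_supp.mp hA1).1 hj hJ1 (D.mem_supp.mp (third j hj)).2 (D.mem_supp.mp hA1).2,
    fun j hj hj1 => ?_⟩
  · rw [← Finset.insert_erase (hes 1 hJ1),
      ← Finset.insert_erase (Finset.mem_erase.mpr ⟨hAe, hA1⟩ : A ∈ (D.supp 1 1).erase e), hB]
  · by_contra h
    have hsub : ({e, A, B} : Finset (IrrCharacter H)) ⊆ D.supp 1 1 ∩ D.supp 1 j := fun w hw => by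
      simp only [Finset.mem_insert, Finset.mem_singleton] at hw
      rw [Finset.mem_inter]
      rcases hw with rfl | rfl | rfl
      exacts [⟨hes 1 hJ1, hes j hj⟩, ⟨hA1, third j hj⟩, ⟨hB1, D.mem_supp.mpr ⟨(D.mem_supp.mp hB1).1, h⟩⟩]
    have := Finset.card_le_card hsub
    rw [D.card_inter 1 hJ1 hj hj1.symm, Finset.card_insert_of_notMem (by simp [hAe.symm, hBe.symm]),
      Finset.card_pair hBA.symm] at this
    omega

/-- The bound from the trivial family. -/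
theorem Q_lower (h7 : 7 ≤ p) : ∃ X Y : ℤ, 0 < Y ∧ D.Q * Y = X ∧ 2 * Y < 3 * X := by
  obtain ⟨A, B, j, hj, hsupp, hAe, hBe, hAB, hAu, hBu⟩ := D.triv_rows
  set e := Blocks.trivIrr H with he
  obtain ⟨a, ha, hba, -⟩ := D.value_t A
  obtain ⟨b, hb, hbb, -⟩ := D.value_t B
  have hAm : A ∈ D.supp 1 j := by rw [hsupp]; simp
  have hBm : B ∈ D.supp 1 j := by rw [hsupp]; simp
  have hval : ∀ g : H, ((e : IrrCharacter H) : H → ℂ) g = 1 := fun g => rfl
  have hdA := D.n_zero_degree hAu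
  have hdB := D.degree_eq B
  rw [Finset.sum_eq_single_of_mem j hj fun i hi hne => hBu i hi hne] at hdB
  have hdeg1 : D.u A j * (charDegree (A : H → ℂ) : ℤ) + D.u B j * (charDegree (B : H → ℂ) : ℤ) = 1 := by
    have h := D.orth 1 j (one_regular (H := H) (p := p))
    rw [D.sum_supp 1 hsupp, Finset.sum_insert (by simp [hAe, hBe]), Finset.sum_insert (by simp [hAB]),
      Finset.sum_singleton, hval, (Blocks.irr_degree_eq A).1, (Blocks.irr_degree_eq B).1,
      D.u_triv j hj, mul_one] at h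
    have h' : (-1 : ℤ) + (D.u A j * (charDegree (A : H → ℂ) : ℤ) +
        D.u B j * (charDegree (B : H → ℂ) : ℤ)) = 0 := by exact_mod_cast h
    omega
  have horth : D.u A j * a + D.u B j * b = 1 := by
    have h := D.orth 1 j D.t_regular
    rw [D.sum_supp 1 hsupp, Finset.sum_insert (by simp [hAe, hBe]), Finset.sum_insert (by simp [hAB]),
      Finset.sum_singleton, hval, ha, hb, D.u_triv j hj, mul_one] at h
    have h' : (-1 : ℤ) + (D.u A j * a + D.u B j * b) = 0 := by exact_mod_cast h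
    omega
  have hw := D.weighted 1 hj
  simp only [mul_div_assoc] at hw
  rw [D.sum_supp 1 hsupp, Finset.sum_insert (by simp [hAe, hBe]), Finset.sum_insert (by simp [hAB]),
    Finset.sum_singleton, hval, hval, ha, hb, D.u_triv j hj, (Blocks.irr_degree_eq A).1,
    (Blocks.irr_degree_eq B).1] at hw
  have hA1 := (Blocks.irr_degree_eq A).2
  have hB1 := (Blocks.irr_degree_eq B).2
  have hnlin : charDegree (A : H → ℂ) ≠ 1 := fun h => hAe (D.eq_triv_of_degree_one h).symm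
  set dA : ℤ := (charDegree (A : H → ℂ) : ℤ) with hdAdef
  set dB : ℤ := (charDegree (B : H → ℂ) : ℤ) with hdBdef
  have sA : D.u A j = -1 ∨ D.u A j = 1 := by
    have := (D.mem_supp.mp hAm).2
    rcases D.u_sq_le (D.mem_supp.mp hAm).1 hj with a | a | a <;> omega
  have sB : D.u B j = -1 ∨ D.u B j = 1 := by
    have := (D.mem_supp.mp hBm).2
    rcases D.u_sq_le (D.mem_supp.mp hBm).1 hj with a | a | a <;> omega
  have eA : ((charDegree (A : H → ℂ) : ℕ) : ℂ) = (dA : ℂ) := by rw [hdAdef]; push_cast; rfl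
  have eB : ((charDegree (B : H → ℂ) : ℕ) : ℂ) = (dB : ℂ) := by rw [hdBdef]; push_cast; rfl
  rw [eA, eB] at hw
  have hAc : (dA : ℂ) ≠ 0 := Int.cast_ne_zero.mpr (by omega)
  have hBc : (dB : ℂ) ≠ 0 := Int.cast_ne_zero.mpr (by omega)
  rcases sA with sA | sA <;> rw [sA] at hdA hdeg1 horth hw <;>
    rcases sB with sB | sB <;> rw [sB] at hdB hdeg1 horth hw
  · omega
  · -- `δ = 1`
    have hb' : b = a + 1 := by omega
    have hdB' : dB = dA + 1 := by omega
    set K : ℤ := (D.n A 0 : ℤ) - 1 with hK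
    have hdA' : dA = K * p + 1 := by rw [hdA, hK]; ring
    have hK1 : 1 ≤ K := by
      by_contra hlt
      have : dA = 1 ∨ dA ≤ 0 := by
        rcases eq_or_ne K 0 with h | h
        · left; rw [hdA', h]; ring
        · right
          have : K * p ≤ -1 * p := mul_le_mul_of_nonneg_right (by omega) (by positivity)
          omega
      omega
    have hnB : (D.n B 0 : ℤ) = K := by
      have h' : (p : ℤ) * D.n B 0 = p * K := by
        have : dB = (p : ℤ) * D.n B 0 + 2 := by rw [hdB]; ring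
        linarith
      exact mul_left_cancel₀ (by omega : (p : ℤ) ≠ 0) h'
    rw [abs_le] at hba hbb
    have hlow : K * ((p : ℤ) - 1) + 2 ≤ dA - a := by
      have : K * ((p : ℤ) - 1) = K * p - K := by ring
      omega
    refine ⟨(dA - a) ^ 2, dA * (dA + 1), mul_pos (by omega) (by omega), ?_, ?_⟩
    · rw [hb', hdB'] at hw
      rw [hdB'] at hBc
      push_cast at hw hBc ⊢
      rw [show D.Q = -(-D.Q) by ring, ← hw]
      field_simp
      ring
    · have h0 : 0 ≤ K * ((p : ℤ) - 1) + 2 := by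
        have : 0 ≤ K * ((p : ℤ) - 1) := mul_nonneg (by omega) (by omega)
        omega
      have := pow_le_pow_left₀ h0 hlow 2
      have h := ineq_lower_pos K p hK1 (by exact_mod_cast h7)
      rw [hdA'] at this ⊢
      linarith
  · -- `δ = -1`
    have hb' : b = a - 1 := by omega
    have hdB' : dB = dA - 1 := by omega
    set K : ℤ := (D.n A 0 : ℤ) + 1 with hK
    have hdA' : dA = K * p - 1 := by rw [hdA, hK]; ring
    have hK1 : 1 ≤ K := by omega
    have hnB : (D.n B 0 : ℤ) = K := by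
      have h' : (p : ℤ) * D.n B 0 = p * K := by
        have : dB = (p : ℤ) * D.n B 0 + -2 := by rw [hdB]; ring
        linarith
      exact mul_left_cancel₀ (by omega : (p : ℤ) ≠ 0) h'
    rw [abs_le] at hba hbb
    have hlow : K * ((p : ℤ) - 1) ≤ dA - a := by
      have : K * ((p : ℤ) - 1) = K * p - K := by ring
      omega
    refine ⟨(dA - a) ^ 2, dA * (dA - 1), mul_pos (by omega) (by omega), ?_, ?_⟩
    · rw [hb', hdB'] at hw
      rw [hdB'] at hBc
      push_cast at hw hBc ⊢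
      rw [show D.Q = -(-D.Q) by ring, ← hw]
      field_simp
      ring
    · have h0 : 0 ≤ K * ((p : ℤ) - 1) := mul_nonneg (by omega) (by omega)
      have := pow_le_pow_left₀ h0 hlow 2
      have h := ineq_lower_neg K p hK1 (by exact_mod_cast h7)
      rw [hdA'] at this ⊢
      linarith
  · omega

include D hdeg in
/-- The center is trivial. -/
theorem center_trivial (h7 : 7 ≤ p) (hfaith : ∀ g : H, (ζ : H → ℂ) g = (ζ : H → ℂ) 1 → g = 1) :
    Subgroup.center H = ⊥ := by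
  by_contra hne
  obtain ⟨⟨z, hz⟩, hz1⟩ := Subgroup.ne_bot_iff_exists_ne_one.mp hne
  have hc : D.central ζ ≠ 1 := fun e => hz1 (Subtype.ext (hfaith z (by
    have h := DFunLike.congr_fun e ⟨z, hz⟩
    change (ζ : H → ℂ) z / (ζ : H → ℂ) 1 = 1 at h
    exact (div_eq_one_iff_eq (Char.irr_degree_ne_zero ζ.2)).mp h)))
  obtain ⟨X, Y, hY, hX, hlt⟩ := D.Q_upper hdeg h7 hc
  obtain ⟨X', Y', hY', hX', hlt'⟩ := D.Q_lower h7
  have h : X * Y' = X' * Y := by
    have : (X : ℂ) * Y' = (X' : ℂ) * Y := by rw [← hX, ← hX']; ring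
    exact_mod_cast this
  have h1 := mul_lt_mul_of_pos_right hlt hY'
  have h2 := mul_lt_mul_of_pos_right hlt' hY
  linarith

end Data

end CfsgLib.PMinusTwo
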