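import Cfsg.Agent.Lib.DihBlock.Columns
import Cfsg.Agent.Lib.Char.Counting
import Cfsg.Agent.Lib.Char.Table
import Cfsg.Agent.Lib.Char.MeanValue

/-!
# A self-normalisation setting at a prime: `C(v) = ⟨v⟩ × Z` and an involution inverting `v`

The families of characters with a given central character, their columns on the singular elements
and the integral transforms `u` along the rows.
-/

set_option autoImplicit false
set_option linter.unusedSectionVars false
set_option linter.style.haveILetI false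

namespace CfsgLib.PMinusTwo

open Cfsg CfsgLib
open scoped ComplexConjugate CfsgLib.Char
open scoped _root_.Classical

theorem sum_range_neg {A : Type*} [AddCommMonoid A] [IsCancelAdd A] {f : ℕ → A} {n : ℕ}
    (hf : f n = f 0) : ∑ i ∈ Finset.range n, f (n - i) = ∑ i ∈ Finset.range n, f i := by
  rw [← Finset.sum_range_reflect, Finset.sum_congr rfl (g := fun i => f (i + 1)) fun i hi => by
    congr 1; have := Finset.mem_range.mp hi; omega]
  apply add_right_cancel (b := f 0)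
  rw [← Finset.sum_range_succ' f n, Finset.sum_range_succ, hf]

/-- The data. -/
structure Data (H : Type*) [Group H] (p : ℕ) where
  five_le : 5 ≤ p
  v : H
  t : H
  ordv : orderOf v = p
  tt : t * t = 1
  tv : t * v * t = v⁻¹
  cent : ∀ g : H, g * v = v * g → ∃ i : ℕ, ∃ z ∈ Subgroup.center H, g = v ^ i * z
  nor : ∀ g : H, g * v * g⁻¹ ∈ Subgroup.zpowers v → g * v * g⁻¹ = v ∨ g * v * g⁻¹ = v⁻¹
  powZ : ∀ z ∈ Subgroup.center H, z ^ (p - 2) = 1
  syl : ∀ g : H, orderOf g = p → ∃ h : H, h * g * h⁻¹ ∈ Subgroup.zpowers v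
  perf : commutator H = ⊤

variable {H : Type*} [Group H] [Fintype H] {p : ℕ} [Fact p.Prime] (D : Data H p)

namespace Data

include D in
theorem odd_p : Odd p := (Fact.out : p.Prime).odd_of_ne_two (by have := D.five_le; omega)

include D in
theorem center_sq {z : H} (hz : z ∈ Subgroup.center H) (h : z ^ 2 = 1) : z = 1 := by
  have h1 := D.powZ z hz
  obtain ⟨k, hk⟩ := D.odd_p
  have := D.five_le
  rw [show p - 2 = 2 * (k - 1) + 1 by omega, pow_succ, pow_mul, h, one_pow, one_mul] at h1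
  exact h1

include D in
theorem center_pow_p {z : H} (hz : z ∈ Subgroup.center H) (h : z ^ p = 1) : z = 1 := by
  refine D.center_sq hz ?_
  have := D.five_le
  have h1 : z ^ p = z ^ (p - 2) * z ^ 2 := by rw [← pow_add, Nat.sub_add_cancel (by omega)]
  rw [h, D.powZ z hz, one_mul] at h1
  exact h1.symm

theorem v_pow_eq_one {i : ℕ} : D.v ^ i = 1 ↔ p ∣ i := by
  rw [← orderOf_dvd_iff_pow_eq_one, D.ordv]

theorem v_pow_mod (i : ℕ) : D.v ^ (i % p) = D.v ^ i := by
  have h := pow_mod_orderOf D.v i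
  rwa [D.ordv] at h

theorem v_pow_inj {i k : ℕ} (hi : i < p) (hk : k < p) (h : D.v ^ i = D.v ^ k) : i = k :=
  pow_injOn_Iio_orderOf (Set.mem_Iio.mpr (D.ordv.symm ▸ hi)) (Set.mem_Iio.mpr (D.ordv.symm ▸ hk)) h

theorem v_pow_p : D.v ^ p = 1 := D.v_pow_eq_one.mpr dvd_rfl

theorem v_pow_ne_one {i : ℕ} (h0 : 0 < i) (hi : i < p) : D.v ^ i ≠ 1 := fun e => by
  have := Nat.le_of_dvd h0 (D.v_pow_eq_one.mp e); omega

theorem v_ne_one : D.v ≠ 1 := by
  simpa using D.v_pow_ne_one (i := 1) one_pos (Fact.out : p.Prime).one_lt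

theorem exists_pow {x : H} (hx : x ∈ Subgroup.zpowers D.v) : ∃ i < p, D.v ^ i = x := by
  rw [← mem_powers_iff_mem_zpowers, Submonoid.mem_powers_iff] at hx
  obtain ⟨i, rfl⟩ := hx
  exact ⟨i % p, Nat.mod_lt _ (Fact.out : p.Prime).pos, D.v_pow_mod i⟩

/-- `v` is a power of each of its nontrivial powers. -/
theorem exists_root {x : H} (hx : x ∈ Subgroup.zpowers D.v) (h1 : x ≠ 1) :
    ∃ n : ℕ, x ^ n = D.v := by
  obtain ⟨k, -, rfl⟩ := D.exists_pow hx
  have hk : k.Coprime p := (((Fact.out : p.Prime).coprime_iff_not_dvd).mpr fun h =>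
    h1 (D.v_pow_eq_one.mpr h)).symm
  obtain ⟨n, hn⟩ := exists_pow_eq_self_of_coprime (x := D.v) (n := k) (D.ordv.symm ▸ hk)
  exact ⟨n, hn⟩

theorem t_mul_v_pow (i : ℕ) : D.t * D.v ^ i * D.t = (D.v ^ i)⁻¹ := by
  have ht : D.t⁻¹ = D.t := inv_eq_of_mul_eq_one_right D.tt
  conv_lhs => arg 2; rw [← ht]
  rw [← conj_pow, ht, D.tv, inv_pow]

theorem t_ne_one : D.t ≠ 1 := fun e => by
  have h := D.tv
  rw [e, one_mul, mul_one, eq_inv_iff_mul_eq_one, ← pow_two] at h
  have := Nat.le_of_dvd two_pos (D.v_pow_eq_one.mp h)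
  have := D.five_le
  omega

theorem orderOf_t : orderOf D.t = 2 := orderOf_eq_prime (by rw [pow_two, D.tt]) D.t_ne_one

theorem commute_of_commute_pow {x g : H} (hx : x ∈ Subgroup.zpowers D.v) (h1 : x ≠ 1)
    (h : Commute g x) : g * D.v = D.v * g := by
  obtain ⟨n, hn⟩ := D.exists_root hx h1
  rw [← hn]
  exact (h.pow_right n).eq

theorem mul_center_pow {i : ℕ} {z : H} (hz : z ∈ Subgroup.center H) :
    (D.v ^ i * z) ^ p = z ^ p := by
  have hc : Commute (D.v ^ i) z := Subgroup.mem_center_iff.mp hz _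
  rw [hc.mul_pow, ← pow_mul, mul_comm, pow_mul, D.v_pow_p, one_pow, one_mul]

/-- The singular elements. -/
theorem exists_singular {g : H} (hg : p ∣ orderOf g) :
    ∃ h : H, ∃ i : ℕ, ∃ z ∈ Subgroup.center H, D.v ^ i ≠ 1 ∧ h * g * h⁻¹ = D.v ^ i * z := by
  have hp := (Fact.out : p.Prime)
  obtain ⟨c, hc⟩ := hg
  have hc0 : 0 < c := Nat.pos_of_ne_zero fun h => by
    rw [h, mul_zero] at hc; exact (orderOf_pos g).ne' hc
  have hord : orderOf (g ^ c) = p := by
    rw [orderOf_pow_of_dvd hc0.ne' (by rw [hc]; exact dvd_mul_left c p), hc,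
      Nat.mul_div_cancel _ hc0]
  obtain ⟨h, hh⟩ := D.syl _ hord
  rw [← conj_pow] at hh
  have hne : (h * g * h⁻¹) ^ c ≠ 1 := fun e => by
    rw [conj_pow, conj_eq_one_iff] at e
    rw [e, orderOf_one] at hord
    exact hp.one_lt.ne hord
  obtain ⟨i, z, hz, hiz⟩ := D.cent _ (D.commute_of_commute_pow hh hne (Commute.self_pow _ c))
  refine ⟨h, i, z, hz, fun e => ?_, hiz⟩
  rw [e, one_mul] at hiz
  have h1 : g ^ (p - 2) = 1 := by
    have := D.powZ z hz
    rwa [← hiz, conj_pow, conj_eq_one_iff] at this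
  have h2 : p ∣ p - 2 := (hc ▸ dvd_mul_right p c : p ∣ orderOf g).trans (orderOf_dvd_of_pow_eq_one h1)
  have := D.five_le
  have := Nat.le_of_dvd (by omega) h2
  omega

theorem conj_pow_pow {i k : ℕ} {z : H} (hz : z ∈ Subgroup.center H) (hk : D.v ^ k ≠ 1)
    (h : IsConj (D.v ^ i * z) (D.v ^ k)) :
    z = 1 ∧ (D.v ^ i = D.v ^ k ∨ D.v ^ i = (D.v ^ k)⁻¹) := by
  obtain ⟨g, hg⟩ := isConj_iff.mp h
  have hz1 : z = 1 := by
    refine D.center_pow_p hz ?_
    have := congrArg (· ^ p) hg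
    simp only [conj_pow, D.mul_center_pow hz] at this
    rw [← pow_mul, mul_comm, pow_mul, D.v_pow_p, one_pow, conj_eq_one_iff] at this
    exact this
  subst hz1
  rw [mul_one] at hg
  refine ⟨rfl, ?_⟩
  have hi : D.v ^ i ≠ 1 := fun e => hk (by rw [← hg, e, mul_one, mul_inv_cancel])
  obtain ⟨n, hn⟩ := D.exists_root (Subgroup.npow_mem_zpowers D.v i) hi
  have hgv : g * D.v * g⁻¹ ∈ Subgroup.zpowers D.v := by
    have h' := congrArg (· ^ n) hg
    simp only [conj_pow, hn] at h'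
    rw [h', ← pow_mul]
    exact Subgroup.npow_mem_zpowers _ _
  rcases D.nor g hgv with e | e
  · left; rw [← hg, ← conj_pow, e]
  · right; rw [← hg, ← conj_pow, e, inv_pow, inv_inv]

theorem isConj_inv (i : ℕ) : IsConj (D.v ^ i) (D.v ^ i)⁻¹ :=
  isConj_iff.mpr ⟨D.t, by rw [inv_eq_of_mul_eq_one_right D.tt, D.t_mul_v_pow]⟩

theorem card_centralizer {k : ℕ} (hk : D.v ^ k ≠ 1) :
    Nat.card (Subgroup.centralizer ({D.v ^ k} : Set H)) = p * Nat.card (Subgroup.center H) := by
  have hmem : ∀ (i : ℕ) (z : Subgroup.center H),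
      D.v ^ i * z ∈ Subgroup.centralizer ({D.v ^ k} : Set H) := fun i z => by
    rw [Subgroup.mem_centralizer_singleton_iff]
    have hz : Commute (D.v ^ k) (z : H) := Subgroup.mem_center_iff.mp z.2 _
    exact ((Commute.pow_pow_self D.v i k).mul_left hz.symm).eq
  refine Eq.trans ?_ ((Nat.card_prod (Fin p) (Subgroup.center H)).trans (by rw [Nat.card_fin]))
  refine (Nat.card_congr (Equiv.ofBijective
    (fun q : Fin p × Subgroup.center H => (⟨_, hmem q.1 q.2⟩ : Subgroup.centralizer ({D.v ^ k} : Set H)))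
    ⟨?_, ?_⟩)).symm
  · intro q q' h
    have h' : D.v ^ (q.1 : ℕ) * (q.2 : H) = D.v ^ (q'.1 : ℕ) * q'.2 := congrArg Subtype.val h
    have h1 := congrArg (· ^ p) h'
    simp only [D.mul_center_pow q.2.2, D.mul_center_pow q'.2.2] at h1
    have hq : (q.2 : H) = q'.2 := by
      refine mul_inv_eq_one.mp (D.center_pow_p (mul_mem q.2.2 (inv_mem q'.2.2)) ?_)
      rw [(show Commute (q.2 : H) (q'.2 : H)⁻¹ from
        (Subgroup.mem_center_iff.mp (inv_mem q'.2.2) _)).mul_pow, inv_pow, h1, mul_inv_cancel]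
    rw [hq] at h'
    exact Prod.ext (Fin.ext (D.v_pow_inj q.1.2 q'.1.2 (mul_right_cancel h'))) (Subtype.ext hq)
  · rintro ⟨g, hg⟩
    obtain ⟨i, z, hz, rfl⟩ := D.cent g (D.commute_of_commute_pow (Subgroup.npow_mem_zpowers _ _) hk
      (Subgroup.mem_centralizer_singleton_iff.mp hg))
    exact ⟨(⟨i % p, Nat.mod_lt _ (Fact.out : p.Prime).pos⟩, ⟨z, hz⟩),
      Subtype.ext (by simp [D.v_pow_mod])⟩

/-! ### Families -/

/-- The characters with central character `θ`. -/
noncomputable def fam (_D : Data H p) (θ : Subgroup.center H →* ℂ) : Finset (IrrCharacter H) :=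
  Finset.univ.filter fun χ => ∀ z : Subgroup.center H, (χ : H → ℂ) z = θ z * (χ : H → ℂ) 1

omit [Fact p.Prime] in
theorem mul_center_value {θ : Subgroup.center H →* ℂ} {χ : IrrCharacter H} (hχ : χ ∈ D.fam θ)
    (g : H) (z : Subgroup.center H) : (χ : H → ℂ) (g * z) = θ z * (χ : H → ℂ) g := by
  have h := Char.central_mul χ.2 z.2 g
  rw [(Finset.mem_filter.mp hχ).2 z, ← mul_assoc] at h
  rw [mul_right_cancel₀ (Char.irr_degree_ne_zero χ.2) h, mul_comm]

/-- The central character of `χ`. -/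
noncomputable def central (_D : Data H p) (χ : IrrCharacter H) : Subgroup.center H →* ℂ where
  toFun z := (χ : H → ℂ) z / (χ : H → ℂ) 1
  map_one' := div_self (Char.irr_degree_ne_zero χ.2)
  map_mul' a b := by
    have h0 := Char.irr_degree_ne_zero χ.2
    have h := Char.central_mul χ.2 b.2 (a : H)
    rw [Subgroup.coe_mul, div_mul_div_comm, div_eq_div_iff h0 (mul_ne_zero h0 h0)]
    linear_combination (χ : H → ℂ) 1 * h

omit [Fact p.Prime] in
theorem central_mul_value (χ : IrrCharacter H) (g : H) (z : Subgroup.center H) :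
    D.central χ z * (χ : H → ℂ) g = (χ : H → ℂ) (g * z) := by
  show (χ : H → ℂ) z / (χ : H → ℂ) 1 * _ = _
  rw [div_mul_eq_mul_div, div_eq_iff (Char.irr_degree_ne_zero χ.2), Char.central_mul χ.2 z.2 g,
    mul_comm]

omit [Fact p.Prime] in
theorem mem_fam_iff {θ : Subgroup.center H →* ℂ} (χ : IrrCharacter H) :
    χ ∈ D.fam θ ↔ D.central χ = θ := by
  have h0 := Char.irr_degree_ne_zero χ.2
  simp only [fam, Finset.mem_filter, Finset.mem_univ, true_and]
  constructor
  · intro h; ext z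
    show (χ : H → ℂ) z / (χ : H → ℂ) 1 = θ z
    rw [h z, mul_div_cancel_right₀ _ h0]
  · rintro rfl z
    exact (div_mul_cancel₀ _ h0).symm

omit [Fact p.Prime] in
theorem proj (θ : Subgroup.center H →* ℂ) (f : IrrCharacter H → ℂ) :
    (Nat.card (Subgroup.center H) : ℂ) * ∑ χ ∈ D.fam θ, f χ =
      ∑ z : Subgroup.center H, θ z⁻¹ * ∑ χ : IrrCharacter H, D.central χ z * f χ := by
  simp only [Finset.mul_sum]
  rw [Finset.sum_comm, ← Finset.sum_filter_add_sum_filter_not Finset.univ (fun χ => χ ∈ D.fam θ)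
    (fun χ => ∑ z : Subgroup.center H, θ z⁻¹ * (D.central χ z * f χ))]
  rw [Finset.sum_eq_zero (s := Finset.univ.filter fun χ => χ ∉ D.fam θ) fun χ hχ => ?_, add_zero,
    Finset.filter_univ_mem]
  · refine Finset.sum_congr rfl fun χ hχ => ?_
    rw [(D.mem_fam_iff χ).mp hχ, Finset.sum_congr rfl (g := fun _ => f χ) fun z _ => by
      rw [← mul_assoc, ← map_mul, inv_mul_cancel, map_one, one_mul], Finset.sum_const,
      Finset.card_univ, nsmul_eq_mul, Nat.card_eq_fintype_card]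
  · have hne : D.central χ ≠ θ := fun e => (Finset.mem_filter.mp hχ).2 ((D.mem_fam_iff χ).mpr e)
    obtain ⟨a, ha⟩ := DFunLike.ne_iff.mp hne
    set S := ∑ z : Subgroup.center H, θ z⁻¹ * (D.central χ z * f χ) with hS
    have h : θ a⁻¹ * D.central χ a * S = S := by
      rw [hS, Finset.mul_sum]
      refine Fintype.sum_equiv (Equiv.mulLeft a) _ _ fun z => ?_
      simp only [Equiv.coe_mulLeft]
      rw [mul_inv_rev, map_mul, map_mul]; ring
    have hne1 : θ a⁻¹ * D.central χ a ≠ 1 := fun e => ha (by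
      calc D.central χ a = θ a * θ a⁻¹ * D.central χ a := by
            rw [← map_mul, mul_inv_cancel, map_one, one_mul]
        _ = θ a := by rw [mul_assoc, e, mul_one])
    exact (mul_left_eq_self₀.mp h).resolve_left hne1

theorem column_v (θ : Subgroup.center H →* ℂ) {i k : ℕ} (hi : D.v ^ i ≠ 1) (hk : D.v ^ k ≠ 1) :
    ∑ χ ∈ D.fam θ, (χ : H → ℂ) (D.v ^ i) * conj ((χ : H → ℂ) (D.v ^ k)) =
      (p : ℂ) * ((if D.v ^ i = D.v ^ k then 1 else 0) +
        (if D.v ^ i = (D.v ^ k)⁻¹ then 1 else 0)) := by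
  refine mul_left_cancel₀ (Nat.cast_ne_zero.mpr (Nat.card_pos (α := Subgroup.center H)).ne') ?_
  rw [D.proj, Finset.sum_congr rfl (g := fun z => θ z⁻¹ * if IsConj (D.v ^ i * (z : H)) (D.v ^ k)
      then ((p * Nat.card (Subgroup.center H) : ℕ) : ℂ) else 0) fun z _ => by
    simp only [← mul_assoc, D.central_mul_value]
    rw [Char.column_orthogonality, D.card_centralizer hk]
    split_ifs <;> rfl]
  have hne : D.v ^ k ≠ (D.v ^ k)⁻¹ := fun e => hk (by
    rw [eq_inv_iff_mul_eq_one, ← pow_add, D.v_pow_eq_one] at e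
    rw [D.v_pow_eq_one]
    refine (((Fact.out : p.Prime).coprime_iff_not_dvd).mpr fun h => ?_).dvd_of_dvd_mul_left
      (show p ∣ 2 * k by rwa [two_mul])
    have := Nat.le_of_dvd two_pos h
    have := D.five_le
    omega)
  rw [Finset.sum_eq_single (1 : Subgroup.center H)]
  · rw [inv_one, map_one, one_mul, Subgroup.coe_one, mul_one]
    by_cases h1 : D.v ^ i = D.v ^ k
    · rw [h1, if_pos (IsConj.refl _), if_pos rfl, if_neg hne]; push_cast; ring
    · by_cases h2 : D.v ^ i = (D.v ^ k)⁻¹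
      · rw [if_neg h1, if_pos h2, if_pos (h2 ▸ (D.isConj_inv k).symm)]; push_cast; ring
      · rw [if_neg h1, if_neg h2, if_neg fun hc => ?_]
        · push_cast; ring
        · exact ((D.conj_pow_pow (Subgroup.one_mem _) hk (by rwa [mul_one])).2).elim h1 h2
  · intro z _ hz
    rw [if_neg fun hc => hz (Subtype.ext (D.conj_pow_pow z.2 hk hc).1), mul_zero]
  · simp

theorem column_regular (θ : Subgroup.center H →* ℂ) {g : H} (hg : ¬ p ∣ orderOf g) {k : ℕ}
    (hk : D.v ^ k ≠ 1) :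
    ∑ χ ∈ D.fam θ, (χ : H → ℂ) g * conj ((χ : H → ℂ) (D.v ^ k)) = 0 := by
  refine mul_left_cancel₀ (Nat.cast_ne_zero.mpr (Nat.card_pos (α := Subgroup.center H)).ne') ?_
  rw [D.proj, mul_zero]
  refine Finset.sum_eq_zero fun z _ => ?_
  simp only [← mul_assoc, D.central_mul_value]
  rw [Char.column_orthogonality, if_neg fun hc => ?_, mul_zero]
  obtain ⟨c, hc'⟩ := isConj_iff.mp hc
  have hz : Commute g (z : H) := Subgroup.mem_center_iff.mp z.2 g
  have h1 : (g * (z : H)) ^ p = 1 := by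
    have := congrArg (· ^ p) hc'
    simp only [conj_pow] at this
    rw [← pow_mul, mul_comm, pow_mul, D.v_pow_p, one_pow, conj_eq_one_iff] at this
    exact this
  have h2 : g ^ (p * (p - 2)) = 1 := by
    have h3 := congrArg (· ^ (p - 2)) h1
    simp only [← pow_mul, one_pow] at h3
    rwa [hz.mul_pow, mul_comm p (p - 2), pow_mul (z : H), D.powZ _ z.2, one_pow, mul_one,
      mul_comm (p - 2)] at h3
  have h4 : g ^ (p - 2) = 1 := orderOf_dvd_iff_pow_eq_one.mp
    ((((Fact.out : p.Prime).coprime_iff_not_dvd.mpr hg).symm).dvd_of_dvd_mul_left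
      (orderOf_dvd_of_pow_eq_one h2))
  have h5 : (D.v ^ k) ^ (p - 2) = 1 := by
    rw [← hc', conj_pow, hz.mul_pow, h4, D.powZ _ z.2, one_mul, mul_one, mul_inv_cancel]
  rw [← pow_mul, D.v_pow_eq_one] at h5
  refine hk (D.v_pow_eq_one.mpr
    ((((Fact.out : p.Prime).coprime_iff_not_dvd).mpr fun h => ?_).dvd_of_dvd_mul_right h5))
  have := Nat.le_of_dvd (by have := D.five_le; omega) h
  have := D.five_le
  omega

/-! ### The integral transforms -/

/-- A root of unity of order `p`. -/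
noncomputable def root (_D : Data H p) : ℂ := Complex.exp (2 * Real.pi * Complex.I / p)

theorem root_spec : IsPrimitiveRoot D.root p :=
  Complex.isPrimitiveRoot_exp p (Fact.out : p.Prime).ne_zero

theorem root_pow (j : ℕ) : (D.root ^ j) ^ p = 1 := by
  rw [← pow_mul, mul_comm, pow_mul, D.root_spec.pow_eq_one, one_pow]

/-- Multiplicities of eigenvalues of `v`. -/
noncomputable def n (χ : IrrCharacter H) (j : ℕ) : ℕ :=
  (DihBlock.exists_mult χ D.v_pow_p (Fact.out : p.Prime).pos (D.root_pow j)).choose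

theorem n_spec (χ : IrrCharacter H) (j : ℕ) :
    ∑ i ∈ Finset.range p, (χ : H → ℂ) (D.v ^ i) * (D.root ^ j) ^ i = (p : ℂ) * D.n χ j :=
  (DihBlock.exists_mult χ D.v_pow_p (Fact.out : p.Prime).pos (D.root_pow j)).choose_spec

/-- The transform. -/
noncomputable def u (χ : IrrCharacter H) (j : ℕ) : ℤ := (D.n χ j : ℤ) - D.n χ 0

theorem u_spec (χ : IrrCharacter H) (j : ℕ) : (p : ℂ) * D.u χ j =
    ∑ i ∈ Finset.range p, ((D.root ^ j) ^ i - 1) * (χ : H → ℂ) (D.v ^ i) := by
  have h0 := D.n_spec χ 0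
  simp only [pow_zero, one_pow, mul_one] at h0
  rw [u]
  push_cast
  rw [mul_sub, ← D.n_spec χ j, ← h0, ← Finset.sum_sub_distrib]
  exact Finset.sum_congr rfl fun i _ => by ring

/-- The half of the nontrivial exponents. -/
def J (_D : Data H p) : Finset ℕ := Finset.Icc 1 ((p - 1) / 2)

theorem mem_J {j : ℕ} : j ∈ D.J ↔ 1 ≤ j ∧ 2 * j < p := by
  obtain ⟨k, hk⟩ := D.odd_p
  simp only [J, Finset.mem_Icc]
  omega

theorem pow_root_ne_one {j : ℕ} (h0 : 0 < j) (hj : j < p) : D.root ^ j ≠ 1 := fun e => by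
  have := Nat.le_of_dvd h0 ((D.root_spec.pow_eq_one_iff_dvd j).mp e); omega

theorem sum_pair {x y : ℂ} (hx : x ^ p = 1) (hy : y ^ p = 1) (hx1 : x ≠ 1) (hy1 : y ≠ 1) :
    ∑ i ∈ Finset.range p, (x ^ i - 1) * (y ^ i - 1) = (p : ℂ) * (1 + if x * y = 1 then 1 else 0) := by
  rw [Finset.sum_congr rfl (g := fun i => (x * y) ^ i - x ^ i - y ^ i + 1) fun i _ => by
    rw [mul_pow]; ring]
  simp only [Finset.sum_add_distrib, Finset.sum_sub_distrib, Finset.sum_const, Finset.card_range,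
    nsmul_eq_mul, mul_one]
  rw [DihBlock.geom_sum_root (show (x * y) ^ p = 1 by rw [mul_pow, hx, hy, one_mul]),
    DihBlock.geom_sum_root hx, DihBlock.geom_sum_root hy, if_neg hx1, if_neg hy1]
  split_ifs <;> ring

theorem gram (θ : Subgroup.center H →* ℂ) {j l : ℕ} (hj : j ∈ D.J) (hl : l ∈ D.J) :
    ∑ χ ∈ D.fam θ, D.u χ j * D.u χ l = 2 + if j = l then 1 else 0 := by
  obtain ⟨hj0, hjp⟩ := D.mem_J.mp hj
  obtain ⟨hl0, hlp⟩ := D.mem_J.mp hl
  have hp := (Fact.out : p.Prime)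
  apply Int.cast_injective (α := ℂ)
  refine mul_left_cancel₀ (mul_ne_zero (Nat.cast_ne_zero.mpr hp.ne_zero)
    (Nat.cast_ne_zero.mpr hp.ne_zero) : (p : ℂ) * p ≠ 0) ?_
  set a : ℕ → ℂ := fun i => (D.root ^ j) ^ i - 1 with ha
  set b : ℕ → ℂ := fun k => conj ((D.root ^ l) ^ k - 1) with hb
  have h1 : ∀ χ : IrrCharacter H, ((p : ℂ) * p) * ((D.u χ j * D.u χ l : ℤ) : ℂ) =
      ∑ i ∈ Finset.range p, ∑ k ∈ Finset.range p,
        a i * b k * ((χ : H → ℂ) (D.v ^ i) * conj ((χ : H → ℂ) (D.v ^ k))) := fun χ => by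
    have hl' := congrArg conj (D.u_spec χ l)
    rw [map_mul, map_natCast, map_intCast, map_sum] at hl'
    rw [Int.cast_mul, mul_mul_mul_comm, D.u_spec, hl', Finset.sum_mul_sum]
    refine Finset.sum_congr rfl fun i _ => Finset.sum_congr rfl fun k _ => ?_
    rw [map_mul]; ring
  rw [Int.cast_sum, Finset.mul_sum, Finset.sum_congr rfl fun χ _ => h1 χ, Finset.sum_comm,
    Finset.sum_congr rfl fun i _ => Finset.sum_comm]
  simp only [← Finset.mul_sum]
  set x := D.root ^ j with hx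
  set y := D.root ^ l with hy
  have hyc : y * conj y = 1 := by
    rw [Complex.mul_conj', hy, norm_pow, D.root_spec.norm'_eq_one hp.ne_zero]; norm_num
  rw [Finset.sum_congr rfl (g := fun i => (p : ℂ) * ((x ^ i - 1) * (conj y ^ i - 1) +
      (x ^ i - 1) * (y ^ i - 1))) fun i hi => ?_, ← Finset.mul_sum, Finset.sum_add_distrib]
  · have hyp : y ^ p = 1 := D.root_pow l
    have hcyp : conj y ^ p = 1 := by rw [← map_pow, hyp, map_one]
    have hy1 : y ≠ 1 := D.pow_root_ne_one (by omega) (by omega)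
    have hcy1 : conj y ≠ 1 := fun e => hy1 (by rw [e, mul_one] at hyc; exact hyc)
    have hx1 : x ≠ 1 := D.pow_root_ne_one (by omega) (by omega)
    rw [sum_pair (D.root_pow j) hcyp hx1 hcy1, sum_pair (D.root_pow j) hyp hx1 hy1]
    have e1 : x * conj y = 1 ↔ j = l := by
      constructor
      · intro h
        have : x = y := by
          calc x = x * (y * conj y) := by rw [hyc, mul_one]
            _ = x * conj y * y := by ring
            _ = y := by rw [h, one_mul]
        exact D.root_spec.pow_inj (by omega) (by omega) this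
      · rintro rfl; exact hyc
    have e2 : ¬ x * y = 1 := by
      rw [hx, hy, ← pow_add]
      exact D.pow_root_ne_one (by omega) (by omega)
    rw [if_neg e2]
    by_cases hjl : j = l
    · rw [if_pos (e1.mpr hjl), if_pos hjl]; push_cast; ring
    · rw [if_neg fun h => hjl (e1.mp h), if_neg hjl]; push_cast; ring
  · rw [Finset.mem_range] at hi
    rcases Nat.eq_zero_or_pos i with rfl | hi0
    · simp [ha]
    rw [Finset.sum_congr rfl (g := fun k => a i * ((p : ℂ) *
      ((if i = k then b k else 0) + (if p - i = k then b k else 0)))) fun k hk => ?_]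
    · rw [← Finset.mul_sum, ← Finset.mul_sum, Finset.sum_add_distrib, Finset.sum_ite_eq,
        Finset.sum_ite_eq, if_pos (Finset.mem_range.mpr hi),
        if_pos (Finset.mem_range.mpr (by omega : p - i < p))]
      have e : conj (y ^ (p - i)) = y ^ i := by
        have h2 : conj (y ^ (p - i)) * conj (y ^ i) = 1 := by
          rw [← map_mul, ← pow_add, Nat.sub_add_cancel hi.le, hy, D.root_pow, map_one]
        have h3 : y ^ i * conj (y ^ i) = 1 := by rw [map_pow, ← mul_pow, hyc, one_pow]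
        exact mul_right_cancel₀ (right_ne_zero_of_mul_eq_one h3) (h2.trans h3.symm)
      simp only [ha, hb, map_sub, map_one, e]
      simp only [map_pow]
      ring
    · rw [Finset.mem_range] at hk
      rcases Nat.eq_zero_or_pos k with rfl | hk0
      · simp [hb, show i ≠ 0 by omega, show p - i ≠ 0 by omega]
      rw [D.column_v θ (D.v_pow_ne_one hi0 hi) (D.v_pow_ne_one hk0 hk)]
      have c1 : D.v ^ i = D.v ^ k ↔ i = k := ⟨D.v_pow_inj hi hk, fun h => h ▸ rfl⟩
      have c2 : D.v ^ i = (D.v ^ k)⁻¹ ↔ p - i = k := by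
        rw [eq_inv_iff_mul_eq_one, ← pow_add, D.v_pow_eq_one]
        constructor
        · rintro ⟨c, hc⟩
          rcases c with _ | _ | c
          · omega
          · omega
          · have : p * (c + 1 + 1) = p * c + 2 * p := by ring
            omega
        · intro h; exact ⟨1, by omega⟩
      simp only [c1, c2]
      split_ifs <;> ring

theorem orth (θ : Subgroup.center H →* ℂ) (j : ℕ) {g : H} (hg : ¬ p ∣ orderOf g) :
    ∑ χ ∈ D.fam θ, (D.u χ j : ℂ) * (χ : H → ℂ) g = 0 := by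
  have h : ∑ χ ∈ D.fam θ, (D.u χ j : ℂ) * conj ((χ : H → ℂ) g) = 0 := by
    refine mul_left_cancel₀ (Nat.cast_ne_zero.mpr (Fact.out : p.Prime).ne_zero) ?_
    rw [mul_zero, Finset.mul_sum]
    simp only [← mul_assoc, D.u_spec, Finset.sum_mul]
    rw [Finset.sum_comm]
    refine Finset.sum_eq_zero fun i hi => ?_
    rcases Nat.eq_zero_or_pos i with rfl | hi0
    · simp
    simp only [mul_assoc, ← Finset.mul_sum]
    have := congrArg conj (D.column_regular θ hg (D.v_pow_ne_one hi0 (Finset.mem_range.mp hi)))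
    rw [map_sum, map_zero] at this
    refine mul_eq_zero_of_right _ (Eq.trans (Finset.sum_congr rfl fun χ _ => ?_) this)
    rw [map_mul, Complex.conj_conj, mul_comm]
  have h' := congrArg conj h
  simpa [map_sum, map_mul] using h'

theorem n_neg (χ : IrrCharacter H) {j : ℕ} (hj : j ≤ p) : D.n χ (p - j) = D.n χ j := by
  apply Nat.cast_injective (R := ℂ)
  refine mul_left_cancel₀ (Nat.cast_ne_zero.mpr (Fact.out : p.Prime).ne_zero) ?_
  rw [← D.n_spec, ← D.n_spec]
  refine (sum_range_neg (f := fun i => (χ : H → ℂ) (D.v ^ i) * (D.root ^ (p - j)) ^ i) ?_).symm.trans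
    (Finset.sum_congr rfl fun i hi => ?_)
  · simp [D.v_pow_p, D.root_pow]
  · have hi' := (Finset.mem_range.mp hi).le
    have hv : D.v ^ (p - i) = (D.v ^ i)⁻¹ := by
      rw [eq_inv_iff_mul_eq_one, ← pow_add, Nat.sub_add_cancel hi', D.v_pow_p]
    have hc : (χ : H → ℂ) (D.v ^ (p - i)) = (χ : H → ℂ) (D.v ^ i) := by
      rw [hv]
      exact Char.eq_of_isConj (Char.isClassFunction_irr χ) (D.isConj_inv i).symm
    have hr : (D.root ^ (p - j)) ^ (p - i) = (D.root ^ j) ^ i := by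
      have h1 : (D.root ^ (p - j)) ^ (p - i) * (D.root ^ (p - j)) ^ i = 1 := by
        rw [← pow_add, Nat.sub_add_cancel hi', D.root_pow]
      have h2 : (D.root ^ j) ^ i * (D.root ^ (p - j)) ^ i = 1 := by
        rw [← mul_pow, ← pow_add, Nat.add_sub_cancel' hj, D.root_spec.pow_eq_one, one_pow]
      exact mul_right_cancel₀ (right_ne_zero_of_mul_eq_one h1) (h1.trans h2.symm)
    rw [hc, hr]

theorem sum_n (χ : IrrCharacter H) :
    ∑ j ∈ Finset.range p, D.n χ j = charDegree (χ : H → ℂ) := by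
  apply Nat.cast_injective (R := ℂ)
  refine mul_left_cancel₀ (Nat.cast_ne_zero.mpr (Fact.out : p.Prime).ne_zero) ?_
  push_cast
  rw [Finset.mul_sum]
  simp only [← D.n_spec]
  rw [Finset.sum_comm, Finset.sum_eq_single 0]
  · simp [(Blocks.irr_degree_eq χ).1, mul_comm]
  · intro i hi hi0
    simp only [← Finset.mul_sum, ← pow_mul, mul_comm _ i]
    simp only [pow_mul]
    rw [DihBlock.geom_sum_root (D.root_pow i),
      if_neg (D.pow_root_ne_one (Nat.pos_of_ne_zero hi0) (Finset.mem_range.mp hi)), mul_zero]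
  · simp [(Fact.out : p.Prime).pos]

theorem degree_eq (χ : IrrCharacter H) :
    (charDegree (χ : H → ℂ) : ℤ) = p * D.n χ 0 + 2 * ∑ j ∈ D.J, D.u χ j := by
  obtain ⟨T, hT⟩ := D.odd_p
  have hJ : D.J = Finset.Icc 1 T := by rw [J, show (p - 1) / 2 = T by omega]
  rw [← D.sum_n χ, show Finset.range p = {0} ∪ Finset.Icc 1 T ∪ (Finset.Icc 1 T).image (p - ·) by
    ext j
    simp only [Finset.mem_range, Finset.mem_union, Finset.mem_singleton, Finset.mem_Icc,
      Finset.mem_image]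
    constructor
    · intro h
      rcases Nat.eq_zero_or_pos j with rfl | h0
      · exact Or.inl (Or.inl rfl)
      · rcases le_or_gt j T with h1 | h1
        · exact Or.inl (Or.inr ⟨h0, h1⟩)
        · exact Or.inr ⟨p - j, by omega, by omega⟩
    · rintro ((rfl | h) | ⟨a, ha, rfl⟩) <;> omega,
    Finset.sum_union, Finset.sum_union, Finset.sum_singleton, Finset.sum_image, hJ]
  · rw [Finset.sum_congr rfl (g := D.n χ) (s₁ := Finset.Icc 1 T) (f := fun x => D.n χ (p - x))
      fun j hj => D.n_neg χ (by have := (Finset.mem_Icc.mp hj).2; omega)]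
    simp only [u, Finset.sum_sub_distrib, Finset.sum_const, Nat.card_Icc, nsmul_eq_mul]
    push_cast
    rw [show (p : ℤ) = 2 * T + 1 by exact_mod_cast hT]
    ring
  · intro a ha b hb h
    have := (Finset.mem_Icc.mp (Finset.mem_coe.mp ha)).2
    have := (Finset.mem_Icc.mp (Finset.mem_coe.mp hb)).2
    simp only at h
    omega
  · rw [Finset.disjoint_left]
    intro a ha; simp only [Finset.mem_singleton] at ha; simp [ha]
  · rw [Finset.disjoint_left]
    intro a ha hb
    simp only [Finset.mem_union, Finset.mem_singleton, Finset.mem_Icc] at ha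
    simp only [Finset.mem_image, Finset.mem_Icc] at hb
    obtain ⟨b, hb, rfl⟩ := hb
    omega

theorem value_of_u {χ : IrrCharacter H} {s : ℤ} (h : ∀ j ∈ D.J, D.u χ j = s) {i : ℕ}
    (hi0 : 0 < i) (hi : i < p) : (χ : H → ℂ) (D.v ^ i) = -(s : ℂ) := by
  have hn : ∀ j ∈ Finset.range p, (D.n χ j : ℂ) = (D.n χ 0 : ℂ) + s - if j = 0 then (s : ℂ) else 0 := by
    intro j hj
    have hj' := Finset.mem_range.mp hj
    rcases Nat.eq_zero_or_pos j with rfl | hj0
    · simp
    rw [if_neg hj0.ne', sub_zero]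
    have key : ∀ k ∈ D.J, (D.n χ k : ℂ) = (D.n χ 0 : ℂ) + s := fun k hk => by
      have := h k hk
      rw [u] at this
      have : (D.n χ k : ℤ) = D.n χ 0 + s := by omega
      exact_mod_cast this
    obtain ⟨T, hT⟩ := D.odd_p
    rcases lt_or_ge (2 * j) p with h1 | h1
    · exact key j (D.mem_J.mpr ⟨hj0, h1⟩)
    · rw [← D.n_neg χ hj'.le]
      exact key _ (D.mem_J.mpr ⟨by omega, by omega⟩)
  refine mul_left_cancel₀ (Nat.cast_ne_zero.mpr (Fact.out : p.Prime).ne_zero) ?_
  have key : ∑ j ∈ Finset.range p, (p : ℂ) * D.n χ j * (D.root ^ (p - i)) ^ j =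
      (p : ℂ) * (χ : H → ℂ) (D.v ^ i) := by
    simp only [← D.n_spec, Finset.sum_mul]
    rw [Finset.sum_comm, Finset.sum_eq_single i]
    · rw [Finset.sum_congr rfl (g := fun _ => (χ : H → ℂ) (D.v ^ i)) fun j _ => ?_, Finset.sum_const,
        Finset.card_range, nsmul_eq_mul]
      rw [mul_assoc, ← pow_mul, mul_comm j i, pow_mul, ← mul_pow, ← pow_add,
        Nat.add_sub_cancel' hi.le, D.root_spec.pow_eq_one, one_pow, mul_one]
    · intro k hk hki
      rw [Finset.mem_range] at hk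
      simp only [mul_assoc, ← Finset.mul_sum]
      refine mul_eq_zero_of_right _ ?_
      rw [Finset.sum_congr rfl (g := fun j => (D.root ^ (k + (p - i))) ^ j) fun j _ => by
        rw [pow_add, mul_pow, pow_right_comm _ j k],
        DihBlock.geom_sum_root (D.root_pow _), if_neg fun e => ?_]
      obtain ⟨c, hc⟩ := (D.root_spec.pow_eq_one_iff_dvd _).mp e
      rcases c with _ | _ | c
      · omega
      · omega
      · have : p * (c + 1 + 1) = p * c + 2 * p := by ring
        omega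
    · intro h; exact absurd (Finset.mem_range.mpr hi) h
  rw [← key, Finset.sum_congr rfl (g := fun j => (p : ℂ) * ((D.n χ 0 : ℂ) + s) * (D.root ^ (p - i)) ^ j -
      if j = 0 then (p : ℂ) * s else 0) fun j hj => ?_]
  · rw [Finset.sum_sub_distrib, ← Finset.mul_sum, DihBlock.geom_sum_root (D.root_pow _),
      if_neg (D.pow_root_ne_one (by omega) (by omega)), Finset.sum_ite_eq',
      if_pos (Finset.mem_range.mpr (Fact.out : p.Prime).pos)]
    ring
  · rw [hn j hj]
    by_cases hj0 : j = 0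
    · subst hj0; simp; ring
    · simp [hj0]

/-! ### Pairs of conjugates of `t` -/

theorem isConj_t (i : ℕ) : IsConj D.t (D.t * D.v ^ i) := by
  obtain ⟨T, hT⟩ := D.odd_p
  refine isConj_iff.mpr ⟨D.v ^ (T * i), ?_⟩
  have h1 : D.v ^ (T * i) * D.t = D.t * (D.v ^ (T * i))⁻¹ := by
    rw [← D.t_mul_v_pow]; simp [← mul_assoc, D.tt]
  rw [h1, mul_assoc]
  congr 1
  rw [← mul_inv_rev, ← pow_add, inv_eq_iff_mul_eq_one, ← pow_add, D.v_pow_eq_one]
  exact ⟨i, by rw [hT]; ring⟩

theorem card_pairs {k : ℕ} (hk : D.v ^ k ≠ 1) (z : Subgroup.center H) :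
    Nat.card {q : H × H // IsConj D.t q.1 ∧ IsConj D.t q.2 ∧ q.1 * q.2 = D.v ^ k * z} =
      if z = 1 then p else 0 := by
  have hinv : ∀ a : H, IsConj D.t a → a * a = 1 := by
    intro a ha
    obtain ⟨c, rfl⟩ := isConj_iff.mp ha
    calc c * D.t * c⁻¹ * (c * D.t * c⁻¹) = c * (D.t * D.t) * c⁻¹ := by group
      _ = 1 := by rw [D.tt, mul_one, mul_inv_cancel]
  have hz1 : ∀ a b : H, IsConj D.t a → IsConj D.t b → a * b = D.v ^ k * z →
      (z : H) = 1 ∧ ∃ i, a = D.t * D.v ^ i := by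
    intro a b ha hb hab
    have ha' := hinv a ha
    have hai : a⁻¹ = a := inv_eq_of_mul_eq_one_right ha'
    have hbi : b⁻¹ = b := inv_eq_of_mul_eq_one_right (hinv b hb)
    have h1 : a * (D.v ^ k * z) * a⁻¹ = (D.v ^ k * z)⁻¹ := by
      rw [← hab, hai, mul_inv_rev, hai, hbi, ← mul_assoc a a b, ha', one_mul]
    have hzp : (z : H) = 1 := by
      refine D.center_pow_p z.2 (D.center_sq (pow_mem z.2 p) ?_)
      have h2 := congrArg (· ^ p) h1
      simp only [conj_pow, inv_pow, D.mul_center_pow z.2] at h2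
      rw [Subgroup.mem_center_iff.mp (pow_mem z.2 p) a, mul_inv_cancel_right] at h2
      rw [pow_two, ← eq_inv_iff_mul_eq_one]; exact h2
    refine ⟨hzp, ?_⟩
    rw [hzp, mul_one] at h1
    obtain ⟨n, hn⟩ := D.exists_root (Subgroup.npow_mem_zpowers D.v k) hk
    have h2 : a * D.v * a⁻¹ = D.v⁻¹ := by rw [← hn, ← conj_pow, h1, inv_pow]
    obtain ⟨i, w, hw, hiw⟩ := D.cent (D.t * a) (by
      have h3 : a * D.v = D.v⁻¹ * a := by rw [← h2]; group
      have h4 : D.t * D.v⁻¹ = D.v * D.t := by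
        rw [← D.tv]; simp [← mul_assoc, D.tt]
      rw [mul_assoc, h3, ← mul_assoc, h4, mul_assoc])
    have ha2 : a = D.t * (D.v ^ i * w) := by rw [← hiw, ← mul_assoc, D.tt, one_mul]
    have hw2 : w * w = 1 := by
      have hc : ∀ x : H, x * w = w * x := fun x => Subgroup.mem_center_iff.mp hw x
      calc w * w = D.t * D.v ^ i * D.t * D.v ^ i * w * w := by rw [D.t_mul_v_pow]; group
        _ = (D.t * (D.v ^ i * w)) * (D.t * (D.v ^ i * w)) := by
          rw [show D.t * (D.v ^ i * w) * (D.t * (D.v ^ i * w)) =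
            D.t * D.v ^ i * (w * (D.t * D.v ^ i)) * w by group, ← hc (D.t * D.v ^ i)]
          group
        _ = 1 := by rw [← ha2, ha']
    rw [D.center_sq hw (by rw [pow_two, hw2]), mul_one] at ha2
    exact ⟨i, ha2⟩
  split_ifs with hz
  · subst hz
    refine Eq.trans ?_ (Nat.card_fin p)
    refine (Nat.card_congr (Equiv.ofBijective (fun i : Fin p =>
      (⟨(D.t * D.v ^ (i : ℕ), D.t * D.v ^ ((i : ℕ) + k)), D.isConj_t _, D.isConj_t _, by
        rw [Subgroup.coe_one, mul_one, pow_add, ← mul_assoc (D.t * D.v ^ (i : ℕ)),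
          D.t_mul_v_pow, inv_mul_cancel_left]⟩ :
        {q : H × H // IsConj D.t q.1 ∧ IsConj D.t q.2 ∧ q.1 * q.2 = D.v ^ k * ((1 : Subgroup.center H) : H)}))
      ⟨?_, ?_⟩)).symm
    · intro i i' h
      exact Fin.ext (D.v_pow_inj i.2 i'.2 (mul_left_cancel (congrArg (fun q => q.1.1) h)))
    · rintro ⟨⟨a, b⟩, ha, hb, hab⟩
      obtain ⟨-, i, rfl⟩ := hz1 a b ha hb hab
      refine ⟨⟨i % p, Nat.mod_lt _ (Fact.out : p.Prime).pos⟩, Subtype.ext (Prod.ext ?_ ?_)⟩
      · simp [D.v_pow_mod]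
      · show D.t * D.v ^ (i % p + k) = b
        have hb' : b = D.t * D.v ^ i * (D.v ^ k * 1) := by
          rw [show D.v ^ k * (1 : H) = D.t * D.v ^ i * b from hab.symm, ← mul_assoc,
            hinv _ (D.isConj_t i), one_mul]
        rw [hb', mul_one, pow_add, mul_assoc, D.v_pow_mod]
  · haveI : IsEmpty {q : H × H // IsConj D.t q.1 ∧ IsConj D.t q.2 ∧ q.1 * q.2 = D.v ^ k * z} :=
      ⟨fun q => hz (Subtype.ext (hz1 _ _ q.2.1 q.2.2.1 q.2.2.2).1)⟩
    exact Nat.card_of_isEmpty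

/-- The class-product number. -/
noncomputable def Q : ℂ := (p : ℂ) * Nat.card H /
  ((Nat.card (Subgroup.center H) : ℂ) * ((Subgroup.centralizer ({D.t} : Set H)).index : ℂ) ^ 2)

theorem weighted (θ : Subgroup.center H →* ℂ) {j : ℕ} (hj : j ∈ D.J) :
    ∑ χ ∈ D.fam θ, (D.u χ j : ℂ) * (χ : H → ℂ) D.t ^ 2 / (χ : H → ℂ) 1 = -D.Q := by
  obtain ⟨hj0, hjp⟩ := D.mem_J.mp hj
  have hp : (p : ℂ) ≠ 0 := Nat.cast_ne_zero.mpr (Fact.out : p.Prime).ne_zero
  have hz0 : (Nat.card (Subgroup.center H) : ℂ) ≠ 0 := Nat.cast_ne_zero.mpr Nat.card_pos.ne'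
  set m : ℂ := ((Subgroup.centralizer ({D.t} : Set H)).index : ℂ) with hm
  have hm0 : m ≠ 0 := Nat.cast_ne_zero.mpr Subgroup.index_ne_zero_of_finite
  have hG : (Nat.card H : ℂ) ≠ 0 := Nat.cast_ne_zero.mpr Nat.card_pos.ne'
  have hS : ∀ i ∈ Finset.range p, i ≠ 0 →
      (Nat.card (Subgroup.center H) : ℂ) *
        ∑ χ ∈ D.fam θ, (χ : H → ℂ) D.t ^ 2 * (χ : H → ℂ) (D.v ^ i) / (χ : H → ℂ) 1 =
      (p : ℂ) * Nat.card H / m ^ 2 := by
    intro i hi hi0
    have hi' := D.v_pow_ne_one (Nat.pos_of_ne_zero hi0) (Finset.mem_range.mp hi)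
    rw [D.proj]
    have hterm : ∀ z : Subgroup.center H, ∑ χ : IrrCharacter H,
        D.central χ z * ((χ : H → ℂ) D.t ^ 2 * (χ : H → ℂ) (D.v ^ i) / (χ : H → ℂ) 1) =
        ((if z = 1 then p else 0 : ℕ) : ℂ) * Nat.card H / m ^ 2 := by
      intro z
      have hcm := Char.class_mult D.t D.t (D.v ^ (p - i) * (z⁻¹ : Subgroup.center H))
      have hki : D.v ^ (p - i) ≠ 1 := D.v_pow_ne_one (by have := Finset.mem_range.mp hi; omega) (by omega)
      rw [D.card_pairs hki, ← hm] at hcm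
      simp only [inv_eq_one] at hcm
      rw [hcm]
      have e : (D.v ^ (p - i) * ((z⁻¹ : Subgroup.center H) : H))⁻¹ = D.v ^ i * z := by
        have hzc : Commute (D.v ^ i) (z : H) := Subgroup.mem_center_iff.mp z.2 _
        rw [Subgroup.coe_inv, mul_inv_rev, inv_inv, inv_eq_of_mul_eq_one_left (a := D.v ^ i), hzc.eq]
        rw [← pow_add, Nat.add_sub_cancel' (Finset.mem_range.mp hi).le, D.v_pow_p]
      simp only [← Blocks.irr_value_inv (Subtype.prop _), e]
      field_simp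
      refine Finset.sum_congr rfl fun χ _ => ?_
      rw [← D.central_mul_value]
      ring
    rw [Finset.sum_eq_single (1 : Subgroup.center H)]
    · rw [hterm, if_pos rfl, inv_one, map_one, one_mul]
    · intro z _ hz; rw [hterm, if_neg hz]; simp
    · simp
  refine mul_left_cancel₀ (mul_ne_zero hp hz0) ?_
  rw [Finset.mul_sum, Finset.sum_congr rfl (g := fun χ : IrrCharacter H => ∑ i ∈ Finset.range p,
    ((D.root ^ j) ^ i - 1) * ((Nat.card (Subgroup.center H) : ℂ) *
      ((χ : H → ℂ) D.t ^ 2 * (χ : H → ℂ) (D.v ^ i) / (χ : H → ℂ) 1))) fun χ _ => by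
    calc _ = (p : ℂ) * D.u χ j * ((Nat.card (Subgroup.center H) : ℂ) * ((χ : H → ℂ) D.t ^ 2 / (χ : H → ℂ) 1)) := by ring
      _ = _ := by
        rw [D.u_spec, Finset.sum_mul]
        exact Finset.sum_congr rfl fun i _ => by ring,
    Finset.sum_comm]
  simp only [← Finset.mul_sum]
  rw [Finset.sum_congr rfl (g := fun i => ((D.root ^ j) ^ i - 1) * ((p : ℂ) * Nat.card H / m ^ 2))
    fun i hi => ?_]
  · rw [← Finset.sum_mul, Finset.sum_sub_distrib, DihBlock.geom_sum_root (D.root_pow j),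
      if_neg (D.pow_root_ne_one (by omega) (by omega)), Finset.sum_const, Finset.card_range,
      nsmul_eq_mul, Q, ← hm]
    field_simp
    ring
  · rcases eq_or_ne i 0 with rfl | hi0
    · simp
    · rw [hS i hi hi0]

/-- The value at `t` is bounded by the multiplicity of the eigenvalue `1` of `v`. -/
theorem value_t (χ : IrrCharacter H) :
    ∃ a : ℤ, (χ : H → ℂ) D.t = a ∧ |a| ≤ D.n χ 0 ∧ 2 ∣ (charDegree (χ : H → ℂ) : ℤ) - a := by
  obtain ⟨a, ha, hpar⟩ := DihBlock.exists_value_involution (χ := χ) D.tt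
  refine ⟨a, ha, ?_, hpar⟩
  have hp : (p : ℂ) ≠ 0 := Nat.cast_ne_zero.mpr (Fact.out : p.Prime).ne_zero
  obtain ⟨N, ρ, hρ, hχ⟩ := χ.2
  set S : Module.End ℂ (Fin N → ℂ) := ∑ i ∈ Finset.range p, ρ (D.v ^ i) with hS
  have hshift : ∀ k, ρ (D.v ^ k) * S = S := by
    intro k
    induction k with
    | zero => rw [pow_zero, map_one, one_mul]
    | succ k ih =>
      rw [pow_succ, map_mul, mul_assoc]
      have h1 : ρ D.v * S = S := by
        rw [hS, Finset.mul_sum, Finset.sum_congr rfl (g := fun i => ρ (D.v ^ (i + 1))) fun i _ => by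
          rw [← map_mul, ← pow_succ']]
        apply add_right_cancel (b := ρ (D.v ^ 0))
        rw [← Finset.sum_range_succ' (fun i => ρ (D.v ^ i)) p, Finset.sum_range_succ, D.v_pow_p,
          pow_zero]
      rw [h1, ih]
  set E : Module.End ℂ (Fin N → ℂ) := (p : ℂ)⁻¹ • S with hE
  have hEE : E * E = E := by
    rw [hE, smul_mul_assoc, mul_smul_comm]
    conv_lhs => arg 2; arg 2; arg 1; rw [hS]
    rw [Finset.sum_mul, Finset.sum_congr rfl fun k _ => hshift k, Finset.sum_const,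
      Finset.card_range, ← Nat.cast_smul_eq_nsmul ℂ, smul_smul (p : ℂ)⁻¹ (p : ℂ), inv_mul_cancel₀ hp,
      one_smul]
  set R : Module.End ℂ (Fin N → ℂ) := ρ D.t with hR
  have hRR : R * R = 1 := by rw [hR, ← map_mul, D.tt, map_one]
  have hcomm : E * R = R * E := by
    rw [hE, smul_mul_assoc, mul_smul_comm, hS, Finset.sum_mul, Finset.mul_sum]
    congr 1
    refine (sum_range_neg (f := fun i => ρ (D.v ^ i) * R) (by simp [D.v_pow_p])).symm.trans
      (Finset.sum_congr rfl fun i hi => ?_)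
    rw [hR, ← map_mul, ← map_mul]
    congr 1
    have hv : D.v ^ (p - i) = (D.v ^ i)⁻¹ := by
      rw [eq_inv_iff_mul_eq_one, ← pow_add, Nat.sub_add_cancel (Finset.mem_range.mp hi).le, D.v_pow_p]
    rw [hv, ← D.t_mul_v_pow, mul_assoc, D.tt, mul_one]
  have htr : ∀ E : Module.End ℂ (Fin N → ℂ), E * E = E → E * R = R * E → ∀ c : ℂ, c * c = 1 → ∃ k : ℕ,
      LinearMap.trace ℂ _ E + c * LinearMap.trace ℂ _ (R * E) = 2 * (k : ℂ) := by
    intro E hEE hcomm c hc
    set A : Module.End ℂ (Fin N → ℂ) := (2 : ℂ)⁻¹ • (E + c • (R * E)) with hA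
    have hAA : IsIdempotentElem A := by
      show ((2 : ℂ)⁻¹ • (E + c • (R * E))) * ((2 : ℂ)⁻¹ • (E + c • (R * E))) = _
      have e1 : E * (R * E) = R * E := by rw [← mul_assoc, hcomm, mul_assoc, hEE]
      have e2 : R * E * E = R * E := by rw [mul_assoc, hEE]
      have e3 : R * E * (R * E) = E := by rw [mul_assoc, e1, ← mul_assoc, hRR, one_mul]
      rw [smul_mul_assoc, mul_smul_comm, smul_smul, add_mul, mul_add, mul_add, smul_mul_assoc,
        smul_mul_assoc, mul_smul_comm, mul_smul_comm, hEE, e1, e2, e3, smul_smul, hc, one_smul]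
      module
    refine ⟨Module.finrank ℂ (LinearMap.range A), ?_⟩
    have h := (LinearMap.IsProj.trace (p := LinearMap.range A)
      ⟨fun x => LinearMap.mem_range_self A x, fun x ⟨y, hy⟩ => by
        rw [← hy, ← Module.End.mul_apply, hAA]⟩)
    rw [← h, hA, map_smul, map_add, map_smul, smul_eq_mul, smul_eq_mul]
    ring
  have hval : ∀ g, LinearMap.trace ℂ _ (ρ g) = (χ : H → ℂ) g := fun g => congrFun hχ g
  have hE0 : LinearMap.trace ℂ _ E = (D.n χ 0 : ℂ) := by
    rw [hE, map_smul, hS, map_sum, smul_eq_mul, inv_mul_eq_iff_eq_mul₀ hp, ← D.n_spec χ 0]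
    simp only [hval, pow_zero, one_pow, mul_one]
  have hRE : LinearMap.trace ℂ _ (R * E) = (a : ℂ) := by
    rw [hE, mul_smul_comm, map_smul, hS, Finset.mul_sum, map_sum, smul_eq_mul,
      inv_mul_eq_iff_eq_mul₀ hp, ← ha, Finset.sum_congr rfl (g := fun _ => (χ : H → ℂ) D.t) fun i _ => by
        rw [hR, ← map_mul, hval]
        exact (Char.eq_of_isConj (Char.isClassFunction_irr χ) (D.isConj_t i)).symm,
      Finset.sum_const, Finset.card_range, nsmul_eq_mul]
  obtain ⟨k, hk⟩ := htr E hEE hcomm 1 (one_mul 1)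
  obtain ⟨l, hl⟩ := htr E hEE hcomm (-1) (by ring)
  rw [hE0, hRE, one_mul] at hk
  rw [hE0, hRE, neg_one_mul] at hl
  have hk' : (D.n χ 0 : ℤ) + a = 2 * k := by exact_mod_cast hk
  have hl' : (D.n χ 0 : ℤ) + -a = 2 * l := by exact_mod_cast hl
  rw [abs_le]
  omega

end Data

end CfsgLib.PMinusTwo
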