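import Cfsg.Agent.Lib.PMinusTwo.Main
import Cfsg.Agent.Lib.Perm.PermRank
import Cfsg.Agent.Lib.BrauerTuan.Two
import Cfsg.Agent.Lib.BrauerReynolds.Centralizer
import Cfsg.Agent.Lib.SL2.MaxList
import Cfsg.Agent.S0494
import Cfsg.Agent.S0496
import Mathlib.GroupTheory.GroupAction.Jordan

/-!
# Primitive groups of degree `2 p` that are not doubly transitive, with `|N(P)| = 2 p`
-/

set_option autoImplicit false
set_option linter.unusedSectionVars false
set_option linter.style.haveILetI false

namespace CfsgLib.PMinusTwo.TwoP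

/-- The divisor computation at `p = 5`. -/
def ordersFiveOK : Bool :=
  (List.range 441).all fun c => decide (3 * (c * c) % 8 ≠ 0) ||
    decide (72576 % (3 * (c * c) / 8) ≠ 0) || decide (3 * (c * c) / 8 % 5 ≠ 1) ||
    decide (3 * (c * c) / 8 = 6 ∨ 3 * (c * c) / 8 = 96 ∨ 3 * (c * c) / 8 = 216 ∨
      3 * (c * c) / 8 = 3456)

theorem ordersFiveOK_true : ordersFiveOK = true := by decide +kernel

theorem orders_five {c : ℕ} (hc : c < 441) (h8 : 3 * (c * c) % 8 = 0)
    (hd : 72576 % (3 * (c * c) / 8) = 0) (h5 : 3 * (c * c) / 8 % 5 = 1) :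
    3 * (c * c) / 8 = 6 ∨ 3 * (c * c) / 8 = 96 ∨ 3 * (c * c) / 8 = 216 ∨ 3 * (c * c) / 8 = 3456 := by
  have h := List.all_eq_true.mp ordersFiveOK_true c (List.mem_range.mpr hc)
  simp only [Bool.or_eq_true, decide_eq_true_eq] at h
  rcases h with ((h | h) | h) | h
  exacts [absurd h8 h, absurd hd h, absurd h5 h, h]

theorem twoBad_216 : BrauerTuan.twoBad 2160 5 216 4 46 = true := by decide +kernel

theorem twoBad_3456 : BrauerTuan.twoBad 34560 5 3456 8 185 = true := by decide +kernel

open Cfsg CfsgLib MulAction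
open scoped CfsgLib.Char
open scoped _root_.Classical

theorem inv_or_self {H : Type*} [Group H] {p : ℕ} (hp : p.Prime) {v g : H} (hv : orderOf v = p)
    (hg : g * v * g⁻¹ ∈ Subgroup.zpowers v) (h2 : Commute (g * g) v) :
    g * v * g⁻¹ = v ∨ g * v * g⁻¹ = v⁻¹ := by
  obtain ⟨i, hi⟩ := Subgroup.mem_zpowers_iff.mp hg
  have h1 : v ^ (i * i) = v ^ (1 : ℤ) := by
    have h2' : g * g * v = v * (g * g) := h2.eq
    rw [zpow_one, zpow_mul, hi, conj_zpow, hi,
      show g * (g * v * g⁻¹) * g⁻¹ = g * g * v * (g * g)⁻¹ by group, h2', mul_inv_cancel_right]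
  have hd : (p : ℤ) ∣ i * i - 1 := by
    rw [← hv, orderOf_dvd_iff_zpow_eq_one, zpow_sub, h1, zpow_one, mul_inv_cancel]
  rw [show i * i - 1 = (i - 1) * (i + 1) by ring] at hd
  rcases (Nat.prime_iff_prime_int.mp hp).dvd_or_dvd hd with h | h
  · left
    rw [← hv, orderOf_dvd_iff_zpow_eq_one, zpow_sub, zpow_one, hi, mul_inv_eq_one] at h
    exact h
  · right
    rw [← hv, orderOf_dvd_iff_zpow_eq_one, zpow_add, zpow_one, hi, mul_eq_one_iff_eq_inv] at h
    exact h

section Perm

variable {α : Type*} [Fintype α] [DecidableEq α] {p : ℕ} [Fact p.Prime]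
  {G : Subgroup (Equiv.Perm α)}

theorem eq_one_of_smul {g : G} (h : ∀ x : α, g • x = x) : g = 1 :=
  Subtype.ext (Equiv.ext h)

/-- A nontrivial normal subgroup has order divisible by `2 p`. -/
theorem normal_dvd (hα : Fintype.card α = 2 * p) (hprim : IsPreprimitive G α) {K : Subgroup G}
    (hK : K.Normal) (hne : K ≠ ⊥) : 2 * p ∣ Nat.card K := by
  have hfix : fixedPoints K α ≠ Set.univ := fun h => hne <| (Subgroup.eq_bot_iff_forall K).mpr
    fun g hg => eq_one_of_smul fun x => by
      have hx : x ∈ fixedPoints K α := h ▸ Set.mem_univ x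
      exact hx ⟨g, hg⟩
  haveI : IsPretransitive K α := IsQuasiPreprimitive.isPretransitive_of_normal hfix
  haveI : Nonempty α := Fintype.card_pos_iff.mp (by
    rw [hα]; have := (Fact.out : p.Prime).pos; omega)
  have x : α := Classical.arbitrary α
  rw [← hα, ← Nat.card_eq_fintype_card, ← index_stabilizer_of_transitive K x]
  exact Subgroup.index_dvd_card _

/-- An element of order `p` is free. -/
theorem free (hp : 2 < p) (hα : Fintype.card α = 2 * p) (hprim : IsPreprimitive G α)
    (hnot2 : ¬ IsMultiplyPretransitive G α 2) {v : G} (hv : orderOf v = p) (x : α) :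
    v • x ≠ x := by
  intro hx
  have hpp := (Fact.out : p.Prime)
  have fix_root : ∀ (i : ℕ) (y : α), 0 < i → i < p → v ^ i • y = y → v • y = y := by
    intro i y h0 hi h
    have hc : i.Coprime p := ((hpp.coprime_iff_not_dvd).mpr fun hd => by
      have := Nat.le_of_dvd h0 hd; omega).symm
    obtain ⟨n, hn⟩ := exists_pow_eq_self_of_coprime (x := v) (n := i) (hv.symm ▸ hc)
    have : v ∈ stabilizer G y := hn ▸ pow_mem (mem_stabilizer_iff.mpr h) n
    exact mem_stabilizer_iff.mp this
  have hmod : ∀ i : ℕ, v ^ (i % p) = v ^ i := fun i => hv ▸ pow_mod_orderOf v i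
  let O : α → Finset α := fun y => (Finset.range p).image fun i => v ^ i • y
  have hmem : ∀ (y : α) (i : ℕ), v ^ i • y ∈ O y := fun y i =>
    Finset.mem_image.mpr ⟨i % p, Finset.mem_range.mpr (Nat.mod_lt _ hpp.pos), by rw [hmod]⟩
  have hcard : ∀ y, v • y ≠ y → (O y).card = p := by
    intro y hy
    rw [Finset.card_image_of_injOn ?_, Finset.card_range]
    intro i hi j hj hij
    simp only [Finset.coe_range, Set.mem_Iio] at hi hj
    dsimp only at hij
    rcases Nat.lt_trichotomy i j with h | h | h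
    · refine absurd (fix_root (j - i) (v ^ i • y) (by omega) (by omega) ?_) ?_
      · rw [smul_smul, ← pow_add, show j - i + i = j by omega, hij]
      · intro e
        rw [smul_smul, (Commute.self_pow v i).eq, ← smul_smul] at e
        exact hy (smul_left_cancel _ e)
    · exact h
    · refine absurd (fix_root (i - j) (v ^ j • y) (by omega) (by omega) ?_) ?_
      · rw [smul_smul, ← pow_add, show i - j + j = i by omega, hij]
      · intro e
        rw [smul_smul, (Commute.self_pow v j).eq, ← smul_smul] at e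
        exact hy (smul_left_cancel _ e)
  obtain ⟨y, hy⟩ : ∃ y, v • y ≠ y := by
    by_contra h
    push Not at h
    have := eq_one_of_smul h
    rw [this, orderOf_one] at hv
    exact hpp.one_lt.ne hv
  have hxO : ∀ z, v • z ≠ z → x ∉ O z := by
    intro z hz h
    obtain ⟨i, -, hi⟩ := Finset.mem_image.mp h
    rw [← hi, smul_smul, (Commute.self_pow v i).eq, ← smul_smul] at hx
    exact hz (smul_left_cancel _ hx)
  have hall : ∀ z, v • z ≠ z → z ∈ O y := by
    intro z hz
    by_contra hzy
    have hdis : Disjoint (O y) (O z) := by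
      rw [Finset.disjoint_left]
      intro w hw hw'
      obtain ⟨i, hi, rfl⟩ := Finset.mem_image.mp hw
      obtain ⟨j, hj, hij⟩ := Finset.mem_image.mp hw'
      apply hzy
      have hj' := Finset.mem_range.mp hj
      have := congrArg (v ^ (p - j) • ·) hij
      simp only [smul_smul, ← pow_add] at this
      rw [show p - j + j = p by omega, show v ^ p = 1 from hv ▸ pow_orderOf_eq_one v, one_smul]
        at this
      rw [this]
      exact hmem y _
    have h1 : (insert x (O y ∪ O z)).card = 2 * p + 1 := by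
      rw [Finset.card_insert_of_notMem (by simp [hxO y hy, hxO z hz]),
        Finset.card_union_of_disjoint hdis, hcard y hy, hcard z hz]
      omega
    have := Finset.card_le_univ (insert x (O y ∪ O z))
    omega
  have hcompl : ∀ w, w ∈ O y ↔ v • w ≠ w := by
    refine fun w => ⟨fun hw e => ?_, hall w⟩
    obtain ⟨i, -, rfl⟩ := Finset.mem_image.mp hw
    rw [smul_smul, (Commute.self_pow v i).eq, ← smul_smul] at e
    exact hy (smul_left_cancel _ e)
  refine hnot2 (IsPreprimitive.is_two_pretransitive hprim (s := ((O y)ᶜ : Finset α)) (n := p - 1)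
    ?_ ?_ ?_)
  · rw [Set.ncard_coe_finset, Finset.card_compl, hcard y hy, hα]; omega
  · rw [Nat.card_eq_fintype_card, hα]; omega
  · have hvfix : v ∈ fixingSubgroup G (((O y)ᶜ : Finset α) : Set α) := by
      refine (mem_fixingSubgroup_iff G).mpr fun w hw => ?_
      by_contra h
      exact (Finset.mem_compl.mp hw) ((hcompl w).mpr h)
    refine ⟨fun a b => ?_⟩
    have ha : (a : α) ∈ O y := by
      have := (SubMulAction.mem_ofFixingSubgroup_iff G).mp a.2
      simpa using this
    have hb : (b : α) ∈ O y := by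
      have := (SubMulAction.mem_ofFixingSubgroup_iff G).mp b.2
      simpa using this
    obtain ⟨i, hi, hia⟩ := Finset.mem_image.mp ha
    obtain ⟨j, -, hjb⟩ := Finset.mem_image.mp hb
    have hi' := Finset.mem_range.mp hi
    refine ⟨⟨v ^ (j + (p - i)), pow_mem hvfix _⟩, Subtype.ext ?_⟩
    show v ^ (j + (p - i)) • (a : α) = b
    rw [← hia, ← hjb, smul_smul, ← pow_add, show j + (p - i) + i = j + p by omega, pow_add,
      show v ^ p = 1 from hv ▸ pow_orderOf_eq_one v, mul_one]

theorem exists_inverting (hα : Fintype.card α = 2 * p) (hprim : IsPreprimitive G α)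
    (P : Sylow p G) (hP : Nat.card P = p) {K : Subgroup G} (hK : K.Normal)
    (hPK : (P : Subgroup G) ≤ K)
    (hc : ∀ g ∈ K, g ∈ Subgroup.normalizer ((P : Subgroup G) : Set G) →
      ∀ x ∈ (P : Subgroup G), Commute g x) : False := by
  have hpp := (Fact.out : p.Prime)
  set Q : Sylow p K := P.subtype hPK with hQ
  have hQ' : Subgroup.normalizer ((Q : Subgroup K) : Set K) ≤
      Subgroup.centralizer ((Q : Subgroup K) : Set K) := by
    intro g hg
    refine Subgroup.mem_centralizer_iff.mpr fun x hx => ?_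
    have hx' : (x : G) ∈ (P : Subgroup G) := by simpa [hQ, Subgroup.mem_subgroupOf] using hx
    refine Subtype.ext (hc g g.2 (Subgroup.mem_normalizer_iff.mpr fun y => ?_) x hx').eq.symm
    constructor
    · intro hy
      have := (Subgroup.mem_normalizer_iff.mp hg ⟨y, hPK hy⟩).mp
        (by simpa [hQ, Subgroup.mem_subgroupOf] using hy)
      simpa [hQ, Subgroup.mem_subgroupOf] using this
    · intro hy
      have hyK : y ∈ K := by
        have := mul_mem (mul_mem (inv_mem g.2) (hPK hy)) g.2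
        simpa [mul_assoc] using this
      have := (Subgroup.mem_normalizer_iff.mp hg ⟨y, hyK⟩).mpr
        (by simpa [hQ, Subgroup.mem_subgroupOf] using hy)
      simpa [hQ, Subgroup.mem_subgroupOf] using this
  set f := MonoidHom.transferSylow Q hQ' with hf
  have hQc : Nat.card (Q : Subgroup K) = p :=
    (Nat.card_congr (Subgroup.subgroupOfEquivOfLe hPK).toEquiv).trans hP
  have hcompl := MonoidHom.ker_transferSylow_isComplement' Q hQ'
  have hnd : ¬ p ∣ Nat.card f.ker := MonoidHom.not_dvd_card_ker_transferSylow Q hQ'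
  have hM : ((f.ker).map K.subtype).Normal := ⟨fun m hm g => by
    obtain ⟨⟨m, hmK⟩, hmf, rfl⟩ := hm
    refine ⟨⟨g * m * g⁻¹, hK.conj_mem m hmK g⟩, ?_, rfl⟩
    have h1 : f ⟨g * m * g⁻¹, hK.conj_mem m hmK g⟩ ^ p = 1 := by
      conv_lhs => arg 2; rw [← hQc]
      exact pow_card_eq_one'
    have h2 : ¬ p ∣ orderOf (⟨g * m * g⁻¹, hK.conj_mem m hmK g⟩ : K) := fun h => hnd (by
      have e : orderOf (⟨g * m * g⁻¹, hK.conj_mem m hmK g⟩ : K) = orderOf (⟨⟨m, hmK⟩, hmf⟩ : f.ker) := by
        refine (Subgroup.orderOf_mk (g * m * g⁻¹) _).trans ?_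
        refine Eq.trans ?_ (((Subgroup.orderOf_mk _ _).trans (Subgroup.orderOf_mk _ _)).symm)
        exact MulEquiv.orderOf_eq (MulAut.conj g) m
      exact (e ▸ h).trans (orderOf_dvd_natCard _))
    refine MonoidHom.mem_ker.mpr (orderOf_eq_one_iff.mp ?_)
    exact Nat.eq_one_of_dvd_coprimes ((hpp.coprime_iff_not_dvd).mpr h2)
      (orderOf_dvd_of_pow_eq_one h1) (orderOf_map_dvd f _)⟩
  have hker : f.ker = ⊥ := by
    by_contra hne
    have := normal_dvd hα hprim hM (fun e => hne ((Subgroup.map_eq_bot_iff_of_injective _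
      K.subtype_injective).mp e))
    rw [Subgroup.card_map_of_injective K.subtype_injective] at this
    exact hnd ((dvd_mul_left p 2).trans this)
  have hKc : Nat.card K = p := by
    rw [← hcompl.card_mul, hker, Subgroup.card_bot, one_mul, hQc]
  have := normal_dvd hα hprim hK (fun e => by
    rw [e, Subgroup.card_bot] at hKc; exact hpp.one_lt.ne hKc)
  rw [hKc] at this
  have := Nat.le_of_dvd hpp.pos this
  have := hpp.two_le
  omega

/-- The local structure. -/
theorem local_facts (hp : 3 < p) (hα : Fintype.card α = 2 * p) (hprim : IsPreprimitive G α)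
    (P : Sylow p G)
    (hN : Nat.card (Subgroup.normalizer ((P : Subgroup G) : Set G)) = 2 * p) :
    ∃ D : Data G p, IsSimpleGroup G ∧ Subgroup.center G = ⊥ ∧ Nat.card P = p ∧
      Subgroup.centralizer ((P : Subgroup G) : Set G) = (P : Subgroup G) := by
  have hpp := (Fact.out : p.Prime)
  haveI : IsPretransitive G α := hprim.toIsPretransitive
  haveI : Nonempty α := Fintype.card_pos_iff.mp (by rw [hα]; omega)
  have x₀ : α := Classical.arbitrary α
  have hdvd : 2 * p ∣ Nat.card G := by
    rw [← hα, ← Nat.card_eq_fintype_card, ← index_stabilizer_of_transitive G x₀]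
    exact Subgroup.index_dvd_card _
  set N := Subgroup.normalizer ((P : Subgroup G) : Set G) with hNdef
  have hP : Nat.card P = p := by
    obtain ⟨k, hk⟩ := IsPGroup.iff_card.mp P.2
    have h1 : p ∣ Nat.card P := P.dvd_card_of_dvd_card ((dvd_mul_left p 2).trans hdvd)
    have h2 : p ^ k ∣ 2 * p := by
      rw [← hk, ← hN]; exact Subgroup.card_dvd_of_le Subgroup.le_normalizer
    rcases k with _ | _ | k
    · rw [pow_zero] at hk; rw [hk] at h1; exact absurd (Nat.dvd_one.mp h1) hpp.ne_one
    · rw [hk, zero_add, pow_one]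
    · exfalso
      have h3 : p * p ∣ 2 * p := (dvd_of_eq (pow_two p).symm).trans
        ((pow_dvd_pow p (show 2 ≤ k + 1 + 1 by omega)).trans h2)
      have := Nat.le_of_dvd two_pos (Nat.dvd_of_mul_dvd_mul_right hpp.pos h3)
      omega
  haveI hPcyc : IsCyclic (P : Subgroup G) := isCyclic_of_prime_card hP
  obtain ⟨⟨v, hvP⟩, hv⟩ := exists_prime_orderOf_dvd_card' (G := (P : Subgroup G)) p (dvd_of_eq hP.symm)
  rw [Subgroup.orderOf_mk] at hv
  have hPv : (P : Subgroup G) = Subgroup.zpowers v :=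
    (Subgroup.eq_of_le_of_card_ge (Subgroup.zpowers_le.mpr hvP) (by
      rw [Nat.card_zpowers, hv]; exact hP.le)).symm
  haveI : Fact (Nat.Prime 2) := ⟨Nat.prime_two⟩
  obtain ⟨⟨t, htN⟩, ht⟩ := exists_prime_orderOf_dvd_card' (G := N) 2 (hN ▸ dvd_mul_right 2 p)
  rw [Subgroup.orderOf_mk] at ht
  have htt : t * t = 1 := by rw [← pow_two, ← ht]; exact pow_orderOf_eq_one t
  have hti : t⁻¹ = t := inv_eq_of_mul_eq_one_right htt
  have htP : t ∉ (P : Subgroup G) := fun h => by
    have := Subgroup.orderOf_dvd_natCard (P : Subgroup G) h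
    rw [ht, hP] at this
    have := (Nat.prime_dvd_prime_iff_eq Nat.prime_two hpp).mp this
    omega
  have htv0 : t * v * t⁻¹ ∈ Subgroup.zpowers v := by
    rw [← hPv]; exact (Subgroup.mem_normalizer_iff.mp htN v).mp hvP
  have hcommP : ∀ g : G, Commute g v → ∀ x ∈ (P : Subgroup G), Commute g x := fun g hg x hx => by
    rw [hPv] at hx
    obtain ⟨i, rfl⟩ := Subgroup.mem_zpowers_iff.mp hx
    exact hg.zpow_right i
  have hNfull : ∀ K : Subgroup G, (P : Subgroup G) ≤ K → t ∈ K → N ≤ K := by
    intro K hPK htK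
    have h1 : 2 ∣ Nat.card (N ⊓ K : Subgroup G) :=
      ht ▸ Subgroup.orderOf_dvd_natCard _ (Subgroup.mem_inf.mpr ⟨htN, htK⟩)
    have h2 : p ∣ Nat.card (N ⊓ K : Subgroup G) :=
      hP ▸ Subgroup.card_dvd_of_le (le_inf Subgroup.le_normalizer hPK)
    have h3 : 2 * p ∣ Nat.card (N ⊓ K : Subgroup G) :=
      Nat.Coprime.mul_dvd_of_dvd_of_dvd ((Nat.coprime_primes Nat.prime_two hpp).mpr (by omega)) h1 h2
    have := Subgroup.eq_of_le_of_card_ge (inf_le_left : N ⊓ K ≤ N)
      (hN ▸ Nat.le_of_dvd Nat.card_pos h3)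
    exact this ▸ inf_le_right
  have htv : t * v * t⁻¹ = v⁻¹ := by
    rcases inv_or_self hpp hv htv0 (by rw [htt]; exact Commute.one_left v) with e | e
    · exfalso
      have htc : t ∈ Subgroup.centralizer ((P : Subgroup G) : Set G) :=
        Subgroup.mem_centralizer_iff.mpr fun x hx =>
          (hcommP t (mul_inv_eq_iff_eq_mul.mp e) x hx).eq.symm
      have hPc : (P : Subgroup G) ≤ Subgroup.centralizer ((P : Subgroup G) : Set G) := fun a ha =>
        Subgroup.mem_centralizer_iff.mpr fun b hb => congrArg Subtype.val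
          ((IsCyclic.commGroup (α := (P : Subgroup G))).mul_comm ⟨b, hb⟩ ⟨a, ha⟩)
      exact exists_inverting hα hprim P hP (K := ⊤) inferInstance le_top fun g _ hg x hx =>
        (Subgroup.mem_centralizer_iff.mp (hNfull _ hPc htc hg) x hx).symm
    · exact e
  have hvinv : v ≠ v⁻¹ := fun e => by
    rw [eq_inv_iff_mul_eq_one, ← pow_two] at e
    have := Nat.le_of_dvd two_pos (hv ▸ orderOf_dvd_of_pow_eq_one e)
    omega
  have hNidx : ((P : Subgroup G).subgroupOf N).index = 2 := by
    have h := ((P : Subgroup G).subgroupOf N).card_mul_index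
    rw [Nat.card_congr (Subgroup.subgroupOfEquivOfLe Subgroup.le_normalizer).toEquiv, hP, hN,
      mul_comm 2 p] at h
    exact Nat.eq_of_mul_eq_mul_left hpp.pos h
  have hnor : ∀ g ∈ N, g * v * g⁻¹ = v ∨ g * v * g⁻¹ = v⁻¹ := fun g hg => by
    refine inv_or_self hpp hv (by rw [← hPv]; exact (Subgroup.mem_normalizer_iff.mp hg v).mp hvP) ?_
    have := Subgroup.mul_self_mem_of_index_two hNidx (⟨g, hg⟩ : N)
    rw [Subgroup.mem_subgroupOf, Subgroup.coe_mul, hPv] at this
    obtain ⟨i, hi⟩ := Subgroup.mem_zpowers_iff.mp this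
    simp only at hi
    rw [← hi]
    exact Commute.zpow_self v i
  have hnormv : ∀ g : G, g * v * g⁻¹ ∈ Subgroup.zpowers v → g ∈ N := by
    intro g hg
    rw [hNdef]
    refine Subgroup.mem_normalizer_iff.mpr fun y => ?_
    have hmap : (P : Subgroup G).map (MulAut.conj g).toMonoidHom = (P : Subgroup G) := by
      refine Subgroup.eq_of_le_of_card_ge ?_ ?_
      · rw [hPv, MonoidHom.map_zpowers, Subgroup.zpowers_le]
        simpa using hg
      · rw [Subgroup.card_map_of_injective (MulAut.conj g).injective]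
    constructor
    · intro hy
      rw [← hmap]
      exact ⟨y, hy, by simp⟩
    · intro hy
      rw [← hmap] at hy
      obtain ⟨z, hz, e⟩ := hy
      simp only [MulEquiv.coe_toMonoidHom, MulAut.conj_apply] at e
      rwa [← (mul_right_injective g) (mul_left_injective g⁻¹ e)]
  have hC : ∀ g : G, g * v = v * g → g ∈ (P : Subgroup G) := by
    intro g hg
    have hgN : g ∈ N := hnormv g (by
      rw [hg, mul_inv_cancel_right]; exact Subgroup.mem_zpowers v)
    by_contra hgP
    have h1 : (⟨t, htN⟩ * ⟨g, hgN⟩ : N) ∈ (P : Subgroup G).subgroupOf N :=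
      (Subgroup.mul_mem_iff_of_index_two hNidx).mpr
        ⟨fun h => absurd h htP, fun h => absurd h hgP⟩
    rw [Subgroup.mem_subgroupOf, Subgroup.coe_mul, hPv] at h1
    obtain ⟨i, hi⟩ := Subgroup.mem_zpowers_iff.mp h1
    simp only at hi
    refine hvinv (Eq.trans ?_ htv)
    rw [show t = (t * g) * g⁻¹ by group, ← hi]
    have hg' : Commute g v := hg
    rw [mul_inv_rev, inv_inv, show v ^ i * g⁻¹ * v * (g * (v ^ i)⁻¹) =
      v ^ i * (g⁻¹ * (v * g)) * (v ^ i)⁻¹ by group, ← hg'.eq, inv_mul_cancel_left,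
      (Commute.zpow_self v i).eq, mul_inv_cancel_right]
  have hcen : Subgroup.center G = ⊥ := by
    refine (Subgroup.eq_bot_iff_forall _).mpr fun z hz => ?_
    have hz1 := hC z (Subgroup.mem_center_iff.mp hz v).symm
    rw [hPv] at hz1
    obtain ⟨i, rfl⟩ := Subgroup.mem_zpowers_iff.mp hz1
    have h1 : t * v ^ i * t⁻¹ = v ^ i := by
      rw [Subgroup.mem_center_iff.mp hz t, mul_inv_cancel_right]
    rw [← conj_zpow, htv, inv_zpow, inv_eq_iff_mul_eq_one, ← zpow_add,
      ← orderOf_dvd_iff_zpow_eq_one, hv, ← two_mul] at h1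
    rw [← orderOf_dvd_iff_zpow_eq_one, hv]
    refine ((Nat.prime_iff_prime_int.mp hpp).dvd_or_dvd h1).resolve_left fun h => ?_
    have := Int.le_of_dvd (by norm_num) h
    omega
  have hnt : Nontrivial G := ⟨⟨v, 1, fun e => by rw [e, orderOf_one] at hv; omega⟩⟩
  have hsimple : IsSimpleGroup G := by
    refine ⟨fun K hK => or_iff_not_imp_left.mpr fun hne => ?_⟩
    have hd := normal_dvd hα hprim hK hne
    have hPK : (P : Subgroup G) ≤ K := by
      haveI := hK
      obtain ⟨⟨w, hwK⟩, hw⟩ := exists_prime_orderOf_dvd_card' (G := K) p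
        ((dvd_mul_left p 2).trans hd)
      rw [Subgroup.orderOf_mk] at hw
      obtain ⟨Q, hQ⟩ := (IsPGroup.of_card (n := 1) (G := Subgroup.zpowers w)
        (by rw [Nat.card_zpowers, hw, pow_one])).exists_le_sylow
      have hQe : (Q : Subgroup G) = Subgroup.zpowers w :=
        (Subgroup.eq_of_le_of_card_ge hQ (by
          rw [Nat.card_zpowers, hw, Q.card_eq_multiplicity, ← P.card_eq_multiplicity, hP])).symm
      obtain ⟨g, hg⟩ := MulAction.exists_smul_eq G Q P
      rw [← hg, Sylow.coe_subgroup_smul, hQe]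
      intro y hy
      rw [Subgroup.mem_pointwise_smul_iff_inv_smul_mem] at hy
      obtain ⟨i, hi⟩ := Subgroup.mem_zpowers_iff.mp hy
      have : y = g * w ^ i * g⁻¹ := by
        rw [hi]; simp [MulAut.smul_def, mul_assoc]
      rw [this]
      exact hK.conj_mem _ (zpow_mem hwK i) g
    by_cases htK : t ∈ K
    · haveI := hK
      have := Sylow.normalizer_sup_eq_top' (N := K) P hPK
      exact (sup_eq_right.mpr (hNfull K hPK htK)).symm.trans this
    · refine (exists_inverting hα hprim P hP hK hPK fun g hgK hgN => hcommP g ?_).elim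
      rcases hnor g hgN with e | e
      · exact mul_inv_eq_iff_eq_mul.mp e
      · exfalso
        have hgP : g ∉ (P : Subgroup G) := fun h => hvinv (by
          rw [hPv] at h
          obtain ⟨i, rfl⟩ := Subgroup.mem_zpowers_iff.mp h
          rwa [(Commute.zpow_self v i).eq, mul_inv_cancel_right] at e)
        have h1 : (⟨t, htN⟩ * ⟨g, hgN⟩ : N) ∈ (P : Subgroup G).subgroupOf N :=
          (Subgroup.mul_mem_iff_of_index_two hNidx).mpr
            ⟨fun h => absurd h htP, fun h => absurd h hgP⟩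
        refine htK ?_
        have := mul_mem (hPK (Subgroup.mem_subgroupOf.mp h1)) (inv_mem hgK)
        simpa using this
  refine ⟨{
    five_le := ?_
    v := v
    t := t
    ordv := hv
    tt := htt
    tv := by conv_lhs => arg 2; rw [← hti]
             exact htv
    cent := fun g hg => ?_
    nor := fun g hg => hnor g (hnormv g hg)
    powZ := fun z hz => by rw [hcen, Subgroup.mem_bot] at hz; rw [hz, one_pow]
    syl := fun g hg => ?_
    perf := ?_ }, hsimple, hcen, hP, ?_⟩
  · have h4 : p ≠ 4 := fun e => by rw [e] at hpp; norm_num at hpp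
    omega
  · have h := hC g hg
    rw [hPv, ← mem_powers_iff_mem_zpowers, Submonoid.mem_powers_iff] at h
    obtain ⟨i, hi⟩ := h
    exact ⟨i, 1, Subgroup.one_mem _, by rw [mul_one, hi]⟩
  · obtain ⟨Q, hQ⟩ := (IsPGroup.of_card (n := 1) (G := Subgroup.zpowers g)
      (by rw [Nat.card_zpowers, hg, pow_one])).exists_le_sylow
    obtain ⟨h, hh⟩ := MulAction.exists_smul_eq G Q P
    refine ⟨h, ?_⟩
    rw [← hPv, ← hh, Sylow.coe_subgroup_smul]
    exact ⟨g, hQ (Subgroup.mem_zpowers g), by simp [MulAut.smul_def]⟩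
  · rcases (hsimple.eq_bot_or_eq_top_of_normal (commutator G) inferInstance) with h | h
    · exfalso
      have : t * v * t⁻¹ * v⁻¹ ∈ commutator G := Subgroup.commutator_mem_commutator (Subgroup.mem_top t)
        (Subgroup.mem_top v)
      rw [h, Subgroup.mem_bot, htv, ← mul_inv_rev, inv_eq_one, ← pow_two]
        at this
      have := Nat.le_of_dvd two_pos (hv ▸ orderOf_dvd_of_pow_eq_one this)
      omega
    · exact h
  · refine le_antisymm (fun g hg => hC g (Subgroup.mem_centralizer_iff.mp hg v hvP).symm) ?_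
    exact fun a ha => Subgroup.mem_centralizer_iff.mpr fun b hb => congrArg Subtype.val
      ((IsCyclic.commGroup (α := (P : Subgroup G))).mul_comm ⟨b, hb⟩ ⟨a, ha⟩)

/-- Two constituents of multiplicity one force double transitivity. -/
theorem two_transitive_of_rank [Fintype G] [IsPretransitive G α]
    (h : ∀ a : α, Nat.card (orbitRel.Quotient (stabilizer G a) α) = 2) :
    IsMultiplyPretransitive G α 2 := by
  rw [is_two_pretransitive_iff]
  intro a b c d hab hcd
  obtain ⟨g, hg⟩ := exists_smul_eq G a c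
  have hgb : g • b ≠ c := fun e => hab (smul_left_cancel g (hg.trans e.symm))
  obtain ⟨u, w, huw, hall⟩ := Nat.card_eq_two_iff.mp (h c)
  have hne : ∀ y : α, y ≠ c → (Quotient.mk'' y : orbitRel.Quotient (stabilizer G c) α) ≠
      Quotient.mk'' c := fun y hy e => by
    obtain ⟨k, hk⟩ := Quotient.eq''.mp e
    exact hy (hk.symm.trans (mem_stabilizer_iff.mp k.2))
  have key : (Quotient.mk'' (g • b) : orbitRel.Quotient (stabilizer G c) α) = Quotient.mk'' d := by
    have h1 := hne _ hgb
    have h2 := hne d hcd.symm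
    have hm : ∀ q : orbitRel.Quotient (stabilizer G c) α, q = u ∨ q = w := fun q => by
      have := hall ▸ Set.mem_univ q
      simpa using this
    rcases hm (Quotient.mk'' c) with e | e <;> rcases hm (Quotient.mk'' (g • b)) with e1 | e1 <;>
      rcases hm (Quotient.mk'' d) with e2 | e2 <;> simp_all
  obtain ⟨k, hk⟩ := Quotient.eq''.mp key.symm
  refine ⟨(k : G) * g, ?_, ?_⟩
  · rw [mul_smul, hg, mem_stabilizer_iff.mp k.2]
  · rw [mul_smul]; exact hk

/-- The constituents of the permutation character give a character of degree `p - 2`. -/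
theorem exists_small_character [Fintype G] (hp : 3 < p) (hα : Fintype.card α = 2 * p)
    (hprim : IsPreprimitive G α) (hnot2 : ¬ IsMultiplyPretransitive G α 2) (D : Data G p)
    (hcen : Subgroup.center G = ⊥) :
    ∃ B : IrrCharacter G, charDegree (B : G → ℂ) = p - 2 ∧ B ≠ Blocks.trivIrr G ∧
      D.Q * ((p : ℂ) - 2) = (p : ℂ) - 1 := by
  have hpp := (Fact.out : p.Prime)
  haveI : IsPretransitive G α := hprim.toIsPretransitive
  haveI : Nonempty α := Fintype.card_pos_iff.mp (by rw [hα]; omega)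
  have x₀ : α := Classical.arbitrary α
  set e := Blocks.trivIrr G with he
  have hval1 : ∀ g : G, ((e : IrrCharacter G) : G → ℂ) g = 1 := fun g => rfl
  obtain ⟨m, hm⟩ := Char.exists_multiplicities
    (Char.isCharacter_character (Cfsg.permRep ℂ G α))
  rw [Cfsg.Agent.Lib.Perm.permRep_character] at hm
  have hin : ∀ χ : IrrCharacter G,
      classInner (fun g : G => (Nat.card (fixedBy α g) : ℂ)) (χ : G → ℂ) = m χ := fun χ => by
    rw [hm, Char.classInner_sum_smul_irr]
  have hrank : ∀ a : α, ∑ χ : IrrCharacter G, m χ * m χ =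
      Nat.card (orbitRel.Quotient (stabilizer G a) α) := fun a => by
    obtain ⟨m', hin', hsq, -, -⟩ := Cfsg.Agent.Lib.Perm.exists_mult (G := G) a
    have : m' = m := funext fun χ => Nat.cast_injective (R := ℂ) ((hin' χ).symm.trans (hin χ))
    rw [← this, hsq]
  obtain ⟨m', hin', -, htriv, hdeg⟩ := Cfsg.Agent.Lib.Perm.exists_mult (G := G) x₀
  obtain rfl : m' = m := funext fun χ => Nat.cast_injective (R := ℂ) ((hin' χ).symm.trans (hin χ))
  have hme : m' e = 1 := htriv e (funext hval1)
  have hde : (charDegree (e : G → ℂ) : ℤ) = 1 := by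
    have := (Blocks.irr_degree_eq e).1
    rw [hval1] at this
    exact_mod_cast this.symm
  have hsum : ∑ χ : IrrCharacter G, (m' χ : ℤ) * charDegree (χ : G → ℂ) = 2 * p := by
    rw [hα] at hdeg
    simp only [fun χ => (Blocks.irr_degree_eq (G := G) χ).1] at hdeg
    have h : ((∑ χ : IrrCharacter G, (m' χ : ℤ) * charDegree (χ : G → ℂ) : ℤ) : ℂ) =
        ((2 * (p : ℤ) : ℤ) : ℂ) := by
      push_cast at hdeg ⊢; rw [← hdeg]
    exact_mod_cast h
  have hsub : ∀ s : Finset (IrrCharacter G),
      ∑ χ ∈ s, (m' χ : ℤ) * charDegree (χ : G → ℂ) ≤ 2 * p := fun s => hsum ▸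
    Finset.sum_le_sum_of_subset_of_nonneg (Finset.subset_univ s) fun χ _ _ => by positivity
  have hfix : ∀ i, 0 < i → i < p → Nat.card (fixedBy α (D.v ^ i)) = 0 := by
    intro i h0 hi
    haveI : IsEmpty (fixedBy α (D.v ^ i)) := ⟨fun ⟨x, hx⟩ => by
      obtain ⟨n, hn⟩ := D.exists_root (Subgroup.npow_mem_zpowers D.v i) (D.v_pow_ne_one h0 hi)
      refine free (by omega) hα hprim hnot2 D.ordv x ?_
      have : (D.v ^ i) ^ n ∈ stabilizer G x := pow_mem (mem_stabilizer_iff.mpr hx) n
      rw [hn] at this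
      exact mem_stabilizer_iff.mp this⟩
    exact Nat.card_of_isEmpty
  have hmu : ∀ j ∈ D.J, ∑ χ : IrrCharacter G, (m' χ : ℤ) * D.u χ j = 0 := by
    intro j hj
    apply Int.cast_injective (α := ℂ)
    refine mul_left_cancel₀ (Nat.cast_ne_zero.mpr hpp.ne_zero : (p : ℂ) ≠ 0) ?_
    push_cast
    rw [mul_zero, Finset.mul_sum, Finset.sum_congr rfl (g := fun χ : IrrCharacter G =>
      ∑ i ∈ Finset.range p, ((D.root ^ j) ^ i - 1) * ((m' χ : ℂ) * (χ : G → ℂ) (D.v ^ i)))
      fun χ _ => by
        rw [mul_left_comm, D.u_spec, Finset.mul_sum]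
        exact Finset.sum_congr rfl fun i _ => by ring, Finset.sum_comm]
    refine Finset.sum_eq_zero fun i hi => ?_
    rw [← Finset.mul_sum]
    rcases Nat.eq_zero_or_pos i with rfl | h0
    · simp
    have := congrFun hm (D.v ^ i)
    simp only [Finset.sum_apply, Pi.smul_apply, smul_eq_mul] at this
    rw [← this, hfix i h0 (Finset.mem_range.mp hi), Nat.cast_zero, mul_zero]
  obtain ⟨A, B, j₁, hj₁, hsupp, hAe, hBe, hAB, hAu, hBu⟩ := D.triv_rows
  have hfam := D.fam_eq hcen 1
  replace hAe : e ≠ A := hAe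
  set dA : ℤ := (charDegree (A : G → ℂ) : ℤ) with hdA_def
  set sA : ℤ := D.u A j₁ with hsA
  have hApos : 2 ≤ dA := by
    have h1 := (Blocks.irr_degree_eq A).2
    have h2 : charDegree (A : G → ℂ) ≠ 1 := fun h => hAe (D.eq_triv_of_degree_one h).symm
    omega
  have hAs : sA = -1 ∨ sA = 1 := by
    have hm1 : A ∈ D.supp 1 j₁ := by rw [hsupp]; simp
    rcases D.u_sq_le (D.mem_supp.mp hm1).1 hj₁ with a | a | a
    · exact Or.inl a
    · exact absurd a (D.mem_supp.mp hm1).2
    · exact Or.inr a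
  have hdA : dA = (p : ℤ) * D.n A 0 + ((p : ℤ) - 1) * sA := D.n_zero_degree hAu
  have hrow : ∀ j ∈ D.J, ∃ C : IrrCharacter G, C ≠ e ∧ C ≠ A ∧ D.u C j ≠ 0 ∧
      D.supp 1 j = {e, A, C} ∧ (D.u C j = -1 ∨ D.u C j = 1) ∧
      sA * dA + D.u C j * charDegree (C : G → ℂ) = 1 ∧ sA * m' A + D.u C j * m' C = 1 := by
    intro j hj
    have hem : e ∈ D.supp 1 j :=
      D.mem_supp.mpr ⟨by rw [hfam]; simp, by rw [D.u_triv j hj]; norm_num⟩
    have hAm : A ∈ (D.supp 1 j).erase e := Finset.mem_erase.mpr ⟨hAe.symm,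
      D.mem_supp.mpr ⟨by rw [hfam]; simp, by rw [hAu j hj]; rcases hAs with h | h <;> omega⟩⟩
    obtain ⟨C, hC⟩ := Finset.card_eq_one.mp (show (((D.supp 1 j).erase e).erase A).card = 1 by
      rw [Finset.card_erase_of_mem hAm, Finset.card_erase_of_mem hem, D.card_supp 1 hj])
    have hCm : C ∈ ((D.supp 1 j).erase e).erase A := by rw [hC]; simp
    simp only [Finset.mem_erase] at hCm
    obtain ⟨hCA, hCe, hCs⟩ := hCm
    have hs : D.supp 1 j = {e, A, C} := by
      rw [← Finset.insert_erase hem, ← Finset.insert_erase hAm, hC]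
    refine ⟨C, hCe, hCA, (D.mem_supp.mp hCs).2, hs, ?_, ?_, ?_⟩
    · rcases D.u_sq_le (D.mem_supp.mp hCs).1 hj with a | a | a
      · exact Or.inl a
      · exact absurd a (D.mem_supp.mp hCs).2
      · exact Or.inr a
    · have h := D.orth 1 j (Data.one_regular (H := G) (p := p))
      rw [D.sum_supp 1 hs, Finset.sum_insert (by simp [hAe, Ne.symm hCe]),
        Finset.sum_insert (by simp [hCA.symm]), Finset.sum_singleton, hval1,
        (Blocks.irr_degree_eq A).1, (Blocks.irr_degree_eq C).1, he, D.u_triv j hj, hAu j hj, mul_one] at h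
      have h' : (-1 : ℤ) + (sA * dA + D.u C j * charDegree (C : G → ℂ)) = 0 := by exact_mod_cast h
      omega
    · have h := hmu j hj
      rw [← Finset.sum_subset (Finset.subset_univ (D.supp 1 j)) fun χ _ hχ => by
        rw [show D.u χ j = 0 from not_not.mp fun h => hχ (D.mem_supp.mpr ⟨by rw [hfam]; simp, h⟩),
          mul_zero], hs, Finset.sum_insert (by simp [hAe, Ne.symm hCe]),
        Finset.sum_insert (by simp [hCA.symm]), Finset.sum_singleton, hme, he, D.u_triv j hj,
        hAu j hj] at h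
      push_cast at h
      linarith [mul_comm sA (m' A : ℤ), mul_comm (D.u C j) (m' C : ℤ)]
  obtain ⟨j₂, hj₂, hj12⟩ : ∃ j₂ ∈ D.J, j₂ ≠ j₁ := by
    have h5 := D.five_le
    rcases eq_or_ne j₁ 1 with h | h
    · exact ⟨2, D.mem_J.mpr ⟨by norm_num, by omega⟩, by omega⟩
    · exact ⟨1, D.mem_J.mpr ⟨le_rfl, by omega⟩, h.symm⟩
  obtain ⟨C₁, hC₁e, hC₁A, hC₁u, hC₁s, hC₁pm, hC₁d, hC₁m⟩ := hrow j₁ hj₁
  obtain ⟨C₂, hC₂e, hC₂A, hC₂u, -, hC₂pm, hC₂d, hC₂m⟩ := hrow j₂ hj₂
  have hC₁B : C₁ = B := by
    have h : C₁ ∈ D.supp 1 j₁ := by rw [hC₁s]; simp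
    rw [hsupp] at h
    simp only [Finset.mem_insert, Finset.mem_singleton] at h
    rcases h with h | h | h
    exacts [absurd h hC₁e, absurd h hC₁A, h]
  have h12 : C₁ ≠ C₂ := fun h => hC₂u (by rw [← h, hC₁B]; exact hBu j₂ hj₂ hj12)
  have hfour : (1 : ℤ) + m' A * dA + m' C₁ * charDegree (C₁ : G → ℂ) +
      m' C₂ * charDegree (C₂ : G → ℂ) ≤ 2 * p := by
    have h := hsub {e, A, C₁, C₂}
    rw [Finset.sum_insert (by simp [hAe, hC₁e.symm, hC₂e.symm]),
      Finset.sum_insert (by simp [hC₁A.symm, hC₂A.symm]), Finset.sum_insert (by simp [h12]),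
      Finset.sum_singleton, hme, hde, Nat.cast_one, one_mul] at h
    linarith
  have hd1 := (Blocks.irr_degree_eq C₁).2
  have hd2 := (Blocks.irr_degree_eq C₂).2
  rcases hAs with hs | hs <;> rw [hs] at hC₁d hC₁m hC₂d hC₂m hdA
  · exfalso
    have u1 : D.u C₁ j₁ = 1 := by
      rcases hC₁pm with h | h
      · rw [h] at hC₁d; omega
      · exact h
    have u2 : D.u C₂ j₂ = 1 := by
      rcases hC₂pm with h | h
      · rw [h] at hC₂d; omega
      · exact h
    rw [u1] at hC₁d hC₁m
    rw [u2] at hC₂d hC₂m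
    have hK : 2 ≤ D.n A 0 := by
      by_contra h
      have : D.n A 0 = 0 ∨ D.n A 0 = 1 := by omega
      rcases this with h | h <;> rw [h] at hdA <;> omega
    have hA' : (p : ℤ) + 1 ≤ dA := by
      have : (p : ℤ) * 2 ≤ p * D.n A 0 :=
        mul_le_mul_of_nonneg_left (by exact_mod_cast hK) (by positivity)
      linarith
    have e1 : 1 * ((p : ℤ) + 2) ≤ m' C₁ * charDegree (C₁ : G → ℂ) :=
      mul_le_mul (by omega) (by omega) (by positivity) (by positivity)
    have e2 : 1 * ((p : ℤ) + 2) ≤ m' C₂ * charDegree (C₂ : G → ℂ) :=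
      mul_le_mul (by omega) (by omega) (by positivity) (by positivity)
    have e3 : (0 : ℤ) ≤ m' A * dA := mul_nonneg (by positivity) (by omega)
    linarith
  · have u1 : D.u C₁ j₁ = -1 := by
      rcases hC₁pm with h | h
      · exact h
      · rw [h] at hC₁d; omega
    have u2 : D.u C₂ j₂ = -1 := by
      rcases hC₂pm with h | h
      · exact h
      · rw [h] at hC₂d; omega
    rw [u1] at hC₁d hC₁m
    rw [u2] at hC₂d hC₂m
    have hA' : (p : ℤ) - 1 ≤ dA := by
      have : (0 : ℤ) ≤ p * D.n A 0 := by positivity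
      linarith
    have hmC : m' C₁ = 0 := by
      by_contra h
      have e1 : 1 * ((p : ℤ) - 2) ≤ m' C₁ * charDegree (C₁ : G → ℂ) :=
        mul_le_mul (by omega) (by omega) (by omega) (by positivity)
      have e2 : 1 * ((p : ℤ) - 2) ≤ m' C₂ * charDegree (C₂ : G → ℂ) :=
        mul_le_mul (by omega) (by omega) (by omega) (by positivity)
      have e3 : 2 * ((p : ℤ) - 1) ≤ m' A * dA :=
        mul_le_mul (by omega) hA' (by omega) (by positivity)
      omega
    have hmA : m' A = 1 := by omega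
    rw [hmA, hmC, Nat.cast_one, one_mul, Nat.cast_zero, zero_mul] at hfour
    have hn : D.n A 0 ≤ 1 := by
      by_contra h
      have : (p : ℤ) * 2 ≤ p * D.n A 0 := mul_le_mul_of_nonneg_left (by omega) (by positivity)
      have : (0 : ℤ) ≤ m' C₂ * charDegree (C₂ : G → ℂ) := by positivity
      linarith
    have hn0 : D.n A 0 = 0 := by
      by_contra h0
      have h1 : D.n A 0 = 1 := by omega
      rw [h1] at hdA
      push_cast at hdA
      apply hnot2
      refine two_transitive_of_rank fun a => (hrank a).symm.trans ?_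
      have hz : ∀ χ : IrrCharacter G, χ ∉ ({e, A} : Finset (IrrCharacter G)) → m' χ = 0 := by
        intro χ hχ
        have h := hsub (insert χ {e, A})
        rw [Finset.sum_insert hχ, Finset.sum_pair hAe, hme, hde, hmA, ← hdA_def] at h
        push_cast at h
        have := (Blocks.irr_degree_eq χ).2
        by_contra hne
        have : 1 * (1 : ℤ) ≤ m' χ * charDegree (χ : G → ℂ) :=
          mul_le_mul (by omega) (by omega) (by norm_num) (by positivity)
        linarith
      rw [← Finset.sum_subset (Finset.subset_univ ({e, A} : Finset (IrrCharacter G)))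
        fun χ _ hχ => by rw [hz χ hχ, mul_zero], Finset.sum_pair hAe, hme, hmA]
    rw [hn0] at hdA
    push_cast at hdA
    have hBd : charDegree (B : G → ℂ) = p - 2 := by rw [← hC₁B]; omega
    refine ⟨B, hBd, hBe.symm, ?_⟩
    obtain ⟨a, ha, hab, -⟩ := D.value_t A
    rw [hn0, Nat.cast_zero] at hab
    have hAt : (A : G → ℂ) D.t = 0 := by rw [ha, abs_nonpos_iff.mp hab, Int.cast_zero]
    have hBt : (B : G → ℂ) D.t = -1 := by
      have h := D.orth 1 j₁ D.t_regular
      rw [D.sum_supp 1 hsupp, Finset.sum_insert (by simp only [Finset.mem_insert, Finset.mem_singleton, not_or]; exact ⟨hAe, hBe⟩),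
        Finset.sum_insert (by simp [hAB]), Finset.sum_singleton, hval1, hAt,
        D.u_triv j₁ hj₁, ← hC₁B, u1] at h
      rw [← hC₁B]
      push_cast at h
      linear_combination -h
    have hw := D.weighted 1 hj₁
    simp only [mul_div_assoc] at hw
    rw [D.sum_supp 1 hsupp, Finset.sum_insert (by simp only [Finset.mem_insert, Finset.mem_singleton, not_or]; exact ⟨hAe, hBe⟩),
      Finset.sum_insert (by simp [hAB]), Finset.sum_singleton, hval1, hval1, hAt, hBt,
      (Blocks.irr_degree_eq B).1, hBd, D.u_triv j₁ hj₁, ← hC₁B, u1,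
      Nat.cast_sub (by omega)] at hw
    have hp2 : (p : ℂ) - 2 ≠ 0 := by
      rw [show (p : ℂ) - 2 = ((p - 2 : ℕ) : ℂ) by rw [Nat.cast_sub (by omega)]; norm_num]
      exact Nat.cast_ne_zero.mpr (by omega)
    push_cast at hw
    rw [show D.Q = -(-D.Q) by ring, ← hw]
    field_simp
    ring

/-- The case of large `p` is impossible. -/
theorem large_false [Fintype G] (h7 : 7 ≤ p) (hα : Fintype.card α = 2 * p)
    (hprim : IsPreprimitive G α) (D : Data G p) [IsSimpleGroup G] {B : IrrCharacter G}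
    (hB : charDegree (B : G → ℂ) = p - 2) (hne : B ≠ Blocks.trivIrr G) : False := by
  obtain ⟨-, k, F, instF, instFF, hpk, hF, ⟨e⟩⟩ :=
    exists_field D h7 hB fun g hg => BrauerReynolds.faithful_of_simple hne hg
  haveI : IsPretransitive G α := hprim.toIsPretransitive
  haveI : Nontrivial α := Fintype.one_lt_card_iff_nontrivial.mp (by rw [hα]; omega)
  have x : α := Classical.arbitrary α
  have hcharF : Even (Nat.card F) := by
    rw [Nat.card_eq_fintype_card, hF, Nat.even_pow]
    exact ⟨even_two, fun h => by rw [h, pow_zero] at hpk; omega⟩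
  haveI : Fact (Nat.Prime 2) := ⟨Nat.prime_two⟩
  haveI : CharP F 2 := charP_of_card_eq_prime_pow (f := k) hF
  set q := Nat.card F with hq
  have hpq : p = q + 1 := by rw [hpk, hq, Nat.card_eq_fintype_card, hF]
  let f : G ≃* Matrix.ProjectiveSpecialLinearGroup (Fin 2) F :=
    e.trans (MulEquiv.ofBijective (CfsgLib.SL2.proj (F := F))
      ⟨(MonoidHom.ker_eq_bot_iff _).1 (by
        rw [QuotientGroup.ker_mk', CfsgLib.BrauerReynolds.center_SL_two_of_char_two]),
        CfsgLib.SL2.proj_surjective⟩)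
  have hG : Nat.card G = q * ((q - 1) * (q + 1)) := by
    rw [Nat.card_congr f.toEquiv]
    have h := CfsgLib.SL2.card_PSL (F := F)
    obtain ⟨r, hr⟩ := hcharF
    rwa [show Nat.gcd 2 (Nat.card F - 1) = 1 from
      (Nat.coprime_two_left.mpr ⟨r - 1, by omega⟩ : Nat.Coprime 2 (Nat.card F - 1)), one_mul] at h
  set M := (stabilizer G x).map f.toMonoidHom with hMdef
  have hM : IsCoatom M :=
    (OrderIso.isCoatom_iff f.mapSubgroup _).mpr ((isCoatom_stabilizer_iff_preprimitive G x).mpr hprim)
  have hMc : Nat.card M * (2 * p) = q * ((q - 1) * (q + 1)) := by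
    rw [hMdef, Subgroup.card_map_of_injective f.injective, ← hG, ← hα, ← Nat.card_eq_fintype_card,
      ← index_stabilizer_of_transitive G x, Subgroup.card_mul_index]
  rw [hpq] at hMc
  have h4 : 4 ≤ q := by omega
  rcases CfsgLib.SL2.coatom_even_cases hcharF h4 hM with h | ⟨⟨g⟩⟩ | ⟨⟨g⟩⟩ | ⟨F₀, i₁, i₂, r, hr, h2, hqr, ⟨g⟩⟩
  · rw [← hq] at h
    rw [h, show q * (q - 1) * (2 * (q + 1)) = 2 * (q * ((q - 1) * (q + 1))) by ring] at hMc
    have : 0 < q * ((q - 1) * (q + 1)) := by
      have : 0 < q - 1 := by omega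
      positivity
    omega
  · rw [Nat.card_congr g.toEquiv, DihedralGroup.nat_card, ← hq] at hMc
    have h : 4 * ((q - 1) * (q + 1)) = q * ((q - 1) * (q + 1)) := by rw [← hMc]; ring
    have := Nat.eq_of_mul_eq_mul_right (Nat.mul_pos (by omega) (by omega)) h
    omega
  · rw [Nat.card_congr g.toEquiv, DihedralGroup.nat_card, ← hq] at hMc
    have h : 4 * (q + 1) * (q + 1) = q * (q - 1) * (q + 1) := by linarith
    have := Nat.eq_of_mul_eq_mul_right (by omega : 0 < q + 1) h
    obtain ⟨s, hs⟩ : ∃ s, q = s + 1 := ⟨q - 1, by omega⟩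
    rw [hs, Nat.add_sub_cancel] at this
    rcases Nat.lt_or_ge s 5 with h5 | h5
    · interval_cases s <;> omega
    · nlinarith
  · set q₀ := Nat.card F₀ with hq0
    have hq₀ : q = q₀ ^ r := by rw [hq, hqr, hq0, Nat.card_eq_fintype_card]
    have hev : Even q₀ := (Nat.even_pow.mp (hq₀ ▸ hcharF)).1
    have h40 : 4 ≤ q₀ := by
      obtain ⟨s, hs⟩ := hev
      have h1 : 1 < q₀ := by rw [hq0]; exact Finite.one_lt_card
      have : q₀ ≠ 2 := by rw [hq0, Nat.card_eq_fintype_card]; exact h2
      omega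
    have hc := CfsgLib.SL2.card_PSL (F := F₀)
    rw [← hq0] at hc
    obtain ⟨s, hs⟩ := hev
    rw [show Nat.gcd 2 (q₀ - 1) = 1 from
      (Nat.coprime_two_left.mpr ⟨s - 1, by omega⟩ : Nat.Coprime 2 (q₀ - 1)), one_mul] at hc
    rw [Nat.card_congr g.toEquiv, hc] at hMc
    have h : q₀ * ((q₀ - 1) * (q₀ + 1)) * 2 * (q + 1) = q * (q - 1) * (q + 1) := by linarith
    have h' := Nat.eq_of_mul_eq_mul_right (by omega : 0 < q + 1) h
    have hge : q₀ * q₀ ≤ q := by
      rw [hq₀, ← pow_two]; exact Nat.pow_le_pow_right (by omega) hr.two_le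
    have h1 : q₀ * q₀ * (q₀ * q₀ - 1) ≤ q * (q - 1) := Nat.mul_le_mul hge (Nat.sub_le_sub_right hge 1)
    have h2' : (q₀ - 1) * (q₀ + 1) = q₀ * q₀ - 1 := by
      rw [mul_comm, ← Nat.sq_sub_sq, pow_two, one_pow]
    rw [← h', h2'] at h1
    have h3 : 0 < q₀ * (q₀ * q₀ - 1) := Nat.mul_pos (by omega) (by
      have : 4 * 4 ≤ q₀ * q₀ := Nat.mul_le_mul h40 h40
      omega)
    have : q₀ * (q₀ * (q₀ * q₀ - 1)) ≤ 2 * (q₀ * (q₀ * q₀ - 1)) := by linarith
    have := Nat.le_of_mul_le_mul_right this h3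
    omega

end Perm

section Five

variable {α : Type*} [Fintype α] [DecidableEq α] {G : Subgroup (Equiv.Perm α)} [Fintype G]

/-- For `p = 5` the group has order sixty. -/
theorem card_five [Fact (Nat.Prime 5)] (hα : Fintype.card α = 2 * 5) (D : Data G 5) [IsSimpleGroup G]
    (hcen : Subgroup.center G = ⊥) (P : Sylow 5 G) (hP : Nat.card P = 5)
    (hC : Subgroup.centralizer ((P : Subgroup G) : Set G) = (P : Subgroup G))
    (hN : Nat.card (Subgroup.normalizer ((P : Subgroup G) : Set G)) = 2 * 5)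
    (hQ : D.Q * (((5 : ℕ) : ℂ) - 2) = ((5 : ℕ) : ℂ) - 1) : Nat.card G = 60 := by
  set n := Nat.card (Sylow 5 G) with hn
  have hG : Nat.card G = n * 10 := by
    rw [hn, P.card_eq_index_normalizer, show (10 : ℕ) = 2 * 5 from rfl, ← hN]
    exact (Subgroup.index_mul_card _).symm
  have hnmod : n % 5 = 1 := by
    have h := card_sylow_modEq_one 5 G
    rw [← hn] at h
    exact h
  set c := Nat.card (Subgroup.centralizer ({D.t} : Set G)) with hc
  set i := (Subgroup.centralizer ({D.t} : Set G)).index with hi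
  have hci : c * i = Nat.card G := Subgroup.card_mul_index _
  have hi0 : i ≠ 0 := Subgroup.index_ne_zero_of_finite
  have heq : 3 * (c * c) = 8 * n := by
    rw [Data.Q, hcen, Subgroup.card_bot, Nat.cast_one, one_mul, ← hi, div_mul_eq_mul_div,
      div_eq_iff (pow_ne_zero 2 (Nat.cast_ne_zero.mpr hi0))] at hQ
    have h15 : ((15 * Nat.card G : ℕ) : ℂ) = ((4 * (i * i) : ℕ) : ℂ) := by
      push_cast at hQ ⊢; linear_combination hQ
    have h15' : 15 * Nat.card G = 4 * (i * i) := by exact_mod_cast h15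
    have e : 5 * (3 * (c * c)) * Nat.card G = 5 * (8 * n) * Nat.card G := by
      calc 5 * (3 * (c * c)) * Nat.card G = (15 * Nat.card G) * (c * c) := by ring
        _ = 4 * ((c * i) * (c * i)) := by rw [h15']; ring
        _ = 4 * (Nat.card G * (n * 10)) := by rw [hci, ← hG]
        _ = _ := by ring
    exact Nat.eq_of_mul_eq_mul_left (show 0 < 5 by norm_num) (Nat.eq_of_mul_eq_mul_right Nat.card_pos e)
  have hdiv : Nat.card G ∣ Nat.factorial 10 := by
    have h := Subgroup.card_subgroup_dvd_card G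
    rwa [Nat.card_perm, Nat.card_eq_fintype_card (α := α), hα] at h
  have hn2 : n ∣ 72576 := by
    rw [hG, show Nat.factorial 10 = 362880 * 10 by rfl] at hdiv
    have h1 : n ∣ 5 * 72576 := Nat.dvd_of_mul_dvd_mul_right (by norm_num) hdiv
    refine Nat.Coprime.dvd_of_dvd_mul_left ?_ h1
    refine ((Nat.Prime.coprime_iff_not_dvd (by norm_num : Nat.Prime 5)).mpr fun h => ?_).symm
    omega
  have hclt : c < 441 := by
    have := Nat.le_of_dvd (by norm_num) hn2
    by_contra h
    have : 441 * 441 ≤ c * c := Nat.mul_le_mul (by omega) (by omega)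
    omega
  have hc8 : 3 * (c * c) / 8 = n := by rw [heq]; omega
  have hcases := orders_five hclt (by rw [heq]; omega)
    (by rw [hc8]; exact Nat.mod_eq_zero_of_dvd hn2) (by rw [hc8]; exact hnmod)
  rw [hc8] at hcases
  have hnc : ¬ IsMulCommutative G := fun h => D.v_ne_one (by
    have h1 : D.v ∈ Subgroup.center G := Subgroup.mem_center_iff.mpr fun g => h.is_comm.comm g D.v
    rwa [hcen, Subgroup.mem_bot] at h1)
  have hcyc : ¬ IsCyclic G := fun h => hnc (by
    haveI := h
    exact ⟨⟨fun a b => (IsCyclic.commGroup (α := G)).mul_comm a b⟩⟩)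
  obtain ⟨E⟩ := BrauerTuan.nonempty_data hcyc P hP
  have hEn : 1 + E.n * 5 = n := E.card_sylow.symm
  have hEe : E.e = 2 := by
    have h := E.card_G
    rw [hC, hP, hEn, hG] at h
    have : n * 10 = n * (E.e * 5) := by rw [h]; ring
    have := Nat.eq_of_mul_eq_mul_left (by omega : 0 < n) this
    omega
  rcases hcases with h | h | h | h
  · rw [hG, h]
  · exfalso
    rcases Cfsg.Agent.S0496.result hnc (by rw [hG, h]; norm_num) with e | e | e | e | e | e <;>
      rw [hG, h] at e <;> norm_num at e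
  · exfalso
    let T : BrauerTuan.OrderCtx G 2160 5 [] 46 1 :=
      { P := P, card_P := hP, D := E, noncomm := hnc, card_eq := by rw [hG, h]
        sq := by norm_num, bound := by norm_num, primes := by simp
        card_C := by rw [hC, hP] }
    exact BrauerTuan.false_of_twoBad T (c := 216) (b := 4) (hEn.trans h) hEe rfl le_rfl (by norm_num)
      (by norm_num) twoBad_216
  · exfalso
    let T : BrauerTuan.OrderCtx G 34560 5 [] 185 1 :=
      { P := P, card_P := hP, D := E, noncomm := hnc, card_eq := by rw [hG, h]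
        sq := by norm_num, bound := by norm_num, primes := by simp
        card_C := by rw [hC, hP] }
    exact BrauerTuan.false_of_twoBad T (c := 3456) (b := 8) (hEn.trans h) hEe rfl le_rfl (by norm_num)
      (by norm_num) twoBad_3456

end Five

/-- The classification. -/
theorem main {α : Type*} [Fintype α] [DecidableEq α] {p : ℕ} [Fact p.Prime] (hp : 3 < p)
    (hα : Fintype.card α = 2 * p) (G : Subgroup (Equiv.Perm α)) (hprim : IsPreprimitive G α)
    (hnot2 : ¬ IsMultiplyPretransitive G α 2) (P : Sylow p G)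
    (hN : Nat.card (Subgroup.normalizer ((P : Subgroup G) : Set G)) = 2 * p) :
    p = 5 ∧ Nonempty (G ≃* alternatingGroup (Fin 5)) := by
  letI : Fintype G := Fintype.ofFinite G
  obtain ⟨D, hs, hcen, hP, hC⟩ := local_facts hp hα hprim P hN
  haveI := hs
  obtain ⟨B, hBd, hBne, hQ⟩ := exists_small_character hp hα hprim hnot2 D hcen
  have hpp := (Fact.out : p.Prime)
  rcases Nat.lt_or_ge p 7 with h | h
  · have h5 : p = 5 := by
      interval_cases p <;> first | rfl | norm_num at hpp
    subst h5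
    exact ⟨rfl, Cfsg.Agent.S0494.result (card_five hα D hcen P hP hC hN hQ)⟩
  · exact (large_false h hα hprim D hBd hBne).elim

end CfsgLib.PMinusTwo.TwoP
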