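import Cfsg.Agent.Lib.Blocks.PrimeDefect.Main
import Cfsg.Agent.Lib.Blocks.PrimeDefect.Full
import Cfsg.Agent.Lib.Char.Counting

/-!
# A faithful character of degree `p - 2`: the local structure at a Sylow subgroup of order `p`
-/

set_option autoImplicit false
set_option linter.unusedSectionVars false
set_option linter.style.haveILetI false

namespace CfsgLib.PMinusTwo

open Cfsg CfsgLib CfsgLib.Blocks
open scoped ComplexConjugate CfsgLib.Char
open scoped _root_.Classical

variable {G : Type*} [Group G] [Fintype G] {p : ℕ} {M : Ideal AlgInt}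
  (S : PrimeDefect.Setup G p M) {χ : IrrCharacter G} {d : ℕ}

/-- The characters of `C` conjugate to members of `b`. -/
noncomputable def conjFam : Finset (IrrCharacter S.C) :=
  Finset.univ.filter fun ξ => ∃ g ∈ S.N, ∃ η ∈ S.b, S.cj g η = ξ

theorem sum_conjFam (f : IrrCharacter S.C → ℂ) :
    ∑ g : G with g ∈ S.N, ∑ η : IrrCharacter S.C with η ∈ S.b, f (S.cj g η) =
      (Nat.card S.T : ℂ) * ∑ ξ ∈ conjFam S, f ξ := by
  rw [← Finset.sum_product', ← Finset.sum_fiberwise_of_maps_to
    (g := fun q : G × IrrCharacter S.C => S.cj q.1 q.2) (t := conjFam S) fun q hq => ?_, Finset.mul_sum]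
  · refine Finset.sum_congr rfl fun ξ hξ => ?_
    obtain ⟨g₀, hg₀, η₀, hη₀, rfl⟩ := (Finset.mem_filter.mp hξ).2
    rw [Finset.sum_congr rfl (g := fun _ => f (S.cj g₀ η₀)) fun q hq => by
      rw [(Finset.mem_filter.mp hq).2], Finset.sum_const, nsmul_eq_mul]
    congr 2
    rw [← Nat.card_eq_finsetCard]
    refine Nat.card_congr
      { toFun := fun q => ⟨g₀⁻¹ * q.1.1, ?_⟩
        invFun := fun t => ⟨(g₀ * (t : G), S.cj (t : G)⁻¹ η₀), by
          simp only [Finset.mem_filter, Finset.mem_product, Finset.mem_univ, true_and]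
          refine ⟨⟨mul_mem hg₀ t.2.1, S.cj_mem (inv_mem t.2) hη₀⟩, ?_⟩
          rw [S.cj_cj (mul_mem hg₀ t.2.1) (inv_mem t.2.1), mul_inv_cancel_right]⟩
        left_inv := fun q => ?_
        right_inv := fun t => by ext; simp }
    · have hq := q.2
      simp only [Finset.mem_filter, Finset.mem_product, Finset.mem_univ, true_and] at hq
      refine S.mem_T_of_meet (mul_mem (inv_mem hg₀) hq.1.1) hq.1.2 ?_
      rw [← S.cj_cj (inv_mem hg₀) hq.1.1, hq.2, S.cj_cj (inv_mem hg₀) hg₀, inv_mul_cancel, S.cj_one]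
      exact hη₀
    · have hq := q.2
      simp only [Finset.mem_filter, Finset.mem_product, Finset.mem_univ, true_and] at hq
      refine Subtype.ext (Prod.ext (mul_inv_cancel_left _ _) ?_)
      show S.cj (g₀⁻¹ * q.1.1)⁻¹ η₀ = q.1.2
      rw [mul_inv_rev, inv_inv, ← S.cj_cj (inv_mem hq.1.1) hg₀]
      refine (congrArg (S.cj q.1.1⁻¹) hq.2.symm).trans ?_
      rw [S.cj_cj (inv_mem hq.1.1) hq.1.1, inv_mul_cancel, S.cj_one]
  · simp only [Finset.mem_product, Finset.mem_filter, Finset.mem_univ, true_and] at hq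
    exact Finset.mem_filter.mpr ⟨Finset.mem_univ _, q.1, hq.1, q.2, hq.2, rfl⟩

theorem sum_conjFam_value (χ : IrrCharacter G) {v : G} (hv : v ∈ S.P) :
    (Nat.card S.T : ℂ) * ∑ ξ ∈ conjFam S,
        (S.mult χ ξ : ℂ) * (ξ : S.C → ℂ) ⟨v, S.P_le_C hv⟩ =
      ∑ g : G with g ∈ S.N, S.a χ (g⁻¹ * v * g) * (S.θ : S.C → ℂ) 1 := by
  rw [← sum_conjFam]
  refine Finset.sum_congr rfl fun g hg => ?_
  have hgN : g ∈ S.N := (Finset.mem_filter.mp hg).2
  have hv' : g⁻¹ * v * g ∈ S.P := (Subgroup.mem_normalizer_iff''.mp hgN v).mp hv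
  rw [PrimeDefect.Setup.a, Finset.sum_mul]
  refine Finset.sum_congr rfl fun η hη => ?_
  rw [S.mult_cj hgN, S.cj_apply hgN η (c := ⟨g⁻¹ * v * g, S.P_le_C hv'⟩) (c' := ⟨v, S.P_le_C hv⟩)
    (by simp [mul_assoc]), mul_assoc (_ : ℂ) (S.scal η _)]
  congr 1
  show _ = S.scal η ((⟨g⁻¹ * v * g, S.P_le_C hv'⟩ : S.C) : G) * _
  rw [S.scal_apply η, ← S.degree_mem_b (Finset.mem_filter.mp hη).2,
    div_mul_cancel₀ _ (Char.irr_degree_ne_zero η.2)]

theorem value_P (hχ : χ ∈ S.B) {v : G} (hv : v ∈ S.P) (hv1 : v ≠ 1) :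
    (Nat.card S.T : ℂ) * (χ : G → ℂ) v =
      ∑ g : G with g ∈ S.N, S.a χ (g⁻¹ * v * g) * (S.θ : S.C → ℂ) 1 := by
  have h := S.value_section hχ hv hv1 (y := 1) (PrimeDefect.Setup.isPRegular_one S.hM.1)
  rw [Subgroup.coe_one, mul_one] at h
  rw [h]
  refine Finset.sum_congr rfl fun g hg => ?_
  have h1 : g⁻¹ * 1 * g = 1 := by group
  rw [dif_pos (by rw [h1]; exact S.C.one_mem)]
  exact congrArg (fun z => S.a χ (g⁻¹ * v * g) * (S.θ : S.C → ℂ) z) (Subtype.ext h1)

/-- For a degree below `p` the restriction to `C` has all its constituents conjugate into `b`. -/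
theorem mult_outside (hχ : χ ∈ S.B) (hd : (χ : G → ℂ) 1 = d) (hdp : d < p) :
    ∀ ξ ∉ conjFam S, S.mult χ ξ = 0 := by
  haveI : Fintype S.P := Fintype.ofFinite _
  haveI : Fintype S.C := Fintype.ofFinite _
  choose k hk0 hk using fun ξ : IrrCharacter S.C => Char.exists_nat_degree_irr ξ.2
  set R : Finset (IrrCharacter S.C) := Finset.univ \ conjFam S
  set ρ : S.P → ℂ := fun v =>
    ∑ ξ ∈ R, (S.mult χ ξ : ℂ) * (ξ : S.C → ℂ) (Subgroup.inclusion S.P_le_C v) with hρ
  have hsplit : ∀ c : S.C, (χ : G → ℂ) c =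
      ∑ ξ ∈ R, (S.mult χ ξ : ℂ) * (ξ : S.C → ℂ) c +
        ∑ ξ ∈ conjFam S, (S.mult χ ξ : ℂ) * (ξ : S.C → ℂ) c := fun c => by
    rw [S.mult_spec, Finset.sum_sdiff (Finset.subset_univ _)]
  have hρc : IsCharacter S.P ρ := by
    have : ρ = ∑ ξ ∈ R, (S.mult χ ξ : ℂ) •
        fun v => (ξ : S.C → ℂ) (Subgroup.inclusion S.P_le_C v) := by
      funext v; simp [hρ, Finset.sum_apply]
    rw [this]
    exact Char.isCharacter_sum _ _ fun ξ _ => Char.isCharacter_natCast_smul
      (Char.isCharacter_comp (Subgroup.inclusion S.P_le_C) (Char.isCharacter_of_isIrr ξ.2)) _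
  have hz : ∀ v : S.P, v ≠ 1 → ρ v = 0 := by
    intro v hv
    have hv1 : (v : G) ≠ 1 := fun e => hv (Subtype.ext e)
    have hT : (Nat.card S.T : ℂ) ≠ 0 := Nat.cast_ne_zero.mpr Nat.card_pos.ne'
    have h1 : (χ : G → ℂ) (v : G) =
        ∑ ξ ∈ conjFam S, (S.mult χ ξ : ℂ) * (ξ : S.C → ℂ) (Subgroup.inclusion S.P_le_C v) :=
      mul_left_cancel₀ hT ((value_P S hχ v.2 hv1).trans (sum_conjFam_value S χ v.2).symm)
    have h2 := hsplit (Subgroup.inclusion S.P_le_C v)
    rw [show ((Subgroup.inclusion S.P_le_C v : S.C) : G) = v from rfl, h1] at h2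
    simpa [hρ] using h2
  obtain ⟨n, hn⟩ := Char.exists_nat_classInner hρc Char.isCharacter_one
  rw [classInner, Finset.sum_eq_single 1 (fun v _ hv => by rw [hz v hv, zero_mul])
    (fun h => absurd (Finset.mem_univ _) h), map_one, mul_one, S.hP,
    inv_mul_eq_iff_eq_mul₀ (Nat.cast_ne_zero.mpr S.hM.1.ne_zero)] at hn
  have hρ1 : ρ 1 = ((∑ ξ ∈ R, S.mult χ ξ * k ξ : ℕ) : ℂ) := by
    simp [hρ, hk]
  rw [hρ1] at hn
  have hn' : ∑ ξ ∈ R, S.mult χ ξ * k ξ = p * n := by exact_mod_cast hn
  have h1 := hsplit 1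
  rw [Subgroup.coe_one, hd] at h1
  simp only [hk] at h1
  have h2 : d = ∑ ξ ∈ R, S.mult χ ξ * k ξ + ∑ ξ ∈ conjFam S, S.mult χ ξ * k ξ := by exact_mod_cast h1
  have hn0 : n = 0 := by
    by_contra h
    have := Nat.le_mul_of_pos_right p (Nat.pos_of_ne_zero h)
    omega
  rw [hn0, mul_zero, Finset.sum_eq_zero_iff] at hn'
  intro ξ hξ
  exact (mul_eq_zero.mp (hn' ξ (Finset.mem_sdiff.mpr ⟨Finset.mem_univ _, hξ⟩))).resolve_right
    (hk0 ξ).ne'

/-- The multiplicity sum over `b`. -/
noncomputable def total (χ : IrrCharacter G) : ℕ :=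
  ∑ ξ : IrrCharacter S.C with ξ ∈ S.b, S.mult χ ξ

theorem degree_eq (hχ : χ ∈ S.B) (hd : (χ : G → ℂ) 1 = d) (hdp : d < p) :
    d = S.C.relIndex S.N / S.e * charDegree (S.θ : S.C → ℂ) * total S χ := by
  haveI : Fintype S.C := Fintype.ofFinite _
  have h0 := mult_outside S hχ hd hdp
  have h1 := sum_conjFam_value S χ S.P.one_mem
  rw [Finset.sum_subset (Finset.subset_univ (conjFam S)) (fun ξ _ hξ => by
    rw [h0 ξ hξ, Nat.cast_zero, zero_mul]), ← S.mult_spec, hd] at h1
  have ha : ∀ g : G, S.a χ (g⁻¹ * 1 * g) = (total S χ : ℂ) := fun g => by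
    rw [show g⁻¹ * 1 * g = 1 by group, PrimeDefect.Setup.a, total]
    push_cast
    exact Finset.sum_congr rfl fun ξ _ => by rw [S.scal_one, mul_one]
  simp only [ha, Finset.sum_const, nsmul_eq_mul, (irr_degree_eq S.θ).1] at h1
  rw [← Fintype.card_subtype, ← Nat.card_eq_fintype_card,
    show Nat.card {g // g ∈ S.N} = S.C.relIndex S.N / S.e * Nat.card S.T from S.card_N_div] at h1
  refine Nat.eq_of_mul_eq_mul_left (Nat.card_pos (α := S.T)) ?_
  have h2 : Nat.card S.T * d =
      S.C.relIndex S.N / S.e * Nat.card S.T * (total S χ * charDegree (S.θ : S.C → ℂ)) := by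
    exact_mod_cast h1
  rw [h2]; ring

theorem card_b_erase :
    ((Finset.univ.filter fun ξ : IrrCharacter S.C => ξ ∈ S.b).erase S.θ).card = p - 1 := by
  rw [Finset.card_erase_of_mem (by simp [S.hθ]), ← Fintype.card_subtype,
    ← Nat.card_eq_fintype_card]
  exact congrArg (· - 1) S.card_b

theorem total_eq (χ : IrrCharacter G) : (total S χ : ℤ) = p * S.mult χ S.θ +
    ∑ ξ ∈ (Finset.univ.filter fun ξ : IrrCharacter S.C => ξ ∈ S.b).erase S.θ, S.c χ ξ := by
  simp only [PrimeDefect.Setup.c, Finset.sum_sub_distrib, Finset.sum_const, card_b_erase S,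
    nsmul_eq_mul]
  rw [total, ← Finset.add_sum_erase _ _ (show S.θ ∈ Finset.univ.filter
    (fun ξ : IrrCharacter S.C => ξ ∈ S.b) by simp [S.hθ])]
  push_cast [Nat.cast_sub S.hM.1.one_le]
  ring

theorem card_orbit_filter {ν : IrrCharacter S.C} (hν : ν ∈ S.b) (hνθ : ν ≠ S.θ) :
    (Finset.univ.filter fun ξ : IrrCharacter S.C => ∃ t ∈ S.T, S.cj t ν = ξ).card = S.e := by
  haveI : Fintype S.T := Fintype.ofFinite _
  refine Nat.eq_of_mul_eq_mul_right (Nat.card_pos (α := S.C)) ?_
  rw [← S.card_T, Nat.card_eq_fintype_card (α := S.T), ← Finset.card_univ (α := S.T),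
    Finset.card_eq_sum_card_fiberwise (f := fun t : S.T => S.cj (t : G) ν)
      (t := Finset.univ.filter fun ξ : IrrCharacter S.C => ∃ t ∈ S.T, S.cj t ν = ξ)
      (fun t _ => by simpa using ⟨(t : G), t.2, rfl⟩),
    Finset.sum_congr rfl (g := fun _ => Nat.card S.C) fun ξ hξ => ?_, Finset.sum_const, smul_eq_mul]
  rw [← S.card_fix hν hνθ (Finset.mem_filter.mp hξ).2, Nat.card_eq_fintype_card,
    Fintype.card_subtype]

theorem value_of_mult_zero (hχ : χ ∈ S.B) (hd : (χ : G → ℂ) 1 = d) (hdp : d < p)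
    (h0 : ∀ ξ ∈ S.b, ξ ≠ S.θ → S.mult χ ξ = 0) {v : G} (hv : v ∈ S.P) :
    (χ : G → ℂ) v = d := by
  rcases eq_or_ne v 1 with rfl | hv1
  · exact hd
  have ha : ∀ w ∈ S.P, S.a χ w = (total S χ : ℂ) := fun w hw => by
    rw [PrimeDefect.Setup.a, total]
    push_cast
    refine Finset.sum_congr rfl fun ξ hξ => ?_
    rcases eq_or_ne ξ S.θ with rfl | hne
    · rw [S.scal_theta hw, mul_one]
    · rw [h0 ξ (Finset.mem_filter.mp hξ).2 hne]; simp
  refine mul_left_cancel₀ (Nat.cast_ne_zero.mpr (Nat.card_pos (α := S.T)).ne')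
    ((value_P S hχ hv hv1).trans ?_)
  rw [Finset.sum_congr rfl (g := fun _ => (total S χ : ℂ) * (S.θ : S.C → ℂ) 1) fun g hg => by
      rw [ha _ ((Subgroup.mem_normalizer_iff''.mp (Finset.mem_filter.mp hg).2 v).mp hv)],
    Finset.sum_const, nsmul_eq_mul, (irr_degree_eq S.θ).1, ← Fintype.card_subtype,
    ← Nat.card_eq_fintype_card,
    show Nat.card {g // g ∈ S.N} = S.C.relIndex S.N / S.e * Nat.card S.T from S.card_N_div]
  conv_rhs => rw [degree_eq S hχ hd hdp]
  push_cast; ring

/-- When `N = T` and `θ` is linear the regular part of `C` acts by scalars. -/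
theorem value_V (hχ : χ ∈ S.B) (hd : (χ : G → ℂ) 1 = d) (hdp : d < p) (hT : ∀ g ∈ S.N, g ∈ S.T)
    (hθ1 : (S.θ : S.C → ℂ) 1 = 1) {y : S.C} (hy : IsPRegular p y) :
    (χ : G → ℂ) y = (d : ℂ) * (S.θ : S.C → ℂ) y := by
  haveI : Fintype S.C := Fintype.ofFinite _
  have h2 := S.mult_spec χ 1
  rw [show ((1 : S.C) : G) = 1 from rfl, hd] at h2
  rw [S.mult_spec, h2, Finset.sum_mul]
  refine Finset.sum_congr rfl fun ξ _ => ?_
  by_cases hξ : ξ ∈ conjFam S
  · have hξ' : ∃ g ∈ S.N, ∃ η ∈ S.b, S.cj g η = ξ := by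
      simpa only [conjFam, Finset.mem_filter, Finset.mem_univ, true_and] using hξ
    obtain ⟨g, hg, η, hη, rfl⟩ := hξ'
    have hb : S.cj g η ∈ S.b := S.cj_mem (hT g hg) hη
    rw [S.value_mem_b hb hy, S.degree_mem_b hb, hθ1, mul_one]
  · rw [mult_outside S hχ hd hdp ξ hξ]; simp

theorem mem_center_of_norm (hfaith : ∀ g : G, (χ : G → ℂ) g = (χ : G → ℂ) 1 → g = 1)
    (hd : (χ : G → ℂ) 1 = d) {g : G} (hg : ‖(χ : G → ℂ) g‖ = d) : g ∈ Subgroup.center G := by
  obtain ⟨n, ρ, hρ, hχ⟩ := χ.2
  have hn : n = d := by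
    have := congrFun hχ 1
    rw [Representation.char_one, Module.finrank_fin_fun, hd] at this
    exact_mod_cast this
  obtain ⟨ω, hω⟩ := (Char.norm_character_eq_iff ρ g).mp (by rw [hχ, hg]; simp [hn])
  refine Subgroup.mem_center_iff.mpr fun h => ?_
  refine inv_mul_eq_one.mp (hfaith ((g * h)⁻¹ * (h * g)) ?_) |>.symm
  have he : ρ ((g * h)⁻¹ * (h * g)) = LinearMap.id := by
    have hc : ρ (h * g) = ρ (g * h) := by
      rw [map_mul, map_mul, hω]
      exact LinearMap.ext fun x => by simp
    rw [map_mul, hc, ← map_mul, inv_mul_cancel, map_one]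
    rfl
  rw [← hχ, (Char.character_eq_finrank_iff ρ _).mpr he, Representation.char_one]

theorem norm_linear {K : Subgroup G} {θ : IrrCharacter K} (h1 : (θ : K → ℂ) 1 = 1) (y : K) :
    ‖(θ : K → ℂ) y‖ = 1 := by
  haveI : Finite K := inferInstance
  have hpow : ∀ i : ℕ, (θ : K → ℂ) (y ^ i) = (θ : K → ℂ) y ^ i := fun i => by
    induction i with
    | zero => rw [pow_zero, h1, pow_zero]
    | succ i ih => rw [pow_succ, Char.linear_mul (Char.isCharacter_of_isIrr θ.2) h1, ih, pow_succ]
  refine Complex.norm_eq_one_of_pow_eq_one (n := orderOf y) ?_ (orderOf_pos y).ne'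
  rw [← hpow, pow_orderOf_eq_one, h1]

set_option maxHeartbeats 1200000 in
/-- The local structure. -/
theorem local_structure (hp : 5 < p) (hnn : ¬ S.P.Normal) (hχ : χ ∈ S.B)
    (hd : (χ : G → ℂ) 1 = ((p - 2 : ℕ) : ℂ))
    (hfaith : ∀ g : G, (χ : G → ℂ) g = (χ : G → ℂ) 1 → g = 1) :
    (∀ c ∈ S.C, ∃ x ∈ S.P, ∃ z ∈ Subgroup.center G, c = x * z) ∧ S.C.relIndex S.N = 2 := by
  classical
  have hdp : p - 2 < p := by omega
  have hdeg := degree_eq S hχ hd hdp
  have htot := total_eq S χ
  obtain ⟨hedvd, X, Y, w, ε, ν, -, hmem, -, -, hε, hw, hX, hY, -, -⟩ := S.structure_rows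
  set K := S.C.relIndex S.N / S.e * charDegree (S.θ : S.C → ℂ) with hK
  set m0 := S.mult χ S.θ with hm0
  have hK0 : 0 < K := Nat.pos_of_ne_zero fun h => by rw [h, zero_mul] at hdeg; omega
  have hle : total S χ ≤ p - 2 := by
    calc total S χ ≤ K * total S χ := Nat.le_mul_of_pos_left _ hK0
      _ = p - 2 := hdeg.symm
  have hkill : (∀ ξ ∈ S.b, ξ ≠ S.θ → S.mult χ ξ = 0) → False := fun h0 => by
    obtain ⟨⟨v, hv⟩, hv1⟩ : ∃ x : S.P, x ≠ 1 := Subgroup.ne_bot_iff_exists_ne_one.mp fun h => by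
      have := S.hP
      rw [h, Subgroup.card_bot] at this
      omega
    replace hv1 : v ≠ 1 := fun e => hv1 (Subtype.ext e)
    exact hv1 (hfaith v ((value_of_mult_zero S hχ hd hdp h0 hv).trans hd.symm))
  rcases Finset.mem_union.mp ((hmem χ).mp hχ) with hm | hm
  · -- a constant row
    exfalso
    rw [Finset.sum_congr rfl (g := fun _ => w χ) fun ξ hξ => hX χ hm ξ
      (Finset.mem_filter.mp (Finset.mem_erase.mp hξ).2).2 (Finset.mem_erase.mp hξ).1,
      Finset.sum_const, card_b_erase S, nsmul_eq_mul] at htot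
    rcases hw χ hm with h | h <;> rw [h] at htot
    · have h0 : (0 : ℤ) ≤ p * m0 := by positivity
      push_cast [Nat.cast_sub S.hM.1.one_le] at htot
      omega
    · have hm1 : m0 = 1 := by
        rcases Nat.lt_trichotomy m0 1 with h0 | h0 | h0
        · have h00 : m0 = 0 := by omega
          rw [h00] at htot
          push_cast [Nat.cast_sub S.hM.1.one_le] at htot
          omega
        · exact h0
        · have h2 : (p : ℤ) * 2 ≤ p * m0 :=
            mul_le_mul_of_nonneg_left (by exact_mod_cast h0) (by positivity)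
          push_cast [Nat.cast_sub S.hM.1.one_le] at htot
          omega
      refine hkill fun ξ hξ hne => ?_
      have := hX χ hm ξ hξ hne
      rw [h, PrimeDefect.Setup.c, ← hm0, hm1] at this
      omega
  · -- one orbit
    obtain ⟨hνb, hνθ, hc⟩ := hY χ hm
    set O := Finset.univ.filter fun ξ : IrrCharacter S.C => ∃ t ∈ S.T, S.cj t (ν χ) = ξ with hO
    have hOsub : O ⊆ (Finset.univ.filter fun ξ : IrrCharacter S.C => ξ ∈ S.b).erase S.θ := by
      intro ξ hξ
      obtain ⟨t, ht, rfl⟩ := (Finset.mem_filter.mp hξ).2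
      exact Finset.mem_erase.mpr ⟨S.cj_ne_theta ht hνθ,
        Finset.mem_filter.mpr ⟨Finset.mem_univ _, S.cj_mem ht hνb⟩⟩
    have hOc : O.card = S.e := card_orbit_filter S hνb hνθ
    rw [Finset.sum_congr rfl (g := fun ξ => if ξ ∈ O then ε else 0) fun ξ hξ => by
      rw [hc ξ (Finset.mem_filter.mp (Finset.mem_erase.mp hξ).2).2 (Finset.mem_erase.mp hξ).1]
      simp [hO], Finset.sum_ite_mem, Finset.inter_eq_right.mpr hOsub, Finset.sum_const, hOc,
      nsmul_eq_mul] at htot
    have hep : S.e ≤ p - 1 := Nat.le_of_dvd (by omega) hedvd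
    have he0 := S.e_pos
    rcases hε with rfl | rfl
    · -- `P` would be central
      exfalso
      have hm00 : m0 = 0 := by
        by_contra h
        have := Nat.le_mul_of_pos_right p (Nat.pos_of_ne_zero h)
        have h' : (total S χ : ℤ) = ((p * m0 + S.e : ℕ) : ℤ) := by push_cast; linear_combination htot
        omega
      rw [hm00] at htot
      have ht : total S χ = S.e := by simpa using htot
      rw [ht] at hdeg
      have he1 : S.e = 1 := by
        have h2 := Nat.dvd_sub hedvd (⟨K, by rw [hdeg]; ring⟩ : S.e ∣ p - 2)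
        rw [show p - 1 - (p - 2) = 1 by omega] at h2
        exact Nat.dvd_one.mp h2
      have hf : S.C.relIndex S.N = 1 := by
        have h1 : S.C.relIndex S.N ∣ p - 2 := by
          rw [hdeg, hK, he1, Nat.div_one, mul_one]
          exact dvd_mul_right _ _
        have h2 : S.C.relIndex S.N ∣ p - 1 := by
          have : Fact p.Prime := S.fact
          haveI : (S.C.subgroupOf S.N).Normal := ⟨fun x hx g =>
            (S.conj_C_iff g.2 x).mpr hx⟩
          let φ : S.N →* MulAut S.P :=
            { toFun := fun g =>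
                { toFun := fun x => ⟨g * x * (g : G)⁻¹, S.conj_P g.2 x.2⟩
                  invFun := fun x => ⟨(g : G)⁻¹ * x * g, by
                    simpa using S.conj_P (inv_mem g.2) x.2⟩
                  left_inv := fun x => by ext; simp [mul_assoc]
                  right_inv := fun x => by ext; simp [mul_assoc]
                  map_mul' := fun x y => by ext; simp [mul_assoc] }
              map_one' := by ext; simp
              map_mul' := fun g h => by ext; simp [mul_assoc] }
          have hker : φ.ker = S.C.subgroupOf S.N := by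
            ext g
            rw [MonoidHom.mem_ker, Subgroup.mem_subgroupOf, Subgroup.mem_centralizer_iff]
            constructor
            · intro h x hx
              have h1 := congrArg (fun f : MulAut S.P => ((f ⟨x, hx⟩ : S.P) : G)) h
              exact (mul_inv_eq_iff_eq_mul.mp h1).symm
            · intro h
              ext x
              exact mul_inv_eq_iff_eq_mul.mpr (h x x.2).symm
          haveI : IsCyclic S.P := isCyclic_of_prime_card S.hP
          rw [Subgroup.relIndex, ← hker, Subgroup.index_ker]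
          refine (Subgroup.card_subgroup_dvd_card _).trans ?_
          rw [IsCyclic.card_mulAut, S.hP, Nat.totient_prime S.hM.1]
        have h3 := Nat.dvd_sub h2 h1
        rw [show p - 1 - (p - 2) = 1 by omega] at h3
        exact Nat.dvd_one.mp h3
      have hNC : ∀ g ∈ S.N, g ∈ S.C := Subgroup.relIndex_eq_one.mp hf
      have hOν : O = {ν χ} := by
        obtain ⟨a, ha⟩ := Finset.card_eq_one.mp (hOc.trans he1)
        have : ν χ ∈ O := Finset.mem_filter.mpr ⟨Finset.mem_univ _, 1, one_mem _, S.cj_one _⟩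
        rw [ha, Finset.mem_singleton] at this
        rw [ha, this]
      refine hnn ⟨fun v hv g => ?_⟩
      rcases eq_or_ne v 1 with rfl | hv1
      · simp
      have hva : (χ : G → ℂ) v = S.scal (ν χ) v * ((p - 2 : ℕ) : ℂ) := by
        refine mul_left_cancel₀ (Nat.cast_ne_zero.mpr (Nat.card_pos (α := S.T)).ne')
          ((value_P S hχ hv hv1).trans ?_)
        rw [Finset.sum_congr rfl (g := fun _ => S.scal (ν χ) v * (S.θ : S.C → ℂ) 1) fun g hg => ?_]
        · rw [Finset.sum_const, nsmul_eq_mul, (irr_degree_eq S.θ).1, ← Fintype.card_subtype,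
            ← Nat.card_eq_fintype_card,
            show Nat.card {g // g ∈ S.N} = S.C.relIndex S.N / S.e * Nat.card S.T from S.card_N_div]
          conv_rhs => rw [hdeg, hK, he1]
          push_cast [he1]; ring
        · have hgC := hNC g (Finset.mem_filter.mp hg).2
          have hgv : g⁻¹ * v * g = v := by
            rw [mul_assoc, Subgroup.mem_centralizer_iff.mp hgC v hv, inv_mul_cancel_left]
          rw [hgv, PrimeDefect.Setup.a]
          congr 1
          rw [Finset.sum_eq_single (ν χ) (fun ξ hξ hne => ?_) (fun h => absurd (by simp [hνb]) h)]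
          · have := hc (ν χ) hνb hνθ
            rw [if_pos ⟨1, one_mem _, S.cj_one _⟩, PrimeDefect.Setup.c, ← hm0, hm00] at this
            rw [show S.mult χ (ν χ) = 1 by omega, Nat.cast_one, one_mul]
          · rcases eq_or_ne ξ S.θ with rfl | hθ
            · simp [← hm0, hm00]
            have := hc ξ (Finset.mem_filter.mp hξ).2 hθ
            rw [if_neg fun h => hne (by
              have : ξ ∈ O := Finset.mem_filter.mpr ⟨Finset.mem_univ _, h⟩
              rwa [hOν, Finset.mem_singleton] at this), PrimeDefect.Setup.c, ← hm0, hm00] at this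
            rw [show S.mult χ ξ = 0 by omega]; simp
      have hn1 : ‖S.scal (ν χ) v‖ = 1 := by
        have h := S.scal_norm (ν χ) hv
        rw [Complex.mul_conj'] at h
        exact (pow_eq_one_iff_of_nonneg (norm_nonneg _) two_ne_zero).mp (by exact_mod_cast h)
      have hcen := mem_center_of_norm hfaith hd (g := v) (by rw [hva, norm_mul, hn1, one_mul, Complex.norm_natCast])
      rw [Subgroup.mem_center_iff.mp hcen g, mul_inv_cancel_right]
      exact hv
    · -- `e = 2`
      have hm01 : m0 = 1 := by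
        rcases Nat.lt_trichotomy m0 1 with h0 | h0 | h0
        · have h00 : m0 = 0 := by omega
          rw [h00] at htot
          omega
        · exact h0
        · have h2 : (p : ℤ) * 2 ≤ p * m0 :=
            mul_le_mul_of_nonneg_left (by exact_mod_cast h0) (by positivity)
          omega
      rw [hm01] at htot
      have ht : total S χ = p - S.e := by omega
      rcases eq_or_ne S.e (p - 1) with he | he
      · exfalso
        refine hkill fun ξ hξ hne => ?_
        have hξO : ξ ∈ O := by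
          rw [Finset.eq_of_subset_of_card_le hOsub (by rw [hOc, card_b_erase S, he])]
          exact Finset.mem_erase.mpr ⟨hne, Finset.mem_filter.mpr ⟨Finset.mem_univ _, hξ⟩⟩
        have := hc ξ hξ hne
        rw [if_pos (Finset.mem_filter.mp hξO).2, PrimeDefect.Setup.c, ← hm0, hm01] at this
        omega
      · have he2 : 2 * S.e ≤ p - 1 := by
          obtain ⟨c, hc'⟩ := hedvd
          rcases c with _ | _ | c
          · omega
          · omega
          · rw [hc', mul_comm 2]; exact Nat.mul_le_mul_left _ (by omega)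
        have hK1 : K = 1 := by
          by_contra h
          have : 2 * (p - S.e) ≤ K * (p - S.e) := Nat.mul_le_mul_right _ (by omega)
          rw [ht] at hdeg
          omega
        rw [hK1, ht, one_mul] at hdeg
        have hes : S.e = 2 := by omega
        have hs : S.C.relIndex S.N / S.e = 1 := (mul_eq_one.mp hK1).1
        have hk : charDegree (S.θ : S.C → ℂ) = 1 := (mul_eq_one.mp hK1).2
        refine ⟨fun c hc' => ?_, by
          have := Nat.div_mul_cancel S.e_dvd_f
          rw [hs, one_mul] at this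
          exact this.symm.trans hes⟩
        obtain ⟨x, hx, y, hy, rfl⟩ := S.exists_decompC hc'
        refine ⟨x, hx, y, ?_, rfl⟩
        have hθ1 : (S.θ : S.C → ℂ) 1 = 1 := by rw [(irr_degree_eq S.θ).1, hk, Nat.cast_one]
        refine mem_center_of_norm hfaith hd ?_
        haveI : Fintype S.C := Fintype.ofFinite _
        have hTN : ∀ g ∈ S.N, g ∈ S.T := by
          intro g hg
          have hTN : S.T = S.N := Subgroup.eq_of_le_of_card_ge S.T_le_N (by
            rw [S.card_N_div, hs, one_mul])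
          rw [hTN]; exact hg
        have hreg : IsPRegular p (⟨y, S.V_le_C hy⟩ : S.C) := by
          have := S.regular_of_mem_V hy
          rw [IsPRegular, ← Subgroup.orderOf_coe]; exact this
        have hval := value_V S hχ hd hdp hTN hθ1 hreg
        rw [show (χ : G → ℂ) y = _ from hval, norm_mul, norm_linear hθ1, mul_one, Complex.norm_natCast]

end CfsgLib.PMinusTwo
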