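import Cfsg.Agent.Lib.PMinusTwo.Center
import Cfsg.Agent.Lib.Char.AltSquare
import Cfsg.Agent.Lib.BrauerReynolds.EvenGeom
import Cfsg.Agent.Lib.SL2.PSL
import Cfsg.Agent.S0996

/-!
# Trivial center: the character of degree `p - 1` and the centralizer of an involution
-/

set_option autoImplicit false
set_option linter.unusedSectionVars false
set_option linter.style.haveILetI false

namespace CfsgLib.PMinusTwo

open Cfsg CfsgLib
open scoped ComplexConjugate CfsgLib.Char
open scoped _root_.Classical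

theorem exists_gauss {μ : ℂ} (h : μ ^ 4 = 1) : ∃ a b : ℤ, μ = a + b * Complex.I := by
  have h2 : (μ ^ 2 - 1) * ((μ / Complex.I) ^ 2 - 1) = 0 := by
    rw [div_pow, Complex.I_sq]
    linear_combination -h
  rcases mul_eq_zero.mp h2 with e | e
  · rcases sq_eq_one_iff.mp (sub_eq_zero.mp e) with rfl | rfl
    · exact ⟨1, 0, by simp⟩
    · exact ⟨-1, 0, by simp⟩
  · rcases sq_eq_one_iff.mp (sub_eq_zero.mp e) with e | e <;>
      rw [div_eq_iff Complex.I_ne_zero] at e <;> subst e
    · exact ⟨0, 1, by simp⟩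
    · exact ⟨0, -1, by simp⟩

/-- No root of `x ^ 2 - q x + q` among the Gaussian integers. -/
theorem no_gauss_root {a b T : ℤ} (hT : 3 ≤ T)
    (h : ((a : ℂ) + b * Complex.I) ^ 2 = ((2 * T : ℤ) : ℂ) * ((a : ℂ) + b * Complex.I - 1)) :
    False := by
  have hre := congrArg Complex.re h
  have him := congrArg Complex.im h
  simp [pow_two] at hre him
  have hre' : a * a - b * b = 2 * T * (a - 1) := by
    apply Int.cast_injective (α := ℝ); push_cast; exact hre
  have him' : a * b + b * a = 2 * T * b := by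
    apply Int.cast_injective (α := ℝ); push_cast; exact him
  rcases eq_or_ne b 0 with rfl | hb
  · have : (a - 1) * (a + 1 - 2 * T) = -1 := by linear_combination hre'
    rcases Int.mul_eq_neg_one_iff_eq_one_or_neg_one.mp this with ⟨h1, h2⟩ | ⟨h1, h2⟩ <;> omega
  · have ha : a = T := by
      have : b * (a - T) = 0 := by linarith
      have := (mul_eq_zero.mp this).resolve_left hb
      omega
    subst ha
    nlinarith [mul_self_pos.mpr hb]

/-- A sum of `m` numbers of norm one equal to `m`. -/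
theorem eq_one_of_sum_eq_card {ι : Type*} {s : Finset ι} {μ : ι → ℂ} (hμ : ∀ i ∈ s, ‖μ i‖ = 1)
    (h : ∑ i ∈ s, μ i = (s.card : ℂ)) : ∀ i ∈ s, μ i = 1 := by
  have hre : ∑ i ∈ s, (1 - (μ i).re) = 0 := by
    rw [Finset.sum_sub_distrib, ← Complex.re_sum, h]
    simp
  have h0 : ∀ i ∈ s, 0 ≤ 1 - (μ i).re := fun i hi => by
    have := Complex.re_le_norm (μ i)
    rw [hμ i hi] at this
    linarith
  intro i hi
  have h1 := (Finset.sum_eq_zero_iff_of_nonneg h0).mp hre i hi
  have h2 := hμ i hi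
  rw [Complex.norm_def, Real.sqrt_eq_one, Complex.normSq_apply] at h2
  refine Complex.ext (by simp; linarith) ?_
  have : (μ i).im * (μ i).im = 0 := by
    have h3 : (μ i).re = 1 := by linarith
    rw [h3] at h2; linarith
  simpa using mul_self_eq_zero.mp this

/-- The alternating-square identity forces all roots to be `1`. -/
theorem eq_of_pairs {ι : Type*} {s : Finset ι} {μ : ι → ℂ} {r : ℕ} (hr : ¬ 2 ∣ r)
    (hμ : ∀ i ∈ s, μ i ^ r = 1) (hs : 3 ≤ s.card)
    (h : (∑ i ∈ s, μ i) ^ 2 - ∑ i ∈ s, μ i ^ 2 = (s.card : ℂ) * ((s.card : ℂ) - 1)) :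
    ∀ i ∈ s, μ i = 1 := by
  have hr0 : r ≠ 0 := fun e => hr (e ▸ dvd_zero 2)
  have hn : ∀ i ∈ s, ‖μ i‖ = 1 := fun i hi => Complex.norm_eq_one_of_pow_eq_one (hμ i hi) hr0
  have hoff : ∑ q ∈ s.offDiag, μ q.1 * μ q.2 = (s.offDiag.card : ℂ) := by
    rw [Finset.offDiag_card, Nat.cast_sub (Nat.le_mul_self _)]
    push_cast
    rw [pow_two, Finset.sum_mul_sum, ← Finset.sum_product', ← Finset.diag_union_offDiag,
      Finset.sum_union (Finset.disjoint_diag_offDiag _), Finset.sum_diag] at h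
    simp only [← pow_two] at h
    linear_combination h
  have h1 := eq_one_of_sum_eq_card (fun q hq => by
    obtain ⟨a, b, -⟩ := Finset.mem_offDiag.mp hq
    rw [norm_mul, hn _ a, hn _ b, one_mul]) hoff
  intro i hi
  obtain ⟨j, hj, hji⟩ := Finset.exists_mem_ne (show 1 < s.card by omega) i
  obtain ⟨k, hk, hki, hkj⟩ : ∃ k ∈ s, k ≠ i ∧ k ≠ j := by
    obtain ⟨k, hk⟩ := Finset.card_pos.mp (show 0 < ((s.erase i).erase j).card by
      rw [Finset.card_erase_of_mem (Finset.mem_erase.mpr ⟨hji, hj⟩), Finset.card_erase_of_mem hi]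
      omega)
    simp only [Finset.mem_erase] at hk
    exact ⟨k, hk.2.2, hk.2.1, hk.1⟩
  have e1 := h1 (i, j) (Finset.mem_offDiag.mpr ⟨hi, hj, hji.symm⟩)
  have e2 := h1 (i, k) (Finset.mem_offDiag.mpr ⟨hi, hk, hki.symm⟩)
  have e3 := h1 (j, k) (Finset.mem_offDiag.mpr ⟨hj, hk, hkj.symm⟩)
  simp only at e1 e2 e3
  have hjk : μ j = μ k := by
    have h0 : μ i ≠ 0 := left_ne_zero_of_mul_eq_one e1
    exact mul_left_cancel₀ h0 (e1.trans e2.symm)
  have hsq : μ j ^ 2 = 1 := by rw [pow_two]; conv_lhs => arg 2; rw [hjk]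
                               exact e3
  have hj1 : μ j = 1 := by
    have hh := hμ j hj
    rcases sq_eq_one_iff.mp hsq with e | e
    · exact e
    · rw [e, (Nat.odd_iff.mpr (by omega) : Odd r).neg_one_pow] at hh
      norm_num at hh
  rwa [hj1, mul_one] at e1

namespace Data

variable {H : Type*} [Group H] [Fintype H] {p : ℕ} [Fact p.Prime] (D : Data H p)

/-- The consequences of a trivial center. -/
structure Shape (D : Data H p) (ψ : IrrCharacter H) : Prop where
  cen : Subgroup.center H = ⊥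
  deg : charDegree (ψ : H → ℂ) = p - 1
  val : ∀ i, 0 < i → i < p → (ψ : H → ℂ) (D.v ^ i) = -1
  at_t : (ψ : H → ℂ) D.t = 0
  alt : ∀ g : H, ¬ p ∣ orderOf g →
    (ψ : H → ℂ) g ^ 2 - (ψ : H → ℂ) (g * g) = ((p : ℂ) - 1) * ((ψ : H → ℂ) g - 1)
  ker : ∀ g : H, ¬ p ∣ orderOf g → (ψ : H → ℂ) g = (p : ℂ) - 1 → g = 1
  quot : D.Q * ((p : ℂ) - 2) = (p : ℂ) - 1

theorem fam_eq (hcen : Subgroup.center H = ⊥) (θ : Subgroup.center H →* ℂ) :
    D.fam θ = Finset.univ := by
  refine Finset.eq_univ_of_forall fun χ => Finset.mem_filter.mpr ⟨Finset.mem_univ _, fun z => ?_⟩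
  have : z = 1 := Subtype.ext (Subgroup.mem_bot.mp (hcen.le z.2))
  rw [this, map_one, one_mul, Subgroup.coe_one]

theorem exists_shape (h7 : 7 ≤ p) {ζ : IrrCharacter H} (hdeg : charDegree (ζ : H → ℂ) = p - 2)
    (hfaith : ∀ g : H, (ζ : H → ℂ) g = (ζ : H → ℂ) 1 → g = 1) : ∃ ψ, Shape D ψ := by
  have hcen := D.center_trivial hdeg h7 hfaith
  have hfam := D.fam_eq hcen
  obtain ⟨T, hT⟩ := D.odd_p
  obtain ⟨j₀, hj₀, x, ψ, hζ, -, hzx, hzψ, hxψ, hsupp, hxu, hψu, -, -, hn1, hd1, hd2⟩ :=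
    D.zeta_family hdeg
  set θ := D.central ζ
  set e := Blocks.trivIrr H with he
  have hval1 : ∀ g : H, ((e : IrrCharacter H) : H → ℂ) g = 1 := fun g => rfl
  have hes : e ∈ D.supp θ j₀ :=
    D.mem_supp.mpr ⟨by rw [hfam]; simp, by rw [D.u_triv j₀ hj₀]; norm_num⟩
  have hxe : x = e := by
    rw [hsupp] at hes
    simp only [Finset.mem_insert, Finset.mem_singleton] at hes
    rcases hes with h | h | h
    · exfalso
      rw [← h, he] at hdeg
      have h1 : charDegree ((Blocks.trivIrr H : IrrCharacter H) : H → ℂ) = 1 := by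
        have h2 := (Blocks.irr_degree_eq (Blocks.trivIrr H)).1
        rw [← he, hval1] at h2
        exact_mod_cast h2.symm
      omega
    · exact h.symm
    · exfalso
      have := hψu j₀ hj₀
      rw [← h, D.u_triv j₀ hj₀] at this
      norm_num at this
  have hx1 : charDegree (x : H → ℂ) = 1 := by
    rw [hxe]
    have h2 := (Blocks.irr_degree_eq e).1
    rw [hval1] at h2
    exact_mod_cast h2.symm
  have hk0 : D.n ψ 0 = 0 := by
    rw [hx1] at hd1
    have : (p : ℤ) * D.n ψ 0 = 0 := by push_cast at hd1; linarith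
    have := (mul_eq_zero.mp this).resolve_left (by omega)
    exact_mod_cast this
  have hψd : charDegree (ψ : H → ℂ) = p - 1 := by
    rw [hk0] at hd2; push_cast at hd2; omega
  have hψt : (ψ : H → ℂ) D.t = 0 := by
    obtain ⟨a, ha, hb, -⟩ := D.value_t ψ
    rw [hk0] at hb
    push_cast at hb
    rw [ha, abs_nonpos_iff.mp hb, Int.cast_zero]
  have hψ1 : (ψ : H → ℂ) 1 = (p : ℂ) - 1 := by
    rw [(Blocks.irr_degree_eq ψ).1, hψd, Nat.cast_sub (by omega), Nat.cast_one]
  -- the third row at each index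
  have hrow : ∀ j ∈ D.J, ∃ C : IrrCharacter H, D.supp θ j = {e, ψ, C} ∧ e ≠ C ∧ ψ ≠ C ∧
      charDegree (C : H → ℂ) = p - 2 ∧ D.u C j = -1 ∧
      ∀ g : H, ¬ p ∣ orderOf g → (C : H → ℂ) g = (ψ : H → ℂ) g - 1 := by
    intro j hj
    have he' : e ∈ D.supp θ j := D.mem_supp.mpr ⟨by rw [hfam]; simp, by rw [D.u_triv j hj]; norm_num⟩
    have hψ' : ψ ∈ (D.supp θ j).erase e := Finset.mem_erase.mpr
      ⟨fun h => hxψ (hxe.trans h.symm), D.mem_supp.mpr ⟨by rw [hfam]; simp, by rw [hψu j hj]; norm_num⟩⟩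
    obtain ⟨C, hC⟩ := Finset.card_eq_one.mp (show (((D.supp θ j).erase e).erase ψ).card = 1 by
      rw [Finset.card_erase_of_mem hψ', Finset.card_erase_of_mem he', D.card_supp θ hj])
    have hCm : C ∈ ((D.supp θ j).erase e).erase ψ := by rw [hC]; simp
    simp only [Finset.mem_erase] at hCm
    obtain ⟨hCψ, hCe, hCs⟩ := hCm
    have hs : D.supp θ j = {e, ψ, C} := by
      rw [← Finset.insert_erase he', ← Finset.insert_erase hψ', hC]
    have hsum : ∀ g : H, ¬ p ∣ orderOf g →
        -1 + (ψ : H → ℂ) g + (D.u C j : ℂ) * (C : H → ℂ) g = 0 := fun g hg => by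
      have h := D.orth θ j hg
      rw [D.sum_supp θ hs, Finset.sum_insert (by simp [(Finset.mem_erase.mp hψ').1.symm, hCe.symm]),
        Finset.sum_insert (by simp [hCψ.symm]), Finset.sum_singleton, he, D.u_triv j hj, hψu j hj,
        ← he, hval1] at h
      push_cast at h
      linear_combination h
    have h1 := hsum 1 one_regular
    rw [hψ1, (Blocks.irr_degree_eq C).1] at h1
    have h1' : -1 + ((p : ℤ) - 1) + D.u C j * (charDegree (C : H → ℂ) : ℤ) = 0 := by exact_mod_cast h1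
    have hCp := (Blocks.irr_degree_eq C).2
    have hu : D.u C j = -1 := by
      have := (D.mem_supp.mp hCs).2
      rcases D.u_sq_le (D.mem_supp.mp hCs).1 hj with a | a | a
      · exact a
      · exact absurd a this
      · rw [a] at h1'; omega
    rw [hu] at h1'
    refine ⟨C, hs, hCe.symm, hCψ.symm, by omega, hu, fun g hg => ?_⟩
    have := hsum g hg
    rw [hu] at this
    push_cast at this
    linear_combination -this
  haveI : Nonempty (IrrCharacter H) := ⟨e⟩
  choose! C hCs hCe hCψ hCd hCu hCv using hrow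
  have hC0 : C j₀ = ζ := by
    have h : ζ ∈ D.supp θ j₀ := by rw [hsupp]; simp
    rw [hCs j₀ hj₀] at h
    simp only [Finset.mem_insert, Finset.mem_singleton] at h
    rcases h with h | h | h
    · exact absurd (h.trans hxe.symm) hzx
    · exact absurd h hzψ
    · exact h.symm
  have hζv : ∀ g : H, ¬ p ∣ orderOf g → (ζ : H → ℂ) g = (ψ : H → ℂ) g - 1 := fun g hg => by
    rw [← hC0]; exact hCv j₀ hj₀ g hg
  have hCinj : Set.InjOn C D.J := fun i hi j hj hij => by
    obtain ⟨-, k, -, -, hz⟩ := D.zeta_row (hCd i hi)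
    have a : i = k := by
      by_contra h
      have := hCu i hi
      rw [hz i hi h] at this; norm_num at this
    have b : j = k := by
      by_contra h
      have := hCu j hj
      rw [← hij, hz j hj h] at this; norm_num at this
    rw [a, b]
  have hψv : ∀ i, 0 < i → i < p → (ψ : H → ℂ) (D.v ^ i) = -1 := fun i h0 hi => by
    rw [D.value_of_u hψu h0 hi]; simp
  -- the alternating square
  obtain ⟨m, hm⟩ := Char.exists_multiplicities
    (Char.isCharacter_altSquare (Char.isCharacter_of_isIrr ψ.2))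
  have hW : ∀ g, ∑ χ : IrrCharacter H, (m χ : ℂ) * (χ : H → ℂ) g =
      ((ψ : H → ℂ) g * (ψ : H → ℂ) g - (ψ : H → ℂ) (g * g)) / 2 := fun g => by
    have := congrFun hm g
    simp only [Finset.sum_apply, Pi.smul_apply, smul_eq_mul] at this
    exact this.symm
  have hWu : ∀ j ∈ D.J, ∑ χ : IrrCharacter H, (m χ : ℤ) * D.u χ j = -1 := by
    intro j hj
    obtain ⟨hj0, hjp⟩ := D.mem_J.mp hj
    apply Int.cast_injective (α := ℂ)
    refine mul_left_cancel₀ (Nat.cast_ne_zero.mpr (Fact.out : p.Prime).ne_zero) ?_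
    push_cast
    rw [Finset.mul_sum, Finset.sum_congr rfl (g := fun χ : IrrCharacter H => ∑ i ∈ Finset.range p,
      ((D.root ^ j) ^ i - 1) * ((m χ : ℂ) * (χ : H → ℂ) (D.v ^ i))) fun χ _ => by
        rw [mul_left_comm, D.u_spec, Finset.mul_sum]
        exact Finset.sum_congr rfl fun i _ => by ring, Finset.sum_comm]
    simp only [← Finset.mul_sum, hW]
    rw [Finset.sum_congr rfl (g := fun i => (D.root ^ j) ^ i - 1) fun i hi => ?_,
      Finset.sum_sub_distrib, DihBlock.geom_sum_root (D.root_pow j),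
      if_neg (D.pow_root_ne_one (by omega) (by omega))]
    · simp
    · rcases Nat.eq_zero_or_pos i with rfl | hi0
      · simp
      have hip := Finset.mem_range.mp hi
      have h2 : (2 * i) % p ≠ 0 := fun h => by
        obtain ⟨c, hc⟩ := Nat.dvd_of_mod_eq_zero h
        rcases c with _ | _ | c
        · omega
        · omega
        · have : p * (c + 1 + 1) = p * c + 2 * p := by ring
          omega
      rw [← pow_add, ← two_mul, hψv i hi0 hip, ← D.v_pow_mod (2 * i),
        hψv _ (Nat.pos_of_ne_zero h2) (Nat.mod_lt _ (Fact.out : p.Prime).pos)]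
      ring
  have hb : ∀ j ∈ D.J, (m (C j) : ℤ) = 1 + m ψ - m e := by
    intro j hj
    have h := hWu j hj
    rw [← Finset.sum_subset (Finset.subset_univ (D.supp θ j)) fun χ _ hχ => by
      rw [show D.u χ j = 0 from not_not.mp fun h => hχ (D.mem_supp.mpr ⟨by rw [hfam]; simp, h⟩),
        mul_zero],
      hCs j hj, Finset.sum_insert (by simp only [Finset.mem_insert, Finset.mem_singleton, not_or]; exact ⟨fun h => hxψ (hxe.trans h), hCe j hj⟩),
      Finset.sum_insert (by simp [hCψ j hj]), Finset.sum_singleton, he, D.u_triv j hj, hψu j hj,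
      hCu j hj, ← he] at h
    omega
  set S : Finset (IrrCharacter H) := D.J.image C with hS
  have hScard : S.card = T := by
    rw [hS, Finset.card_image_of_injOn hCinj, J, Nat.card_Icc]; omega
  have hdegW : ∑ χ : IrrCharacter H, (m χ : ℤ) * charDegree (χ : H → ℂ) = T * (p - 2) := by
    have h := hW 1
    rw [one_mul, hψ1] at h
    simp only [fun χ => (Blocks.irr_degree_eq (G := H) χ).1] at h
    have h' : ((∑ χ : IrrCharacter H, (m χ : ℤ) * charDegree (χ : H → ℂ) : ℤ) : ℂ) =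
        (((T : ℤ) * (p - 2) : ℤ) : ℂ) := by
      push_cast
      rw [h, show (p : ℂ) = 2 * T + 1 by exact_mod_cast hT]
      ring
    exact_mod_cast h'
  have hWval : ∀ g : H, ¬ p ∣ orderOf g →
      ((ψ : H → ℂ) g * (ψ : H → ℂ) g - (ψ : H → ℂ) (g * g)) / 2 = (T : ℂ) * ((ψ : H → ℂ) g - 1) := by
    set b : ℕ := m (C j₀) with hbdef
    have hball : ∀ χ ∈ S, m χ = b := fun χ hχ => by
      obtain ⟨j, hj, rfl⟩ := Finset.mem_image.mp hχ
      have := hb j hj
      have := hb j₀ hj₀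
      omega
    have hSd : ∑ χ ∈ S, (m χ : ℤ) * charDegree (χ : H → ℂ) = T * b * ((p : ℤ) - 2) := by
      rw [Finset.sum_congr rfl (g := fun _ => (b : ℤ) * ((p : ℤ) - 2)) fun χ hχ => ?_,
        Finset.sum_const, hScard, nsmul_eq_mul, mul_assoc]
      rw [hball χ hχ]
      obtain ⟨j, hj, rfl⟩ := Finset.mem_image.mp hχ
      rw [hCd j hj, Nat.cast_sub (by omega)]
      rfl
    rcases Nat.eq_zero_or_pos b with hb0 | hb0
    · exfalso
      have h := hW D.t
      rw [hψt, D.tt, hψ1] at h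
      choose a ha hba _ using fun χ => D.value_t χ
      simp only [ha] at h
      have h' : ∑ χ : IrrCharacter H, (m χ : ℤ) * a χ = -(T : ℤ) := by
        have : ((∑ χ : IrrCharacter H, (m χ : ℤ) * a χ : ℤ) : ℂ) = ((-(T : ℤ) : ℤ) : ℂ) := by
          push_cast
          rw [h, show (p : ℂ) = 2 * T + 1 by exact_mod_cast hT]
          ring
        exact_mod_cast this
      have hpt : ∀ χ : IrrCharacter H, χ ≠ e →
          -((m χ : ℤ) * charDegree (χ : H → ℂ)) ≤ (p : ℤ) * ((m χ : ℤ) * a χ) := by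
        intro χ hχe
        rcases eq_or_ne χ ψ with rfl | hχψ
        · have : (a χ : ℂ) = ((0 : ℤ) : ℂ) := by rw [← ha, hψt, Int.cast_zero]
          rw [show a χ = 0 by exact_mod_cast this]
          simp only [mul_zero]
          exact neg_nonpos.mpr (by positivity)
        by_cases hall : ∀ j ∈ D.J, D.u χ j = 0
        · have hd := D.degree_eq χ
          rw [Finset.sum_eq_zero hall, mul_zero, add_zero] at hd
          rw [hd, show (p : ℤ) * ((m χ : ℤ) * a χ) = (m χ : ℤ) * ((p : ℤ) * a χ) by ring, ← mul_neg]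
          refine mul_le_mul_of_nonneg_left ?_ (by positivity)
          rw [← mul_neg]
          exact mul_le_mul_of_nonneg_left (abs_le.mp (hba χ)).1 (by positivity)
        · push Not at hall
          obtain ⟨j, hj, hne⟩ := hall
          have hmem : χ ∈ D.supp θ j := D.mem_supp.mpr ⟨by rw [hfam]; simp, hne⟩
          rw [hCs j hj] at hmem
          simp only [Finset.mem_insert, Finset.mem_singleton] at hmem
          rcases hmem with h | h | h
          · exact absurd h hχe
          · exact absurd h hχψ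
          · rw [h, hball _ (Finset.mem_image.mpr ⟨j, hj, rfl⟩), hb0]; simp
      have hae : a e = 1 := by
        have : (a e : ℂ) = ((1 : ℤ) : ℂ) := by rw [← ha, hval1, Int.cast_one]
        exact_mod_cast this
      have hde : (charDegree (e : H → ℂ) : ℤ) = 1 := by rw [← hxe, hx1]; rfl
      have hsum := Finset.sum_le_sum (s := Finset.univ.erase e) fun χ hχ =>
        hpt χ (Finset.mem_erase.mp hχ).1
      rw [Finset.sum_neg_distrib, ← Finset.mul_sum, Finset.sum_erase_eq_sub (Finset.mem_univ e),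
        Finset.sum_erase_eq_sub (Finset.mem_univ e), hdegW, h', hae, hde, mul_one] at hsum
      have hte := hb j₀ hj₀
      rw [← hbdef, hb0] at hte
      have h3 : (p : ℤ) * 1 ≤ p * m e := mul_le_mul_of_nonneg_left (by omega) (by positivity)
      have h4 : (T : ℤ) * (p - 2) = T * p - 2 * T := by ring
      have h5 : (p : ℤ) * (-(T : ℤ) - m e) = -(T * p) - p * m e := by ring
      omega
    · have hle : ∑ χ ∈ S, (m χ : ℤ) * charDegree (χ : H → ℂ) ≤
          ∑ χ : IrrCharacter H, (m χ : ℤ) * charDegree (χ : H → ℂ) :=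
        Finset.sum_le_sum_of_subset_of_nonneg (Finset.subset_univ _) fun χ _ _ => by positivity
      rw [hdegW, hSd] at hle
      have hb1 : b = 1 := by
        have : (T : ℤ) * (p - 2) * b ≤ T * (p - 2) * 1 := by rw [mul_one]; linarith
        have := le_of_mul_le_mul_left this (mul_pos (by omega) (by omega))
        omega
      have hrest : ∀ χ ∉ S, m χ = 0 := by
        intro χ hχ
        have hsd := Finset.sum_sdiff (f := fun χ : IrrCharacter H => (m χ : ℤ) * charDegree (χ : H → ℂ))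
          (Finset.subset_univ S)
        rw [hSd, hdegW, hb1, Nat.cast_one, mul_one] at hsd
        have h0 := (Finset.sum_eq_zero_iff_of_nonneg fun χ _ => by positivity).mp
          (add_right_cancel (hsd.trans (zero_add _).symm)) χ
          (Finset.mem_sdiff.mpr ⟨Finset.mem_univ _, hχ⟩)
        have := (Blocks.irr_degree_eq χ).2
        rcases mul_eq_zero.mp h0 with h | h
        · exact_mod_cast h
        · omega
      intro g hg
      rw [← hW, ← Finset.sum_subset (Finset.subset_univ S) fun χ _ hχ => by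
        rw [hrest χ hχ, Nat.cast_zero, zero_mul],
        Finset.sum_congr rfl (g := fun _ => (ψ : H → ℂ) g - 1) fun χ hχ => ?_, Finset.sum_const,
        hScard, nsmul_eq_mul]
      rw [hball χ hχ, hb1, Nat.cast_one, one_mul]
      obtain ⟨j, hj, rfl⟩ := Finset.mem_image.mp hχ
      exact hCv j hj g hg
  refine ⟨ψ, hcen, hψd, hψv, hψt, fun g hg => ?_, fun g hg h => hfaith g ?_, ?_⟩
  · have h := hWval g hg
    rw [show (p : ℂ) = 2 * T + 1 by exact_mod_cast hT, pow_two]
    linear_combination (2 : ℂ) * h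
  · rw [hζv g hg, h, hζv 1 one_regular, hψ1]
  · have hw := D.weighted θ hj₀
    simp only [mul_div_assoc] at hw
    rw [D.sum_supp θ (hCs j₀ hj₀),
      Finset.sum_insert (by simp only [Finset.mem_insert, Finset.mem_singleton, not_or]; exact ⟨fun h => hxψ (hxe.trans h), hCe j₀ hj₀⟩),
      Finset.sum_insert (by simp [hCψ j₀ hj₀]), Finset.sum_singleton, he, D.u_triv j₀ hj₀,
      hψu j₀ hj₀, hCu j₀ hj₀, ← he, hval1, hval1, hψt, hC0, hζv _ D.t_regular, hψt,
      (Blocks.irr_degree_eq ζ).1, hdeg, Nat.cast_sub (by omega)] at hw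
    have hp2 : (p : ℂ) - 2 ≠ 0 := by
      rw [show (p : ℂ) - 2 = ((p - 2 : ℕ) : ℂ) by rw [Nat.cast_sub (by omega)]; norm_num]
      exact Nat.cast_ne_zero.mpr (by omega)
    push_cast at hw
    rw [show D.Q = -(-D.Q) by ring, ← hw]
    field_simp
    ring

variable {D} {ψ : IrrCharacter H}

theorem regular_of_commute_t (hcen : Subgroup.center H = ⊥) (D : Data H p) {g : H}
    (h : Commute g D.t) : ¬ p ∣ orderOf g := by
  intro hg
  obtain ⟨c, i, z, hz, hi, hcg⟩ := D.exists_singular hg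
  rw [hcen, Subgroup.mem_bot] at hz
  subst hz
  rw [mul_one] at hcg
  have h1 : Commute (c * D.t * c⁻¹) (D.v ^ i) := by
    rw [← hcg]
    exact (Commute.conj_iff c).mpr h.symm
  obtain ⟨k, w, hw, hk⟩ := D.cent _
    (D.commute_of_commute_pow (Subgroup.npow_mem_zpowers _ _) hi h1)
  rw [hcen, Subgroup.mem_bot] at hw
  subst hw
  rw [mul_one] at hk
  have h2 : (c * D.t * c⁻¹) ^ p = 1 := by
    rw [hk, ← pow_mul, mul_comm, pow_mul, D.v_pow_p, one_pow]
  rw [conj_pow, conj_eq_one_iff] at h2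
  have h3 := orderOf_dvd_of_pow_eq_one h2
  rw [D.orderOf_t] at h3
  have := (Nat.prime_dvd_prime_iff_eq Nat.prime_two (Fact.out : p.Prime)).mp h3
  have := D.five_le
  omega

theorem Shape.involution (S : Shape D ψ) {u : H} (hu : u * u = 1) (hu1 : u ≠ 1) :
    (ψ : H → ℂ) u = 0 := by
  have hord : orderOf u = 2 := orderOf_eq_prime (by rw [pow_two, hu]) hu1
  have hreg : ¬ p ∣ orderOf u := by
    rw [hord]; intro h
    have := Nat.le_of_dvd two_pos h
    have := D.five_le
    omega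
  have h := S.alt u hreg
  have h1 : (ψ : H → ℂ) 1 = (p : ℂ) - 1 := by
    rw [(Blocks.irr_degree_eq ψ).1, S.deg, Nat.cast_sub (by have := D.five_le; omega), Nat.cast_one]
  rw [hu, h1] at h
  have h2 : (ψ : H → ℂ) u * ((ψ : H → ℂ) u - ((p : ℂ) - 1)) = 0 := by linear_combination h
  rcases mul_eq_zero.mp h2 with e | e
  · exact e
  · exact absurd (S.ker u hreg (sub_eq_zero.mp e)) hu1

theorem Shape.no_order_four (S : Shape D ψ) (h7 : 7 ≤ p) (g : H) : orderOf g ≠ 4 := by
  intro hord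
  obtain ⟨T, hT⟩ := D.odd_p
  have hreg : ¬ p ∣ orderOf g := by
    rw [hord]; intro h
    have := Nat.le_of_dvd (by norm_num) h
    omega
  have hg4 : g ^ 4 = 1 := hord ▸ pow_orderOf_eq_one g
  have hu : g * g * (g * g) = 1 := by rw [← hg4]; simp [pow_succ, mul_assoc]
  have hu1 : g * g ≠ 1 := fun e => by
    have := orderOf_dvd_of_pow_eq_one (show g ^ 2 = 1 by rw [pow_two, e])
    rw [hord] at this; norm_num at this
  have h := S.alt g hreg
  rw [S.involution hu hu1, sub_zero] at h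
  obtain ⟨n, ρ, hρ, hχ⟩ := ψ.2
  obtain ⟨b, μ, hμ, hbb⟩ := Char.exists_eigenBasis_of_pow_eq_one (ρ g) (by norm_num : 4 ≠ 0)
    (by rw [← map_pow, hg4, map_one])
  choose x y hxy using fun i => exists_gauss (hμ i)
  have hval : (ψ : H → ℂ) g = ((∑ i, x i : ℤ) : ℂ) + ((∑ i, y i : ℤ) : ℂ) * Complex.I := by
    rw [← hχ]
    show LinearMap.trace ℂ _ (ρ g) = _
    rw [Char.trace_eq_sum_of_diag b _ _ hbb]
    push_cast
    rw [Finset.sum_mul, ← Finset.sum_add_distrib]
    exact Finset.sum_congr rfl fun i _ => hxy i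
  refine no_gauss_root (a := ∑ i, x i) (b := ∑ i, y i) (T := T) (by omega) ?_
  rw [hval, show (p : ℂ) = 2 * T + 1 by exact_mod_cast hT] at h
  push_cast at h ⊢
  linear_combination h

theorem Shape.not_odd (S : Shape D ψ) (h7 : 7 ≤ p) {y : H} {r : ℕ} (hr : r.Prime) (hr2 : r ≠ 2)
    (hy : orderOf y = r) (hyt : Commute y D.t) : False := by
  obtain ⟨T, hT⟩ := D.odd_p
  have hpT : (p : ℂ) = 2 * T + 1 := by exact_mod_cast hT
  obtain ⟨s, hs⟩ := hr.odd_of_ne_two hr2
  set x := y * D.t with hx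
  have hyr : y ^ r = 1 := hy ▸ pow_orderOf_eq_one y
  have htodd : D.t ^ r = D.t := by rw [hs, pow_succ, pow_mul, pow_two, D.tt, one_pow, one_mul]
  have hxr : x ^ r = D.t := by rw [hx, hyt.mul_pow, hyr, htodd, one_mul]
  have hxy : x ^ (r + 1) = y := by
    rw [pow_succ, hxr, hx, ← mul_assoc, ← hyt.eq, mul_assoc, D.tt, mul_one]
  obtain ⟨n, ρ, hρ, hχ⟩ := ψ.2
  obtain ⟨b, μ, hμ, hbb⟩ := Char.exists_eigenBasis_of_pow_eq_one (ρ x) (m := 2 * r)
    (by have := hr.pos; omega)
    (by rw [← map_pow, mul_comm, pow_mul, hxr, pow_two, D.tt, map_one])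
  have hval : ∀ i : ℕ, (ψ : H → ℂ) (x ^ i) = ∑ l, μ l ^ i := by
    intro i
    rw [← hχ]
    show LinearMap.trace ℂ _ (ρ (x ^ i)) = _
    refine Char.trace_eq_sum_of_diag b _ _ fun l => ?_
    induction i with
    | zero => simp
    | succ i ih => rw [pow_succ', map_mul, Module.End.mul_apply, ih, map_smul, hbb, smul_smul, pow_succ]
  have hpm : ∀ l, μ l ^ r = 1 ∨ μ l ^ r = -1 := fun l =>
    sq_eq_one_iff.mp (by rw [← pow_mul, mul_comm]; exact hμ l)
  set P := Finset.univ.filter fun l => μ l ^ r = 1 with hP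
  set N := Finset.univ.filter fun l => ¬ μ l ^ r = 1 with hN
  have hNneg : ∀ l ∈ N, μ l ^ r = -1 := fun l hl =>
    (hpm l).resolve_left (Finset.mem_filter.mp hl).2
  have hPmem : ∀ l ∈ P, μ l ^ r = 1 := fun l hl => (Finset.mem_filter.mp hl).2
  have hψ1 : (ψ : H → ℂ) 1 = (p : ℂ) - 1 := by
    rw [(Blocks.irr_degree_eq ψ).1, S.deg, Nat.cast_sub (by omega), Nat.cast_one]
  have hcards : P.card = T ∧ N.card = T := by
    have h1 : (ψ : H → ℂ) 1 = (P.card : ℂ) + N.card := by
      rw [← pow_zero x, hval 0, ← Finset.sum_filter_add_sum_filter_not Finset.univ (fun l => μ l ^ r = 1)]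
      simp [hP, hN]
    have h2 : (ψ : H → ℂ) D.t = (P.card : ℂ) - N.card := by
      rw [← hxr, hval r, ← Finset.sum_filter_add_sum_filter_not Finset.univ (fun l => μ l ^ r = 1),
        Finset.sum_congr rfl (g := fun _ => (1 : ℂ)) hPmem,
        Finset.sum_congr rfl (g := fun _ => (-1 : ℂ)) hNneg]
      simp [← hP, ← hN]
      ring
    rw [hψ1, hpT] at h1
    rw [S.at_t] at h2
    have e1 : ((P.card : ℕ) : ℂ) = (T : ℕ) := by linear_combination (-(1 : ℂ) / 2) * h1 - (1 / 2 : ℂ) * h2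
    have e2 : ((N.card : ℕ) : ℂ) = (T : ℕ) := by linear_combination (-(1 : ℂ) / 2) * h1 + (1 / 2 : ℂ) * h2
    exact ⟨Nat.cast_injective e1, Nat.cast_injective e2⟩
  -- the two halves
  set A : ℕ → ℂ := fun m => ∑ l ∈ P, μ l ^ m with hA
  set B : ℕ → ℂ := fun m => ∑ l ∈ N, (-μ l) ^ m with hB
  have hfy : ∀ m, (ψ : H → ℂ) (y ^ m) = A m + B m := fun m => by
    rw [← hxy, ← pow_mul, hval, ← Finset.sum_filter_add_sum_filter_not Finset.univ (fun l => μ l ^ r = 1)]
    congr 1
    · exact Finset.sum_congr rfl fun l hl => by rw [pow_mul, pow_succ, hPmem l hl, one_mul]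
    · exact Finset.sum_congr rfl fun l hl => by rw [pow_mul, pow_succ, hNneg l hl, neg_one_mul]
  have hfyt : ∀ m, (ψ : H → ℂ) (y ^ m * D.t) = A m - B m := fun m => by
    rw [← hxy, ← pow_mul, ← hxr, ← pow_add, hval,
      ← Finset.sum_filter_add_sum_filter_not Finset.univ (fun l => μ l ^ r = 1), sub_eq_add_neg, hB,
      ← Finset.sum_neg_distrib]
    congr 1
    · exact Finset.sum_congr rfl fun l hl => by
        rw [pow_add, pow_mul, pow_succ, hPmem l hl, one_mul, mul_one]
    · exact Finset.sum_congr rfl fun l hl => by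
        rw [pow_add, pow_mul, pow_succ, hNneg l hl, neg_one_mul, mul_neg_one]
  have hne : ∀ m, ¬ r ∣ m → y ^ m ≠ 1 := fun m hm e => hm (hy ▸ orderOf_dvd_of_pow_eq_one e)
  have heq : ∀ m, (A m - (T : ℂ)) * B m = 0 ∧
      A m ^ 2 + B m ^ 2 - (A (2 * m) + B (2 * m)) = 2 * T * (A m - 1) := fun m => by
    have hc : Commute (y ^ m) D.t := hyt.pow_left m
    have e1 := S.alt (y ^ m) (regular_of_commute_t S.cen D hc)
    have e2 := S.alt (y ^ m * D.t) (regular_of_commute_t S.cen D (hc.mul_left (Commute.refl _)))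
    have e3 : y ^ m * D.t * (y ^ m * D.t) = y ^ (2 * m) := by
      rw [mul_assoc, ← mul_assoc D.t, ← hc.eq, mul_assoc (y ^ m) D.t, D.tt, mul_one, ← pow_add, two_mul]
    rw [← pow_add, ← two_mul, hfy, hfy, hpT] at e1
    rw [e3, hfyt, hfy, hpT] at e2
    constructor
    · linear_combination (1 / 4 : ℂ) * e1 - (1 / 4 : ℂ) * e2
    · linear_combination (1 / 2 : ℂ) * e1 + (1 / 2 : ℂ) * e2
  have hPr : ∀ m, ∀ l ∈ P, (μ l ^ m) ^ r = 1 := fun m l hl => by
    rw [← pow_mul, mul_comm, pow_mul, hPmem l hl, one_pow]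
  have hNr : ∀ m, ∀ l ∈ N, ((-μ l) ^ m) ^ r = 1 := fun m l hl => by
    rw [← pow_mul, mul_comm, pow_mul, Odd.neg_pow (⟨s, hs⟩ : Odd r), hNneg l hl, neg_neg, one_pow]
  have hr0 : r ≠ 0 := hr.ne_zero
  -- the minus half has trace zero
  have hB0 : ∀ m, ¬ r ∣ m → B m = 0 := by
    intro m hm
    by_contra hB0
    have hAT : A m = T := sub_eq_zero.mp ((mul_eq_zero.mp (heq m).1).resolve_right hB0)
    have hP1 := eq_one_of_sum_eq_card (fun l hl => Complex.norm_eq_one_of_pow_eq_one (hPr m l hl) hr0)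
      (show ∑ l ∈ P, μ l ^ m = (P.card : ℂ) by rw [hcards.1]; exact hAT)
    have hA2 : A (2 * m) = T := by
      show ∑ l ∈ P, μ l ^ (2 * m) = _
      rw [Finset.sum_congr rfl (g := fun _ => (1 : ℂ)) fun l hl => by
        rw [mul_comm, pow_mul, hP1 l hl, one_pow], Finset.sum_const, hcards.1, nsmul_eq_mul, mul_one]
    have h := (heq m).2
    rw [hAT, hA2] at h
    have hN1 := eq_of_pairs (s := N) (μ := fun l => (-μ l) ^ m) (r := r) (by omega) (hNr m)
      (by omega) (by
        have e2 : ∑ l ∈ N, ((-μ l) ^ m) ^ 2 = B (2 * m) :=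
          Finset.sum_congr rfl fun l _ => by rw [← pow_mul, mul_comm]
        rw [e2, hcards.2]
        show B m ^ 2 - B (2 * m) = _
        linear_combination h)
    have hBT : B m = T := by
      show ∑ l ∈ N, (-μ l) ^ m = _
      rw [Finset.sum_congr rfl (g := fun _ => (1 : ℂ)) hN1, Finset.sum_const, hcards.2, nsmul_eq_mul,
        mul_one]
    refine hne m hm (S.ker _ (regular_of_commute_t S.cen D (hyt.pow_left m)) ?_)
    rw [hfy, hAT, hBT, hpT]; ring
  have h2m : ∀ m, ¬ r ∣ m → ¬ r ∣ 2 * m := fun m hm h =>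
    hm ((hr.dvd_mul.mp h).resolve_left fun h2 => hr2 ((Nat.prime_dvd_prime_iff_eq hr Nat.prime_two).mp h2))
  have hAper : ∀ m, A (m % r) = A m := fun m => Finset.sum_congr rfl fun l hl => by
    conv_rhs => rw [← Nat.mod_add_div m r, pow_add, pow_mul, hPmem l hl, one_pow, mul_one]
  -- the plus half has trace one
  have hA1 : ∀ m ∈ Finset.Ioo 0 r, A m = 1 := by
    obtain ⟨m₀, hm₀, hmax⟩ := Finset.exists_max_image (Finset.Ioo 0 r) (fun m => ‖A m - 1‖)
      ⟨1, by simp [hr.one_lt]⟩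
    obtain ⟨hm0, hmr⟩ := Finset.mem_Ioo.mp hm₀
    have hnd : ¬ r ∣ m₀ := fun h => by
      have := Nat.le_of_dvd hm0 h
      omega
    have h := (heq m₀).2
    rw [hB0 m₀ hnd, hB0 _ (h2m m₀ hnd)] at h
    have hfac : A (2 * m₀) - 1 = (A m₀ - 1) * (A m₀ + 1 - 2 * T) := by linear_combination -h
    have hmem : 2 * m₀ % r ∈ Finset.Ioo 0 r := Finset.mem_Ioo.mpr
      ⟨Nat.pos_of_ne_zero fun e => h2m m₀ hnd (Nat.dvd_of_mod_eq_zero e), Nat.mod_lt _ hr.pos⟩
    have h1 := hmax _ hmem
    rw [hAper, hfac, norm_mul] at h1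
    have hAn : ‖A m₀‖ ≤ T := by
      refine (norm_sum_le _ _).trans (le_of_eq ?_)
      rw [Finset.sum_congr rfl (g := fun _ => (1 : ℝ)) fun l hl =>
        Complex.norm_eq_one_of_pow_eq_one (hPr m₀ l hl) hr0, Finset.sum_const, hcards.1]
      simp
    have hbig : 2 ≤ ‖A m₀ + 1 - 2 * (T : ℂ)‖ := by
      have h3 := norm_sub_norm_le (2 * (T : ℂ) - 1) (A m₀)
      rw [show 2 * (T : ℂ) - 1 - A m₀ = -(A m₀ + 1 - 2 * T) by ring, norm_neg,
        show 2 * (T : ℂ) - 1 = ((2 * T - 1 : ℕ) : ℂ) by rw [Nat.cast_sub (by omega)]; push_cast; ring,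
        Complex.norm_natCast, Nat.cast_sub (by omega)] at h3
      push_cast at h3
      have : (3 : ℝ) ≤ T := by exact_mod_cast (show 3 ≤ T by omega)
      linarith
    have hzero : ‖A m₀ - 1‖ = 0 := by
      nlinarith [norm_nonneg (A m₀ - 1), mul_le_mul_of_nonneg_left hbig (norm_nonneg (A m₀ - 1))]
    intro m hm
    have := hmax m hm
    rw [hzero] at this
    exact sub_eq_zero.mp (norm_le_zero_iff.mp this)
  have key : ∀ (c : ℂ) (F : Finset (Fin (Module.finrank ℂ (Fin n → ℂ)))) (f : Fin (Module.finrank ℂ (Fin n → ℂ)) → ℂ),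
      (∀ l ∈ F, f l ^ r = 1) → (∀ m ∈ Finset.Ioo 0 r, ∑ l ∈ F, f l ^ m = c) →
      ∃ k : ℕ, (F.card : ℂ) + (r - 1) * c = r * k := by
    intro c F f hf hc
    refine ⟨(F.filter fun l => f l = 1).card, ?_⟩
    have h1 : ∑ m ∈ Finset.range r, ∑ l ∈ F, f l ^ m = (r : ℂ) * (F.filter fun l => f l = 1).card := by
      rw [Finset.sum_comm, Finset.sum_congr rfl fun l hl => DihBlock.geom_sum_root (hf l hl),
        ← Finset.sum_filter, Finset.sum_const, nsmul_eq_mul, mul_comm]
    rw [← h1, Finset.range_eq_Ico, ← Finset.insert_Ico_add_one_left_eq_Ico hr.pos,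
      Finset.sum_insert (by simp), Finset.sum_congr rfl (g := fun _ => c) fun m hm => hc m (by
        simp only [Finset.mem_Ico, Finset.mem_Ioo] at hm ⊢; omega)]
    simp [Nat.cast_sub hr.one_le]
  obtain ⟨k, hk⟩ := key 1 P μ hPmem fun m hm => hA1 m hm
  obtain ⟨l, hl⟩ := key 0 N (fun l => -μ l) (fun l hl => by simpa using hNr 1 l hl) fun m hm =>
    hB0 m fun h => by
      have := Nat.le_of_dvd (Finset.mem_Ioo.mp hm).1 h
      have := (Finset.mem_Ioo.mp hm).2
      omega
  rw [hcards.1] at hk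
  rw [hcards.2, mul_zero, add_zero] at hl
  have hk' : (T : ℤ) + ((r : ℤ) - 1) = r * k := by
    have : ((T : ℤ) : ℂ) + (((r : ℤ) : ℂ) - 1) = ((r : ℤ) : ℂ) * ((k : ℤ) : ℂ) := by
      push_cast; linear_combination hk
    exact_mod_cast this
  have hl' : T = r * l := by exact_mod_cast hl
  have h1 : (r : ℤ) ∣ 1 := ⟨(l : ℤ) + 1 - k, by
    have : (T : ℤ) = r * l := by exact_mod_cast hl'
    linear_combination this - hk'⟩
  exact hr.one_lt.ne' (Nat.dvd_one.mp (by exact_mod_cast h1))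

theorem Shape.centralizer_le (S : Shape D ψ) (h7 : 7 ≤ p) :
    Nat.card (Subgroup.centralizer ({D.t} : Set H)) ≤ p - 1 := by
  set C := Subgroup.centralizer ({D.t} : Set H) with hC
  haveI : Fintype C := Fintype.ofFinite _
  have hsq : ∀ g ∈ C, g * g = 1 := by
    intro g hg
    have hgt : Commute g D.t := Subgroup.mem_centralizer_singleton_iff.mp hg
    by_contra h
    have hdvd : ¬ orderOf g ∣ 2 := fun h2 => h (by rw [← pow_two]; exact orderOf_dvd_iff_pow_eq_one.mp h2)
    by_cases h4 : 4 ∣ orderOf g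
    · obtain ⟨c, hc⟩ := h4
      have hc0 : c ≠ 0 := fun e => (orderOf_pos g).ne' (by rw [hc, e, mul_zero])
      exact S.no_order_four h7 (g ^ c) (by
        rw [orderOf_pow_of_dvd hc0 (hc ▸ dvd_mul_left c 4), hc,
          Nat.mul_div_cancel _ (Nat.pos_of_ne_zero hc0)])
    · obtain ⟨r, hr, hrd, hr2⟩ : ∃ r, r.Prime ∧ r ∣ orderOf g ∧ r ≠ 2 := by
        by_contra hall
        push Not at hall
        obtain ⟨k, hk⟩ : ∃ k, orderOf g = 2 ^ k :=
          ⟨_, Nat.eq_prime_pow_of_unique_prime_dvd (orderOf_pos g).ne' fun hd he => hall _ hd he⟩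
        rcases lt_or_ge k 2 with h2 | h2
        · exact hdvd (hk ▸ pow_dvd_pow 2 (by omega : k ≤ 1))
        · exact h4 (hk ▸ pow_dvd_pow 2 h2)
      obtain ⟨c, hc⟩ := hrd
      have hc0 : c ≠ 0 := fun e => (orderOf_pos g).ne' (by rw [hc, e, mul_zero])
      exact S.not_odd h7 hr hr2 (y := g ^ c) (by
        rw [orderOf_pow_of_dvd hc0 (hc ▸ dvd_mul_left c r), hc,
          Nat.mul_div_cancel _ (Nat.pos_of_ne_zero hc0)]) (hgt.pow_left c)
  obtain ⟨k, hk⟩ := Char.exists_nat_classInner (Char.isCharacter_restrict C (Char.isCharacter_of_isIrr ψ.2))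
    Char.isCharacter_one
  rw [classInner, Finset.sum_eq_single (1 : C) (fun g _ hg => by
      rw [S.involution (hsq g g.2) (fun e => hg (Subtype.ext e)), zero_mul])
    (fun h => absurd (Finset.mem_univ _) h), map_one, mul_one, Subgroup.coe_one,
    (Blocks.irr_degree_eq ψ).1, S.deg, inv_mul_eq_iff_eq_mul₀ (Nat.cast_ne_zero.mpr Nat.card_pos.ne')] at hk
  have hk' : p - 1 = Nat.card C * k := by exact_mod_cast hk
  refine Nat.le_of_dvd ?_ ⟨k, hk'⟩
  have := D.five_le
  omega

theorem card_normalizer (hcen : Subgroup.center H = ⊥) (D : Data H p) :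
    Nat.card (Subgroup.normalizer (Subgroup.zpowers D.v : Set H)) = 2 * p := by
  set N := Subgroup.normalizer (Subgroup.zpowers D.v : Set H) with hN
  have hv : D.v ∈ N := Subgroup.le_normalizer (Subgroup.mem_zpowers _)
  have ht : D.t ∈ N := by
    have key : ∀ x ∈ Subgroup.zpowers D.v, D.t * x * D.t⁻¹ ∈ Subgroup.zpowers D.v := by
      intro x hx
      obtain ⟨i, -, rfl⟩ := D.exists_pow hx
      rw [inv_eq_of_mul_eq_one_right D.tt, D.t_mul_v_pow]
      exact inv_mem (Subgroup.npow_mem_zpowers _ _)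
    refine Subgroup.mem_normalizer_iff.mpr fun x => ⟨key x, fun hx => ?_⟩
    have := key _ hx
    simpa [inv_eq_of_mul_eq_one_right D.tt, mul_assoc, D.tt, ← mul_assoc D.t D.t] using this
  refine Eq.trans ?_ ((Nat.card_prod (Fin 2) (Fin p)).trans (by rw [Nat.card_fin, Nat.card_fin]))
  refine (Nat.card_congr (Equiv.ofBijective (fun q : Fin 2 × Fin p =>
    (⟨D.t ^ (q.1 : ℕ) * D.v ^ (q.2 : ℕ), mul_mem (pow_mem ht _) (pow_mem hv _)⟩ : N)) ⟨?_, ?_⟩)).symm
  · rintro ⟨a, i⟩ ⟨b, j⟩ h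
    have h' : D.t ^ (a : ℕ) * D.v ^ (i : ℕ) = D.t ^ (b : ℕ) * D.v ^ (j : ℕ) := congrArg Subtype.val h
    have hnot : ∀ k l : ℕ, D.t * D.v ^ k ≠ D.v ^ l := fun k l e => D.t_ne_one (by
      have h2 : D.t ∈ Subgroup.zpowers D.v := by
        rw [eq_mul_inv_iff_mul_eq.mpr e]
        exact mul_mem (Subgroup.npow_mem_zpowers _ _) (inv_mem (Subgroup.npow_mem_zpowers _ _))
      obtain ⟨m, -, hm⟩ := D.exists_pow h2
      have h3 : D.t ^ p = 1 := by rw [← hm, ← pow_mul, mul_comm, pow_mul, D.v_pow_p, one_pow]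
      obtain ⟨T, hT⟩ := D.odd_p
      have h4 : D.t ^ (2 * T + 1) = D.t := by rw [pow_succ, pow_mul, pow_two, D.tt, one_pow, one_mul]
      rw [← hT] at h4
      exact h4.symm.trans h3)
    fin_cases a <;> fin_cases b <;> simp only [pow_zero, pow_one, one_mul] at h'
    · exact Prod.ext rfl (Fin.ext (D.v_pow_inj i.2 j.2 h'))
    · exact absurd h'.symm (hnot _ _)
    · exact absurd h' (hnot _ _)
    · exact Prod.ext rfl (Fin.ext (D.v_pow_inj i.2 j.2 (mul_left_cancel h')))
  · rintro ⟨g, hg⟩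
    have hmem : g * D.v * g⁻¹ ∈ Subgroup.zpowers D.v :=
      (Subgroup.mem_normalizer_iff.mp hg D.v).mp (Subgroup.mem_zpowers _)
    have key : ∀ c : H, c * D.v = D.v * c → ∃ i : Fin p, c = D.v ^ (i : ℕ) := by
      intro c hc
      obtain ⟨i, z, hz, rfl⟩ := D.cent c hc
      rw [hcen, Subgroup.mem_bot] at hz
      subst hz
      exact ⟨⟨i % p, Nat.mod_lt _ (Fact.out : p.Prime).pos⟩, by rw [mul_one]; exact (D.v_pow_mod i).symm⟩
    rcases D.nor g hmem with e | e
    · obtain ⟨i, rfl⟩ := key g (mul_inv_eq_iff_eq_mul.mp e)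
      exact ⟨(0, i), Subtype.ext (by simp)⟩
    · obtain ⟨i, hi⟩ := key (D.t * g) (by
        have h3 : g * D.v = D.v⁻¹ * g := by rw [← e]; group
        have h4 : D.t * D.v⁻¹ = D.v * D.t := by rw [← D.tv]; simp [← mul_assoc, D.tt]
        rw [mul_assoc, h3, ← mul_assoc, h4, mul_assoc])
      refine ⟨(1, i), Subtype.ext ?_⟩
      show D.t ^ 1 * _ = g
      rw [pow_one, ← hi, ← mul_assoc, D.tt, one_mul]

end Data

/-- The conclusion. -/
theorem exists_field {H : Type*} [Group H] [Fintype H] {p : ℕ} [Fact p.Prime] (D : Data H p)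
    (h7 : 7 ≤ p)
    {ζ : IrrCharacter H} (hdeg : charDegree (ζ : H → ℂ) = p - 2)
    (hfaith : ∀ g : H, (ζ : H → ℂ) g = (ζ : H → ℂ) 1 → g = 1) :
    Subgroup.center H = ⊥ ∧ ∃ (a : ℕ) (F : Type) (_ : Field F) (_ : Fintype F),
      p = 2 ^ a + 1 ∧ Fintype.card F = 2 ^ a ∧
      Nonempty (H ≃* Matrix.SpecialLinearGroup (Fin 2) F) := by
  obtain ⟨ψ, S⟩ := D.exists_shape h7 hdeg hfaith
  refine ⟨S.cen, ?_⟩
  set c := Nat.card (Subgroup.centralizer ({D.t} : Set H)) with hc
  set m := (Subgroup.centralizer ({D.t} : Set H)).index with hm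
  have hcm : c * m = Nat.card H := Subgroup.card_mul_index _
  have hcle : c ≤ p - 1 := S.centralizer_le h7
  -- the number of Sylow subgroups
  have hcard : Nat.card (Subgroup.zpowers D.v) = p := by rw [Nat.card_zpowers, D.ordv]
  have hCv : Subgroup.centralizer ({D.v} : Set H) = Subgroup.zpowers D.v := by
    refine le_antisymm (fun g hg => ?_) (Subgroup.zpowers_le.mpr
      (Subgroup.mem_centralizer_singleton_iff.mpr rfl))
    obtain ⟨i, z, hz, rfl⟩ := D.cent g (Subgroup.mem_centralizer_singleton_iff.mp hg)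
    rw [S.cen, Subgroup.mem_bot] at hz
    rw [hz, mul_one]
    exact Subgroup.npow_mem_zpowers _ _
  have hsq : ¬ p ^ 2 ∣ Nat.card H := by
    intro hd
    obtain ⟨Q, hQ⟩ := Sylow.exists_subgroup_card_pow_prime_le p (m := 2) hd (Subgroup.zpowers D.v)
      (by rw [hcard, pow_one]) one_le_two
    obtain ⟨hQc, hQle⟩ := hQ
    have hcomm : ∀ x ∈ Q, x * D.v = D.v * x := by
      haveI : Fact p.Prime := inferInstance
      letI := IsPGroup.commGroupOfCardEqPrimeSq (G := Q) hQc
      intro x hx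
      exact congrArg Subtype.val (mul_comm (⟨x, hx⟩ : Q) ⟨D.v, hQle (Subgroup.mem_zpowers _)⟩)
    have : Q ≤ Subgroup.zpowers D.v := fun x hx => by
      rw [← hCv]; exact Subgroup.mem_centralizer_singleton_iff.mpr (hcomm x hx)
    have := Nat.le_of_dvd Nat.card_pos (Subgroup.card_dvd_of_le this)
    rw [hQc, hcard, pow_two] at this
    nlinarith
  have hfac : (Nat.card H).factorization p = 1 :=
    Blocks.PrimeDefect.factorization_eq_one (hcard ▸ Subgroup.card_subgroup_dvd_card _) hsq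
  set P : Sylow p H := Sylow.ofCard (Subgroup.zpowers D.v) (by rw [hcard, hfac, pow_one]) with hP
  have hn : Nat.card (Sylow p H) * (2 * p) = Nat.card H := by
    rw [Sylow.card_eq_index_normalizer P, ← Data.card_normalizer S.cen D]
    exact Subgroup.index_mul_card _
  set n := Nat.card (Sylow p H) with hndef
  -- the class equation
  have hQ := S.quot
  rw [Data.Q, S.cen, Subgroup.card_bot, Nat.cast_one, one_mul] at hQ
  have hm0 : m ≠ 0 := Subgroup.index_ne_zero_of_finite
  have heq : c * c * (p - 2) = 2 * n * (p - 1) := by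
    have h1 : (p : ℂ) * Nat.card H * ((p : ℂ) - 2) = ((p : ℂ) - 1) * (m : ℂ) ^ 2 := by
      rw [div_mul_eq_mul_div, div_eq_iff (pow_ne_zero 2 (Nat.cast_ne_zero.mpr hm0))] at hQ
      exact hQ
    have h2 : p * Nat.card H * (p - 2) = (p - 1) * m ^ 2 := by
      have : ((p * Nat.card H * (p - 2) : ℕ) : ℂ) = (((p - 1) * m ^ 2 : ℕ) : ℂ) := by
        push_cast [Nat.cast_sub (show 2 ≤ p by omega), Nat.cast_sub (show 1 ≤ p by omega)]
        exact h1
      exact_mod_cast this
    have h3 : p * (c * c * (p - 2)) * (m * Nat.card H) = p * (2 * n * (p - 1)) * (m * Nat.card H) := by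
      calc p * (c * c * (p - 2)) * (m * Nat.card H)
          = (p * Nat.card H * (p - 2)) * (c * (c * m)) := by ring
        _ = ((p - 1) * m ^ 2) * (c * (c * m)) := by rw [h2]
        _ = (p - 1) * m * (c * m) * (c * m) := by ring
        _ = (p - 1) * m * Nat.card H * (n * (2 * p)) := by rw [hn, hcm]
        _ = _ := by ring
    have h4 := Nat.eq_of_mul_eq_mul_right (Nat.mul_pos (Nat.pos_of_ne_zero hm0) Nat.card_pos) h3
    exact Nat.eq_of_mul_eq_mul_left (by omega) h4
  have hsmall : 2 * n < (p + 1) * (p + 2) := by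
    have h1 : 2 * n * (p - 1) ≤ (p - 1) * (p - 2) * (p - 1) := by
      rw [← heq]
      calc c * c * (p - 2) ≤ (p - 1) * (p - 1) * (p - 2) :=
            Nat.mul_le_mul_right _ (Nat.mul_le_mul hcle hcle)
        _ = _ := by ring
    have h2 := Nat.le_of_mul_le_mul_right h1 (by omega)
    have h3 : (p - 1) * (p - 2) ≤ p * p := Nat.mul_le_mul (by omega) (by omega)
    nlinarith
  rcases Cfsg.Agent.S0996.result D.perf p D.v D.ordv hCv hsmall with
    ⟨F, _, _, hF, -, ⟨e⟩⟩ | ⟨a, F, _, _, hF, hpa, -, ⟨e⟩⟩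
  · exfalso
    have hPSL := CfsgLib.SL2.card_PSL (F := F)
    rw [← Nat.card_congr e.toEquiv, Nat.card_eq_fintype_card (α := F), hF] at hPSL
    obtain ⟨T, hT⟩ := D.odd_p
    rw [show Nat.gcd 2 (p - 1) = 2 from Nat.gcd_eq_left ⟨T, by omega⟩] at hPSL
    have h4 : 4 * n = (p - 1) * (p + 1) := by
      refine Nat.eq_of_mul_eq_mul_left (show 0 < p by omega) ?_
      rw [← hPSL, ← hn]; ring
    have h5 : 2 * (c * c * (p - 2)) = (p - 1) * (p - 1) * (p + 1) := by
      rw [heq]
      calc 2 * (2 * n * (p - 1)) = 4 * n * (p - 1) := by ring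
        _ = _ := by rw [h4]; ring
    have hcop : Nat.Coprime (p - 2) (p - 1) := by
      rw [show p - 1 = p - 2 + 1 by omega]; simp
    have h6 : p - 2 ∣ p + 1 := (hcop.mul_right hcop).dvd_of_dvd_mul_left
      ⟨2 * (c * c), by rw [← h5]; ring⟩
    have h7' : p - 2 ∣ 3 := by
      have := Nat.dvd_sub h6 (dvd_refl (p - 2))
      rwa [show p + 1 - (p - 2) = 3 by omega] at this
    have := Nat.le_of_dvd (by norm_num) h7'
    omega
  · haveI : Fact (Nat.Prime 2) := ⟨Nat.prime_two⟩
    haveI : CharP F 2 := charP_of_card_eq_prime_pow (f := a) hF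
    exact ⟨a, F, _, _, hpa, hF, ⟨e.trans (MulEquiv.ofBijective
      (CfsgLib.SL2.proj (F := F))
      ⟨(MonoidHom.ker_eq_bot_iff _).1 (by
        rw [QuotientGroup.ker_mk', CfsgLib.BrauerReynolds.center_SL_two_of_char_two]),
        CfsgLib.SL2.proj_surjective⟩).symm⟩⟩

end CfsgLib.PMinusTwo
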