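import Cfsg.Agent.Lib.PMinusTwo.Local
import Cfsg.Agent.Lib.PMinusTwo.Main
import Cfsg.Agent.Lib.Char.SmallDegreeAction
import Mathlib.GroupTheory.NoncommPiCoprod

/-!
# A faithful character of degree `p - 2` and a Sylow subgroup of order `p` that is not normal
-/

set_option autoImplicit false
set_option linter.unusedSectionVars false
set_option linter.style.haveILetI false

namespace CfsgLib.PMinusTwo

open Cfsg CfsgLib CfsgLib.Blocks
open scoped ComplexConjugate CfsgLib.Char
open scoped _root_.Classical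

variable {G : Type*} [Group G] [Fintype G]

/-- A character of degree prime to `p` lies in a block of positive defect. -/
theorem defect_pos {p : ℕ} {M : Ideal AlgInt} (hM : IsPModular p M) (hdiv : p ∣ Nat.card G)
    (χ : IrrCharacter G) (hχ : ¬ p ∣ charDegree (χ : G → ℂ)) :
    0 < blockDefect p (blockOf M (χ : G → ℂ)) := by
  have := isPrime_of_isPModular hM
  have h := (blockDefect_le_and_degree hM (isPBlock_blockOf χ)).2.2.1 χ (mem_blockOf_self χ)
  rw [Nat.factorization_eq_zero_of_not_dvd hχ] at h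
  have := (hM.1.dvd_iff_one_le_factorization Nat.card_pos.ne').mp hdiv
  omega

/-- Characters and central elements. -/
theorem norm_central {χ : IrrCharacter G} {z : G} (hz : z ∈ Subgroup.center G) :
    ‖(χ : G → ℂ) z‖ = charDegree (χ : G → ℂ) := by
  have h := Char.central_mul χ.2 hz z⁻¹
  rw [inv_mul_cancel, Char.value_inv_eq_conj (Char.isCharacter_of_isIrr χ.2),
    (Blocks.irr_degree_eq χ).1, mul_comm (conj _), Complex.mul_conj'] at h
  have h2 : ((charDegree (χ : G → ℂ) : ℝ)) ^ 2 = ‖(χ : G → ℂ) z‖ ^ 2 := by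
    have : (((charDegree (χ : G → ℂ) : ℝ) ^ 2 : ℝ) : ℂ) = ((‖(χ : G → ℂ) z‖ ^ 2 : ℝ) : ℂ) := by
      push_cast; rw [← h]; ring
    exact_mod_cast this
  exact ((sq_eq_sq₀ (by positivity) (norm_nonneg _)).mp h2).symm

theorem structure_sl {p : ℕ} [Fact p.Prime] (hp : 5 < p) {M : Ideal AlgInt}
    (S : PrimeDefect.Setup G p M) (hnn : ¬ S.P.Normal) {χ : IrrCharacter G} (hχ : χ ∈ S.B)
    (hdeg : charDegree (χ : G → ℂ) = p - 2)
    (hfaith : ∀ g : G, (χ : G → ℂ) g = (χ : G → ℂ) 1 → g = 1) :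
    ∃ (a : ℕ) (F : Type) (_ : Field F) (_ : Fintype F), p = 2 ^ a + 1 ∧ Fintype.card F = 2 ^ a ∧
      Nonempty (G ≃* Matrix.SpecialLinearGroup (Fin 2) F × Subgroup.center G) := by
  have hd : (χ : G → ℂ) 1 = ((p - 2 : ℕ) : ℂ) := by rw [(Blocks.irr_degree_eq χ).1, hdeg]
  obtain ⟨hC, hindex⟩ := local_structure S hp hnn hχ hd hfaith
  have hpr := (Fact.out : p.Prime)
  have hodd : Odd p := hpr.odd_of_ne_two (by omega)
  haveI : Nontrivial S.P := by rw [← Finite.one_lt_card_iff_nontrivial, S.hP]; exact hpr.one_lt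
  obtain ⟨⟨v, hv⟩, hv1⟩ := exists_ne (1 : S.P)
  replace hv1 : v ≠ 1 := fun e => hv1 (Subtype.ext e)
  have hvz : Subgroup.zpowers v = S.P := S.zpowers_eq hv hv1
  have hordv : orderOf v = p := S.orderOf_mem hv hv1
  have hmemC : ∀ g : G, g * v = v * g → g ∈ S.C := fun g h => by
    rw [S.centralizer_eq hv hv1]; exact Subgroup.mem_centralizer_singleton_iff.mpr h
  -- the automorphisms of `P` from its normalizer
  have hpm : ∀ g ∈ S.N, g * v * g⁻¹ = v ∨ g * v * g⁻¹ = v⁻¹ := by
    intro g hg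
    have hsq : g * g ∈ S.C := by
      have : (⟨g, hg⟩ : S.N) * ⟨g, hg⟩ ∈ S.C.subgroupOf S.N :=
        Subgroup.mul_self_mem_of_index_two hindex _
      exact this
    obtain ⟨i, hi⟩ := Subgroup.mem_zpowers_iff.mp (hvz.ge (S.conj_P hg hv))
    have h2 : v ^ (i * i) = v := by
      have h3 : g * (g * v * g⁻¹) * g⁻¹ = v := by
        rw [S.centralizer_eq hv hv1, Subgroup.mem_centralizer_singleton_iff] at hsq
        calc g * (g * v * g⁻¹) * g⁻¹ = g * g * v * (g * g)⁻¹ := by group
          _ = v := by rw [hsq, mul_inv_cancel_right]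
      rw [← hi, ← conj_zpow, ← hi, ← zpow_mul] at h3
      exact h3
    have h4 : (p : ℤ) ∣ i * i - 1 := by
      rw [← hordv, orderOf_dvd_iff_zpow_eq_one, zpow_sub, h2, zpow_one, mul_inv_cancel]
    rw [show i * i - 1 = (i - 1) * (i + 1) by ring] at h4
    rcases (Nat.prime_iff_prime_int.mp hpr).dvd_mul.mp h4 with h | h <;>
      rw [← hordv, orderOf_dvd_iff_zpow_eq_one] at h
    · left
      rw [zpow_sub, zpow_one, mul_inv_eq_one] at h
      rw [← hi, h]
    · right
      rw [zpow_add, zpow_one, ← eq_inv_iff_mul_eq_one] at h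
      rw [← hi, h]
  -- the representation
  obtain ⟨n, ρ, hρirr, hρ⟩ := χ.2
  have hn : n = p - 2 := by
    have := congrFun hρ 1
    rw [Representation.char_one, Module.finrank_fin_fun, hd] at this
    exact_mod_cast this
  have hρinj : Function.Injective ρ := fun a b h => by
    refine inv_mul_eq_one.mp (hfaith (a⁻¹ * b) ?_)
    have : ρ (a⁻¹ * b) = LinearMap.id := by
      rw [map_mul, ← h, ← map_mul, inv_mul_cancel, map_one]; rfl
    rw [← hρ, (Char.character_eq_finrank_iff ρ _).mpr this, Representation.char_one]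
  -- the normal closure of `P`
  set H := Subgroup.normalClosure (S.P : Set G) with hHdef
  haveI : H.Normal := Subgroup.normalClosure_normal
  have hPH : S.P ≤ H := Subgroup.subset_normalClosure
  have hvH : v ∈ H := hPH hv
  set P₀ : Sylow p G := Sylow.ofCard S.P (by
    rw [S.hP, PrimeDefect.factorization_eq_one (S.hP ▸ Subgroup.card_subgroup_dvd_card _) (fun h => by
      have h1 := S.P.card_mul_index
      rw [S.hP] at h1
      rw [pow_two, ← h1] at h
      exact S.hidx (Nat.dvd_of_mul_dvd_mul_left hpr.pos h)), pow_one]) with hP₀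
  -- an element of `H` inverting `P`
  obtain ⟨h₀, hh₀H, hh₀⟩ : ∃ h ∈ H, h * v * h⁻¹ = v⁻¹ := by
    by_contra hno
    push Not at hno
    set Q : Sylow p H := P₀.subtype hPH with hQ
    have hQmem : ∀ x : H, x ∈ Q ↔ (x : G) ∈ S.P := fun x => Iff.rfl
    have hNC : Subgroup.normalizer ((Q : Subgroup H) : Set H) ≤
        Subgroup.centralizer ((Q : Subgroup H) : Set H) := by
      intro g hg
      have hgN : (g : G) ∈ S.N := by
        have hvQ : (⟨v, hvH⟩ : H) ∈ (Q : Subgroup H) := hv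
        have := (Subgroup.mem_normalizer_iff.mp hg ⟨v, hvH⟩).mp hvQ
        exact S.mem_N_of_conj hv hv1 this
      have hgC : (g : G) ∈ S.C := by
        rcases hpm g hgN with e | e
        · exact hmemC g (mul_inv_eq_iff_eq_mul.mp e)
        · exact absurd e (hno g g.2)
      exact Subgroup.mem_centralizer_iff.mpr fun x hx =>
        Subtype.ext (Subgroup.mem_centralizer_iff.mp hgC (x : G) hx)
    set K := (MonoidHom.transferSylow Q hNC).ker with hK
    have hcompl : Subgroup.IsComplement' K (Q : Subgroup H) :=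
      MonoidHom.ker_transferSylow_isComplement' Q hNC
    haveI : Fintype H := Fintype.ofFinite _
    have htop : K ⊔ Subgroup.zpowers (⟨v, hvH⟩ : H) = ⊤ := by
      rw [show Subgroup.zpowers (⟨v, hvH⟩ : H) = (Q : Subgroup H) from ?_]
      · exact hcompl.sup_eq_top
      ext x
      constructor
      · intro hx
        obtain ⟨i, rfl⟩ := Subgroup.mem_zpowers_iff.mp hx
        exact Subgroup.zpow_mem _ (show (⟨v, hvH⟩ : H) ∈ (Q : Subgroup H) from hv) i
      · intro hx
        obtain ⟨i, hi⟩ := Subgroup.mem_zpowers_iff.mp (hvz.ge ((hQmem x).mp hx))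
        exact Subgroup.mem_zpowers_iff.mpr ⟨i, Subtype.ext (by rw [← hi]; rfl)⟩
    have hordH : orderOf (⟨v, hvH⟩ : H) = p ^ 1 := by rw [Subgroup.orderOf_mk, hordv, pow_one]
    have hcop : (Nat.card K).Coprime (orderOf (⟨v, hvH⟩ : H)) := by
      rw [hordH, pow_one]
      refine Nat.Coprime.symm ((hpr.coprime_iff_not_dvd).mpr fun hd => ?_)
      rw [← hcompl.index_eq_card] at hd
      exact Q.not_dvd_index hd
    have hcomm : ∀ x : H, Commute (⟨v, hvH⟩ : H) x := by
      intro x
      obtain ⟨k, hk, y, hy, rfl⟩ := Subgroup.mem_sup_of_normal_left.mp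
        (htop.symm ▸ Subgroup.mem_top x : x ∈ K ⊔ Subgroup.zpowers (⟨v, hvH⟩ : H))
      obtain ⟨i, rfl⟩ := Subgroup.mem_zpowers_iff.mp hy
      exact Commute.mul_right (Char.commute_of_faithful_small htop hcop hpr hordH (ρ.comp H.subtype)
        (hρinj.comp Subtype.val_injective) (by omega) ⟨k, hk⟩) (Commute.self_zpow _ i)
    refine hnn ⟨fun x hx g => ?_⟩
    rcases eq_or_ne x 1 with rfl | hx1
    · simp
    have hw : g * x * g⁻¹ ∈ H := ‹H.Normal›.conj_mem x (hPH hx) g
    obtain ⟨a, ha, z, hz, e⟩ := hC (g * x * g⁻¹)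
      (hmemC _ (congrArg Subtype.val (hcomm ⟨_, hw⟩).symm.eq))
    have hzp : z ^ p = 1 := by
      have h1 : (g * x * g⁻¹) ^ p = 1 := by
        rw [conj_pow, ← S.orderOf_mem hx hx1, pow_orderOf_eq_one, mul_one, mul_inv_cancel]
      have hc : Commute a z := Subgroup.mem_center_iff.mp hz a
      rw [e, hc.mul_pow] at h1
      rcases eq_or_ne a 1 with rfl | ha1
      · simpa using h1
      · rw [← S.orderOf_mem ha ha1, pow_orderOf_eq_one, one_mul, S.orderOf_mem ha ha1] at h1
        exact h1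
    rcases eq_or_ne z 1 with rfl | hz1
    · rw [e, mul_one]; exact ha
    · exfalso
      have hzo : orderOf z = p := orderOf_eq_prime hzp hz1
      have hzP : z ∈ S.P := S.mem_P_of_pElement
        (S.C_le_N (hmemC z ((Subgroup.mem_center_iff.mp hz v).symm))) ⟨1, by rw [hzo, pow_one]⟩
      refine hnn ⟨fun y hy g' => ?_⟩
      rw [← S.zpowers_eq hzP hz1] at hy ⊢
      obtain ⟨i, rfl⟩ := Subgroup.mem_zpowers_iff.mp hy
      rw [Subgroup.mem_center_iff.mp (Subgroup.zpow_mem _ hz i) g', mul_inv_cancel_right]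
      exact Subgroup.zpow_mem _ (Subgroup.mem_zpowers z) i
  have hinvN : h₀ ∈ S.N := S.mem_N_of_conj hv hv1 (hh₀ ▸ inv_mem hv)
  -- `G = H Z`
  have hHZ : ∀ g : G, ∃ h ∈ H, ∃ z ∈ Subgroup.center G, g = h * z := by
    intro g
    have htop := P₀.normalizer_sup_eq_top' (N := H) hPH
    obtain ⟨m, hm, h, hh, rfl⟩ := Subgroup.mem_sup_of_normal_right.mp
      (htop.symm ▸ Subgroup.mem_top g : g ∈ Subgroup.normalizer ((P₀ : Subgroup G) : Set G) ⊔ H)
    have hmN : m ∈ S.N := hm
    have key : ∀ c ∈ S.C, ∃ h ∈ H, ∃ z ∈ Subgroup.center G, c = h * z := fun c hc => by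
      obtain ⟨x, hx, z, hz, rfl⟩ := hC c hc
      exact ⟨x, hPH hx, z, hz, rfl⟩
    have hm' : ∃ h ∈ H, ∃ z ∈ Subgroup.center G, m = h * z := by
      rcases hpm m hmN with e | e
      · exact key m (hmemC m (mul_inv_eq_iff_eq_mul.mp e))
      · obtain ⟨a, ha, z, hz, e'⟩ := key (h₀⁻¹ * m) (hmemC _ (by
          have e1 : m * v = v⁻¹ * m := by rw [← e]; group
          have e2 : h₀⁻¹ * v⁻¹ = v * h₀⁻¹ := by rw [← hh₀]; group
          rw [mul_assoc, e1, ← mul_assoc, e2, mul_assoc]))
        exact ⟨h₀ * a, mul_mem hh₀H ha, z, hz, by rw [mul_assoc, ← e', mul_inv_cancel_left]⟩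
    obtain ⟨a, ha, z, hz, rfl⟩ := hm'
    exact ⟨a * h, mul_mem ha hh, z, hz, by
      rw [mul_assoc, ← Subgroup.mem_center_iff.mp hz h, mul_assoc]⟩
  -- `H` is perfect
  have hperf : commutator H = ⊤ := by
    have hvD : v ∈ ⁅H, H⁆ := by
      have h1 : h₀ * v * h₀⁻¹ * v⁻¹ ∈ ⁅H, H⁆ := by
        rw [← commutatorElement_def]
        exact Subgroup.commutator_mem_commutator hh₀H hvH
      rw [hh₀, ← mul_inv_rev, inv_mem_iff, ← pow_two] at h1
      obtain ⟨m, hm⟩ := exists_pow_eq_self_of_coprime (x := v) (n := 2) (by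
        rw [hordv]; exact (Nat.coprime_primes Nat.prime_two hpr).mpr (by omega))
      rw [← hm]
      exact pow_mem h1 m
    have hle : H ≤ ⁅H, H⁆ := by
      haveI : (⁅H, H⁆).Normal := Subgroup.commutator_normal H H
      exact Subgroup.normalClosure_le_normal fun x hx => by
        rw [SetLike.mem_coe, ← hvz] at hx
        obtain ⟨i, rfl⟩ := Subgroup.mem_zpowers_iff.mp hx
        exact Subgroup.zpow_mem _ hvD i
    refine Subgroup.map_injective (Subgroup.subtype_injective H) ?_
    rw [Subgroup.map_subtype_commutator, ← MonoidHom.range_eq_map, Subgroup.range_subtype]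
    exact le_antisymm (Subgroup.commutator_le_self H) hle
  -- central elements of `H`
  have hzpow : ∀ z ∈ Subgroup.center G, z ∈ H → z ^ (p - 2) = 1 := by
    intro z hz hzH
    obtain ⟨ω, hω⟩ := (Char.norm_character_eq_iff ρ z).mp (by
      rw [hρ, norm_central hz, hdeg]; simp [hn])
    let δ : H →* ℂˣ := (Units.map (LinearMap.det : Module.End ℂ (Fin n → ℂ) →* ℂ)).comp
      ((MonoidHom.toHomUnits ρ).comp H.subtype)
    have hδ : δ ⟨z, hzH⟩ = 1 := by
      have := Abelianization.commutator_subset_ker δ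
      rw [hperf] at this
      exact MonoidHom.mem_ker.mp (this (Subgroup.mem_top _))
    have hdet : LinearMap.det (ρ z) = 1 := congrArg Units.val hδ
    rw [hω, LinearMap.det_smul, LinearMap.det_id, mul_one, Module.finrank_fin_fun, hn] at hdet
    have hid : ρ z = ω • (1 : Module.End ℂ (Fin n → ℂ)) := hω
    refine hρinj ?_
    rw [map_pow, hid, smul_pow, one_pow, hdet, one_smul, map_one]
  -- the involution
  have hh2 : h₀ * h₀ ∈ Subgroup.center G := by
    have hcC : h₀ * h₀ ∈ S.C := hmemC _ (by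
      have e : h₀ * h₀ * v * (h₀ * h₀)⁻¹ = v := by
        calc h₀ * h₀ * v * (h₀ * h₀)⁻¹ = h₀ * (h₀ * v * h₀⁻¹) * h₀⁻¹ := by group
          _ = h₀ * v⁻¹ * h₀⁻¹ := by rw [hh₀]
          _ = (h₀ * v * h₀⁻¹)⁻¹ := by group
          _ = v := by rw [hh₀, inv_inv]
      exact mul_inv_eq_iff_eq_mul.mp e)
    obtain ⟨w, hw, z, hz, e⟩ := hC _ hcC
    have hw1 : w = 1 := by
      obtain ⟨i, hi⟩ := Subgroup.mem_zpowers_iff.mp (hvz.ge hw)
      have hwinv : h₀ * w * h₀⁻¹ = w⁻¹ := by rw [← hi, ← conj_zpow, hh₀, inv_zpow]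
      have h1 : h₀ * (w * z) * h₀⁻¹ = w * z := by rw [← e]; group
      rw [show h₀ * (w * z) * h₀⁻¹ = h₀ * w * (z * h₀⁻¹) by group,
        ← Subgroup.mem_center_iff.mp hz h₀⁻¹, ← mul_assoc, hwinv] at h1
      have h2 : w ^ 2 = 1 := by
        rw [pow_two]
        exact inv_eq_iff_mul_eq_one.mp (mul_right_cancel h1)
      by_contra hne
      have h3 := orderOf_dvd_of_pow_eq_one h2
      rw [S.orderOf_mem hw hne] at h3
      have := Nat.le_of_dvd two_pos h3
      omega
    rw [e, hw1, one_mul]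
    exact hz
  set t₀ := h₀ ^ (p - 2) with ht₀
  have ht₀H : t₀ ∈ H := pow_mem hh₀H _
  have htt : t₀ * t₀ = 1 := by
    rw [ht₀, ← pow_add, show p - 2 + (p - 2) = 2 * (p - 2) by ring, pow_mul, pow_two]
    exact hzpow _ hh2 (mul_mem hh₀H hh₀H)
  have htv : t₀ * v * t₀⁻¹ = v⁻¹ := by
    obtain ⟨k, hk⟩ := hodd
    rw [ht₀, show p - 2 = 2 * (k - 1) + 1 by omega, pow_succ, pow_mul, pow_two]
    have hc : (h₀ * h₀) ^ (k - 1) ∈ Subgroup.center G := pow_mem hh2 _
    calc (h₀ * h₀) ^ (k - 1) * h₀ * v * ((h₀ * h₀) ^ (k - 1) * h₀)⁻¹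
        = (h₀ * h₀) ^ (k - 1) * (h₀ * v * h₀⁻¹) * ((h₀ * h₀) ^ (k - 1))⁻¹ := by group
      _ = _ := by rw [← Subgroup.mem_center_iff.mp hc, mul_inv_cancel_right, hh₀]
  have hcenH : ∀ z : H, z ∈ Subgroup.center H → (z : G) ∈ Subgroup.center G := by
    intro z hz
    refine Subgroup.mem_center_iff.mpr fun g => ?_
    obtain ⟨h, hh, w, hw, rfl⟩ := hHZ g
    have h1 : h * z = z * h := congrArg Subtype.val (Subgroup.mem_center_iff.mp hz ⟨h, hh⟩)
    rw [mul_assoc, ← Subgroup.mem_center_iff.mp hw (z : G), ← mul_assoc, h1, mul_assoc]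
  haveI : Fintype H := Fintype.ofFinite _
  let D : Data H p :=
    { five_le := hp.le
      v := ⟨v, hvH⟩
      t := ⟨t₀, ht₀H⟩
      ordv := by rw [Subgroup.orderOf_mk, hordv]
      tt := Subtype.ext htt
      tv := Subtype.ext (by
        show t₀ * v * t₀ = v⁻¹
        conv_lhs => arg 2; rw [← inv_eq_of_mul_eq_one_right htt]
        exact htv)
      cent := fun g hg => by
        obtain ⟨x, hx, z, hz, e⟩ := hC g (hmemC g (congrArg Subtype.val hg))
        have hx' := hx
        rw [← hvz, ← mem_powers_iff_mem_zpowers, Submonoid.mem_powers_iff] at hx'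
        obtain ⟨i, rfl⟩ := hx'
        have hzH : z ∈ H := by
          have : z = (v ^ i)⁻¹ * g := by rw [e, inv_mul_cancel_left]
          rw [this]; exact mul_mem (inv_mem (pow_mem hvH i)) g.2
        exact ⟨i, ⟨z, hzH⟩, Subgroup.mem_center_iff.mpr fun y =>
          Subtype.ext (Subgroup.mem_center_iff.mp hz (y : G)), Subtype.ext (by simpa using e)⟩
      nor := fun g hg => by
        have hg' : (g : G) * v * (g : G)⁻¹ ∈ S.P := by
          rw [← hvz]
          obtain ⟨i, hi⟩ := Subgroup.mem_zpowers_iff.mp hg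
          exact Subgroup.mem_zpowers_iff.mpr ⟨i, by simpa using congrArg Subtype.val hi⟩
        rcases hpm g (S.mem_N_of_conj hv hv1 hg') with e | e
        · exact Or.inl (Subtype.ext e)
        · exact Or.inr (Subtype.ext e)
      powZ := fun z hz => Subtype.ext (by
        rw [Subgroup.coe_pow, Subgroup.coe_one]; exact hzpow _ (hcenH z hz) z.2)
      syl := fun g hg => by
        have hgo : orderOf (g : G) = p := by rw [Subgroup.orderOf_coe, hg]
        obtain ⟨c, hc⟩ : ∃ c : G, c * g * c⁻¹ ∈ S.P := by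
          haveI : Finite (Sylow p G) := inferInstance
          have hpg : IsPGroup p (Subgroup.zpowers (g : G)) :=
            IsPGroup.of_card (n := 1) (by rw [Nat.card_zpowers, hgo, pow_one])
          obtain ⟨R, hR⟩ := hpg.exists_le_sylow
          obtain ⟨c, hc⟩ := MulAction.exists_smul_eq G R P₀
          refine ⟨c, ?_⟩
          have h1 : c * g * c⁻¹ ∈ ((c • R : Sylow p G) : Subgroup G) :=
            Subgroup.smul_mem_pointwise_smul (g : G) (MulAut.conj c) _ (hR (Subgroup.mem_zpowers _))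
          rw [hc] at h1
          exact h1
        obtain ⟨h, hh, w, hw, rfl⟩ := hHZ c
        refine ⟨⟨h, hh⟩, ?_⟩
        have hc' : h * w * g * (h * w)⁻¹ = h * g * h⁻¹ := by
          rw [mul_assoc h w, ← Subgroup.mem_center_iff.mp hw (g : G)]; group
        rw [hc', ← hvz] at hc
        obtain ⟨i, hi⟩ := Subgroup.mem_zpowers_iff.mp hc
        exact Subgroup.mem_zpowers_iff.mpr ⟨i, Subtype.ext (by simpa using hi)⟩
      perf := hperf }
  -- the restriction of the character
  let φ : H × Subgroup.center G →* G := MonoidHom.noncommCoprod H.subtype (Subgroup.center G).subtype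
    fun h z => Subgroup.mem_center_iff.mp z.2 h
  have hφ : ∀ q, φ q = (q.1 : G) * q.2 := fun q => rfl
  have hφsurj : Function.Surjective φ := fun g => by
    obtain ⟨h, hh, z, hz, rfl⟩ := hHZ g
    exact ⟨(⟨h, hh⟩, ⟨z, hz⟩), rfl⟩
  have hsum : ∀ f : G → ℂ, ∑ q : H × Subgroup.center G, f (φ q) =
      (Nat.card φ.ker : ℂ) * ∑ g : G, f g := by
    intro f
    rw [← Finset.sum_fiberwise (g := φ), Finset.mul_sum]
    refine Finset.sum_congr rfl fun g _ => ?_
    rw [Finset.sum_congr rfl (g := fun _ => f g) fun q hq => by rw [(Finset.mem_filter.mp hq).2],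
      Finset.sum_const, nsmul_eq_mul, ← Fintype.card_subtype, ← Nat.card_eq_fintype_card]
    congr 2
    obtain ⟨q₀, rfl⟩ := hφsurj g
    exact Nat.card_congr
      { toFun := fun q => ⟨q₀⁻¹ * q.1, by rw [MonoidHom.mem_ker, map_mul, map_inv, q.2, inv_mul_cancel]⟩
        invFun := fun k => ⟨q₀ * k.1, by rw [map_mul, MonoidHom.mem_ker.mp k.2, mul_one]⟩
        left_inv := fun q => by ext1; simp
        right_inv := fun k => by ext1; simp }
  have hchi : IsIrrCharacter H fun h : H => (χ : G → ℂ) h := by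
    have hc := Char.isCharacter_restrict H (Char.isCharacter_of_isIrr χ.2)
    refine Char.isIrr_of_norm_one hc ?_
    have hcard : (Nat.card H : ℂ) * Nat.card (Subgroup.center G) = (Nat.card φ.ker : ℂ) * Nat.card G := by
      have := hsum fun _ => 1
      simpa [Nat.card_eq_fintype_card] using this
    have hnorm : ∀ q : H × Subgroup.center G,
        (χ : G → ℂ) (φ q) * conj ((χ : G → ℂ) (φ q)) = (χ : G → ℂ) q.1 * conj ((χ : G → ℂ) q.1) := by
      intro q
      have h := Char.central_mul χ.2 q.2.2 (q.1 : G)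
      have h0 := Char.irr_degree_ne_zero χ.2
      have hz : (χ : G → ℂ) q.2 * conj ((χ : G → ℂ) q.2) = (χ : G → ℂ) 1 * conj ((χ : G → ℂ) 1) := by
        rw [Complex.mul_conj', Complex.mul_conj', norm_central q.2.2, (Blocks.irr_degree_eq χ).1,
          Complex.norm_natCast]
      rw [← hφ] at h
      refine mul_right_cancel₀ (mul_ne_zero h0 ((map_ne_zero conj).mpr h0)) ?_
      have h' := congrArg conj h
      rw [map_mul, map_mul] at h'
      calc _ = ((χ : G → ℂ) (φ q) * (χ : G → ℂ) 1) * (conj ((χ : G → ℂ) (φ q)) * conj ((χ : G → ℂ) 1)) := by ring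
        _ = ((χ : G → ℂ) q.1 * conj ((χ : G → ℂ) q.1)) * ((χ : G → ℂ) q.2 * conj ((χ : G → ℂ) q.2)) := by
          rw [h, h']; ring
        _ = _ := by rw [hz]
    have h1 := hsum fun g => (χ : G → ℂ) g * conj ((χ : G → ℂ) g)
    simp only [hnorm, Fintype.sum_prod_type, Finset.sum_const, Finset.card_univ, nsmul_eq_mul,
      ← Finset.mul_sum] at h1
    have hG := Char.classInner_irr_self χ.2
    rw [classInner, inv_mul_eq_one₀ (Nat.cast_ne_zero.mpr Nat.card_pos.ne')] at hG
    rw [← hG, ← hcard, ← Nat.card_eq_fintype_card, mul_comm (Nat.card H : ℂ)] at h1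
    rw [classInner, inv_mul_eq_one₀ (Nat.cast_ne_zero.mpr Nat.card_pos.ne')]
    exact (mul_left_cancel₀ (Nat.cast_ne_zero.mpr Nat.card_pos.ne') h1).symm
  let ζH : IrrCharacter H := ⟨_, hchi⟩
  have hdegH : charDegree (ζH : H → ℂ) = p - 2 := by
    have h := (Blocks.irr_degree_eq ζH).1
    rw [show (ζH : H → ℂ) 1 = (χ : G → ℂ) 1 from rfl, hd] at h
    exact_mod_cast h.symm
  obtain ⟨hcen, a, F, instF, instFF, hpa, hF, ⟨e⟩⟩ := exists_field D (by
    obtain ⟨k, hk⟩ := (Fact.out : p.Prime).odd_of_ne_two (by omega); omega) (ζ := ζH) hdegH fun g hg =>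
    Subtype.ext (hfaith g hg)
  refine ⟨a, F, instF, instFF, hpa, hF, ⟨(MulEquiv.ofBijective φ ⟨?_, hφsurj⟩).symm.trans
    (MulEquiv.prodCongr e (MulEquiv.refl _))⟩⟩
  rw [← MonoidHom.ker_eq_bot_iff, Subgroup.eq_bot_iff_forall]
  intro q hq
  rw [MonoidHom.mem_ker, hφ] at hq
  have h1 : (q.1 : G) = (q.2 : G)⁻¹ := eq_inv_of_mul_eq_one_left hq
  have h2 : q.1 ∈ Subgroup.center H := Subgroup.mem_center_iff.mpr fun y => Subtype.ext (by
    show (y : G) * q.1 = q.1 * y
    rw [h1]; exact Subgroup.mem_center_iff.mp (inv_mem q.2.2) y)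
  rw [hcen, Subgroup.mem_bot] at h2
  rw [h2, Subgroup.coe_one, one_mul] at hq
  exact Prod.ext h2 (Subtype.ext hq)

end CfsgLib.PMinusTwo
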